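import Cfsg.Agent.Chars.NDAD.Basic
import Cfsg.Agent.Chars.ThreeDegreesMain
import Cfsg.Agent.Coprime.Generation
import Cfsg.Agent.S4456

/-!
# The two cases: a nonabelian quotient of prime power order, or a Frobenius quotient
-/

set_option autoImplicit false
set_option linter.unusedSectionVars false
set_option linter.style.haveILetI false

namespace Cfsg.Lib.NDAD

open Cfsg.Lib.Chars
open scoped commutatorElement

universe u

variable {G : Type u} [Group G] [Finite G]

/-- A nonabelian quotient of prime power order: two degrees. -/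
theorem degrees_of_pGroup_quotient (hnd : NDAD G) {p : ℕ} (hp : p.Prime) (K : Subgroup G) [K.Normal]
    (hpK : IsPGroup p (G ⧸ K)) (hK : ¬ commutator G ≤ K) :
    ∃ m : ℕ, ∀ χ : G → ℂ, Cfsg.IsIrrCharacter G χ → deg χ = 1 ∨ deg χ = m := by
  classical
  haveI := Fact.mk hp
  haveI := Fintype.ofFinite G
  haveI := Fintype.ofFinite K
  -- a nonlinear character of the quotient
  obtain ⟨χ₀, hχ₀, hχ₀K, hχ₀1⟩ : ∃ χ : G → ℂ, Cfsg.IsIrrCharacter G χ ∧ (∀ k ∈ K, χ k = χ 1) ∧ deg χ ≠ 1 := by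
    by_contra h
    push Not at h
    exact hK (Subgroup.commutator_le.2 fun a _ b _ => commutator_mem_of_linear K (fun χ hχ => h χ χ.2 hχ) a b)
  obtain ⟨k, hk⟩ := IsPGroup.iff_card.1 hpK
  have hidx : K.index = p ^ k := hk
  obtain ⟨a, -, ha⟩ := (Nat.dvd_prime_pow hp).1 (hidx ▸ deg_dvd_index_of_le_ker hχ₀ K hχ₀K)
  have ha0 : a ≠ 0 := fun h => hχ₀1 (by rw [ha, h, pow_zero])
  -- all nonlinear degrees are divisible by `p`
  have hdiv : ∀ χ : G → ℂ, Cfsg.IsIrrCharacter G χ → deg χ ≠ 1 → p ∣ deg χ := by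
    intro χ hχ h1
    by_contra hpd
    obtain ⟨θ, hθ, hθc⟩ := exists_constituent K (isCharacter_of_irr hχ) (IsIrrCharacter.apply_one_ne_zero hχ)
    obtain ⟨m, hm, hmd⟩ := deg_over K hχ hθ hθc
    have hm1 : m = 1 := by
      obtain ⟨i, -, rfl⟩ := (Nat.dvd_prime_pow hp).1 (hidx ▸ hmd)
      rcases Nat.eq_zero_or_pos i with h | h
      · rw [h, pow_zero]
      · exact absurd (hm ▸ dvd_mul_of_dvd_left (dvd_pow_self p h.ne') _) hpd
    rw [hm1, one_mul] at hm
    have hres : (fun n : K => χ n) = θ := eq_of_inner_ne_zero_of_deg (IsCharacter.restrict (isCharacter_of_irr hχ) K)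
      hθ hθc (by
        rw [IsCharacter.apply_one_eq_deg (isCharacter_of_irr hθ), ← hm, ← IsCharacter.apply_one_eq_deg (isCharacter_of_irr hχ)]
        simp)
    obtain ⟨hirr, -⟩ := gallagher_trivial K hχ (hres ▸ hθ) hχ₀ hχ₀ (fun n => hχ₀K n n.2) (fun n => hχ₀K n n.2)
    have hmul : deg (χ₀ * χ) = deg χ₀ * deg χ := by
      apply Nat.cast_injective (R := ℂ)
      rw [Nat.cast_mul, ← IsCharacter.apply_one_eq_deg (isCharacter_of_irr hirr),
        ← IsCharacter.apply_one_eq_deg (isCharacter_of_irr hχ₀),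
        ← IsCharacter.apply_one_eq_deg (isCharacter_of_irr hχ)]
      rfl
    have h2 := hnd.eq_of_dvd hχ hirr h1 ⟨deg χ₀, by rw [hmul, mul_comm]⟩
    rw [hmul] at h2
    exact hχ₀1 (Nat.eq_of_mul_eq_mul_right (deg_pos hχ) (h2.trans (one_mul _).symm))
  obtain ⟨M, hMn, hMc, j, hj⟩ := Cfsg.Agent.S4456.result (G := G) p hp fun χ h => by
    rw [charDegree_eq_deg χ.2] at h ⊢; exact hdiv χ χ.2 h
  haveI := hMn
  haveI := Fintype.ofFinite M
  have hpθ : ∀ θ : M → ℂ, Cfsg.IsIrrCharacter M θ → ¬ p ∣ deg θ := fun θ hθ h =>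
    hp.coprime_iff_not_dvd.1 hMc.symm (h.trans (IsIrrCharacter.deg_dvd hθ))
  have hMK : M ≤ K := by
    intro x hx
    refine mem_of_coprime_pPow hp K hidx ?_
    exact hMc.coprime_dvd_left (Subgroup.orderOf_dvd_natCard M hx)
  have hMd : ¬ commutator G ≤ M := fun h => hK (h.trans hMK)
  have hQp : IsPGroup p (G ⧸ M) := IsPGroup.of_card (n := j) hj
  -- the degrees of the quotient by `M`
  have hquot : ∀ χ : G → ℂ, Cfsg.IsIrrCharacter G χ → (∀ n ∈ M, χ n = χ 1) → deg χ ≠ 1 → deg χ = p ^ a := by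
    intro χ hχ hM h1
    obtain ⟨i, -, hi⟩ := (Nat.dvd_prime_pow hp).1 (hj ▸ deg_dvd_index_of_le_ker hχ M hM)
    rcases le_total a i with h | h
    · rw [hnd.eq_of_dvd hχ₀ hχ hχ₀1 (by rw [ha, hi]; exact pow_dvd_pow p h), ha]
    · rw [← hnd.eq_of_dvd hχ hχ₀ h1 (by rw [ha, hi]; exact pow_dvd_pow p h), ha]
  -- every character of `M` is linear
  have hlinM : ∀ θ : M → ℂ, Cfsg.IsIrrCharacter M θ →
      deg θ = 1 ∧ ((inertia M θ).index = 1 ∨ (inertia M θ).index = p ^ a) := by
    intro θ hθ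
    obtain ⟨i, -, hi⟩ := (Nat.dvd_prime_pow hp).1
      (hj ▸ Subgroup.index_dvd_of_le (le_inertia (isClassFunction_isChar (isCharacter_of_irr hθ))))
    by_cases hd : (inertia M θ).index * deg θ = 1
    · exact ⟨Nat.eq_one_of_mul_eq_one_left hd, Or.inl (Nat.eq_one_of_mul_eq_one_right hd)⟩
    have hd' : 1 < (inertia M θ).index * deg θ := by
      have : 0 < (inertia M θ).index * deg θ :=
        Nat.mul_pos (Nat.pos_of_ne_zero (inertia M θ).index_ne_zero_of_finite) (deg_pos hθ)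
      omega
    have hcop : ∀ (r : ℕ) [Fact r.Prime] (S : Subgroup (G ⧸ M)), IsPGroup r S →
        S ≤ (inertia M θ).map (QuotientGroup.mk' M) → ¬ r ∣ Nat.card M ∨ IsCyclic S := by
      intro r hr S hS _
      by_cases hrp : r = p
      · subst hrp
        exact Or.inl (hp.coprime_iff_not_dvd.1 hMc.symm)
      · right
        have hbot : S = ⊥ := by
          obtain ⟨n1, hn1⟩ := IsPGroup.iff_card.1 hS
          obtain ⟨n2, hn2⟩ := IsPGroup.iff_card.1 (hQp.to_subgroup S)
          rw [← Subgroup.card_eq_one]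
          rcases Nat.eq_zero_or_pos n1 with h | h
          · rw [hn1, h, pow_zero]
          · exfalso
            exact hrp ((Nat.prime_dvd_prime_iff_eq hr.out hp).1
              (hr.out.dvd_of_dvd_pow (hn2 ▸ hn1 ▸ dvd_pow_self r h.ne')))
        subst hbot
        infer_instance
    obtain ⟨⟨χ, hχ, hχd⟩, hab⟩ := abelian_inertia hnd M hθ hcop hd'
    rcases Nat.eq_zero_or_pos i with h0 | h0
    · exfalso
      rw [hi, h0, pow_zero, one_mul] at hχd
      have h1 : deg χ ≠ 1 := by rw [hχd]; rw [hi, h0, pow_zero, one_mul] at hd; exact hd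
      exact hpθ θ hθ (hχd ▸ hdiv χ hχ h1)
    · -- the degree is at least `p ^ a`
      have hge : p ^ a ≤ (inertia M θ).index := by
        obtain ⟨φ, hφ, hφd, hφ1⟩ : ∃ φ : G → ℂ, Cfsg.IsIrrCharacter G φ ∧ (∀ n ∈ M, φ n = φ 1) ∧ deg φ ≠ 1 :=
          ⟨χ₀, hχ₀, fun n hn => hχ₀K n (hMK hn), hχ₀1⟩
        rw [← hquot φ hφ hφd hφ1]
        obtain ⟨φ', hφ', hfac⟩ := exists_factor (QuotientGroup.mk' M) (QuotientGroup.mk'_surjective M)
          (isCharacter_of_irr hφ) (fun n hn => hφd n (by rwa [QuotientGroup.ker_mk'] at hn))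
        have hirr : Cfsg.IsIrrCharacter (G ⧸ M) φ' :=
          IsIrrCharacter.descend hφ' (QuotientGroup.mk' M) (QuotientGroup.mk'_surjective M) (hfac ▸ hφ)
        rw [show deg φ = deg φ' by rw [hfac]; exact deg_comp _ _]
        refine (deg_le_index_of_abelian hirr ((inertia M θ).map (QuotientGroup.mk' M)) ?_).trans (le_of_eq ?_)
        · rintro _ ⟨x, hx, rfl⟩ _ ⟨y, hy, rfl⟩
          rw [← commutatorElement_eq_one_iff_mul_comm, ← map_commutatorElement, QuotientGroup.mk'_apply,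
            QuotientGroup.eq_one_iff]
          exact hab x hx y hy
        · exact Subgroup.index_map_eq _ (QuotientGroup.mk'_surjective M)
            (by rw [QuotientGroup.ker_mk']; exact le_inertia (isClassFunction_isChar (isCharacter_of_irr hθ)))
      rw [hi] at hge hχd ⊢
      have hai : a ≤ i := (Nat.pow_le_pow_iff_right hp.one_lt).1 hge
      have heq := hnd.eq_of_dvd hχ₀ hχ hχ₀1 (by
        rw [ha, hχd]; exact dvd_mul_of_dvd_left (pow_dvd_pow p hai) _)
      rw [ha, hχd] at heq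
      have h3 : p ^ a * (p ^ (i - a) * deg θ) = p ^ a * 1 := by
        rw [← mul_assoc, ← pow_add, Nat.add_sub_cancel' hai, mul_one]; exact heq
      have h4 := Nat.eq_of_mul_eq_mul_left (pow_pos hp.pos a) h3
      refine ⟨Nat.eq_one_of_mul_eq_one_left h4, Or.inr ?_⟩
      rw [Nat.eq_one_of_mul_eq_one_left h4, mul_one] at heq
      exact heq
  refine ⟨p ^ a, fun χ hχ => ?_⟩
  obtain ⟨θ, hθ, hθc⟩ := exists_constituent M (isCharacter_of_irr hχ) (IsIrrCharacter.apply_one_ne_zero hχ)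
  obtain ⟨hθ1, hθi⟩ := hlinM θ hθ
  by_cases h1 : deg χ = 1
  · exact Or.inl h1
  right
  obtain ⟨m, hm, hmd⟩ := deg_over M hχ hθ hθc
  rw [hθ1, mul_one] at hm
  obtain ⟨i, -, hi⟩ := (Nat.dvd_prime_pow hp).1 (hj ▸ hmd)
  rw [hi] at hm
  rcases le_total a i with h | h
  · rw [hnd.eq_of_dvd hχ₀ hχ hχ₀1 (by rw [ha, hm]; exact pow_dvd_pow p h), ha]
  · rw [← hnd.eq_of_dvd hχ hχ₀ h1 (by rw [ha, hm]; exact pow_dvd_pow p h), ha]

/-- An abelian group acting fixed point freely on an elementary abelian group is cyclic. -/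
theorem isCyclic_of_fpf {A : Type u} [CommGroup A] [Finite A] {V : Type u} [CommGroup V]
    (act : A →* MulAut V) (hfpf : ∀ a, a ≠ 1 → ∀ v, act a v = v → v = 1)
    (hv : ∃ v : V, ∀ p : ℕ, p.Prime → p ∣ Nat.card A → v ^ p ≠ 1) : IsCyclic A := by
  by_contra hcyc
  obtain ⟨p, x, y, hp, hx, hy, hxy⟩ := Cfsg.Lib.Coprime.exists_root_pair_of_not_cyclic hcyc
  obtain ⟨v, hv⟩ := hv
  refine hv p hp (hx ▸ orderOf_dvd_natCard x) ?_
  have hxp : (act x) ^ p = 1 := by rw [← map_pow, ← hx, pow_orderOf_eq_one, map_one]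
  have hyp : (act y) ^ p = 1 := by rw [← map_pow, ← hy, pow_orderOf_eq_one, map_one]
  refine (Subgroup.mem_bot).1 (Cfsg.Lib.Coprime.pow_mem_of_fixed hp hxp hyp ((Commute.all x y).map act)
    (S := ⊥) (fun w hw => Subgroup.mem_bot.2 (hfpf y (fun e => ?_) w hw))
    (fun j _ w hw => Subgroup.mem_bot.2 (hfpf (x * y ^ j) (fun e => ?_) w (by rw [map_mul, map_pow]; exact hw))) v)
  · rw [e, orderOf_one] at hy
    exact hp.one_lt.ne hy
  · have hxj : x = (y ^ j)⁻¹ := eq_inv_of_mul_eq_one_left e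
    have hxy' : x ∈ Subgroup.zpowers y := hxj ▸ Subgroup.inv_mem _ (Subgroup.pow_mem _ (Subgroup.mem_zpowers y) j)
    haveI := Fact.mk hp
    have heq : Subgroup.zpowers x = Subgroup.zpowers y :=
      Subgroup.eq_of_le_of_card_ge (Subgroup.zpowers_le.2 hxy') (by rw [Nat.card_zpowers, Nat.card_zpowers, hx, hy])
    exact hxy (heq ▸ Subgroup.mem_zpowers y)

/-- The data of the Frobenius case. -/
structure FrobData (G : Type u) [Group G] [Finite G] (q f : ℕ) (N M : Subgroup G) : Prop where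
  nd : NDAD G
  sol : Group.IsSolvable G
  pab : ∀ (p : ℕ) (K : Subgroup G) (_ : K.Normal), p.Prime → IsPGroup p (G ⧸ K) → commutator G ≤ K
  hq : q.Prime
  one_lt : 1 < f
  qf : ¬ q ∣ f
  normN : N.Normal
  normM : M.Normal
  index : N.index = f
  cyc : IsCyclic (G ⧸ N)
  leMN : M ≤ N
  copM : (Nat.card M).Coprime q
  qN : ∃ j : ℕ, M.relIndex N = q ^ j
  divN : ∀ ψ : N → ℂ, Cfsg.IsIrrCharacter N ψ → deg ψ ≠ 1 → q ∣ deg ψ
  moved : ∃ l : N →* ℂˣ, inertia N (fun n => (l n : ℂ)) = N ∧ ∀ x : N, (x : G) ∈ M → l x = 1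

/-- The reduction. -/
theorem reduce (hnd : NDAD G) [hsol : Group.IsSolvable G] :
    (∃ m : ℕ, ∀ χ : G → ℂ, Cfsg.IsIrrCharacter G χ → deg χ = 1 ∨ deg χ = m) ∨
      ∃ (q f : ℕ) (N M : Subgroup G), FrobData G q f N M := by
  classical
  haveI := Fintype.ofFinite G
  by_cases hall : ∀ χ : G → ℂ, Cfsg.IsIrrCharacter G χ → deg χ = 1
  · exact Or.inl ⟨1, fun χ hχ => Or.inl (hall χ hχ)⟩
  by_cases hA : ∃ (p : ℕ) (K : Subgroup G) (_ : K.Normal), p.Prime ∧ IsPGroup p (G ⧸ K) ∧ ¬ commutator G ≤ K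
  · obtain ⟨p, K, hKn, hp, hpK, hK⟩ := hA
    exact Or.inl (degrees_of_pGroup_quotient hnd hp K hpK hK)
  right
  push Not at hA
  have hGne : commutator G ≠ ⊥ := fun h => hall fun χ hχ => by
    have h1 := irr_deg_one_of_comm (fun x y : G => by
      rw [← commutatorElement_eq_one_iff_mul_comm, ← Subgroup.mem_bot, ← h]
      exact Subgroup.commutator_mem_commutator (Subgroup.mem_top _) (Subgroup.mem_top _)) hχ
    rw [IsCharacter.apply_one_eq_deg (isCharacter_of_irr hχ)] at h1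
    exact_mod_cast h1
  obtain ⟨K, -, hK⟩ := Finite.exists_le_maximal (p := fun K : Subgroup G => K.Normal ∧ ¬ commutator G ≤ K)
    (a := ⊥) ⟨inferInstance, fun h => hGne (le_bot_iff.1 h)⟩
  obtain ⟨hKn, hKG⟩ := hK.prop
  haveI := hKn
  letI : Fintype (G ⧸ K) := Fintype.ofFinite _
  set π := QuotientGroup.mk' K with hπ
  have hπs : Function.Surjective π := QuotientGroup.mk'_surjective K
  have hmapG : (commutator G).map π = commutator (G ⧸ K) := by
    rw [← derivedSeries_one, ← derivedSeries_one, map_derivedSeries_eq hπs]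
  have hQne : commutator (G ⧸ K) ≠ ⊥ := fun h => hKG (by
    rw [← derivedSeries_one]
    exact derived_quotient_le K (by rw [derivedSeries_one]; exact h))
  have huniq : ∀ X : Subgroup (G ⧸ K), X.Normal → X ≠ ⊥ → commutator (G ⧸ K) ≤ X := by
    intro X hX hXne
    haveI := hX
    rw [← hmapG, Subgroup.map_le_iff_le_comap]
    by_contra h
    have hle : K ≤ X.comap π := fun k hk => by
      rw [Subgroup.mem_comap, hπ, QuotientGroup.mk'_apply, (QuotientGroup.eq_one_iff k).2 hk]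
      exact X.one_mem
    have h1 : X.comap π ≤ K := hK.le_of_ge ⟨inferInstance, h⟩ hle
    refine hXne (le_bot_iff.1 fun x hx => ?_)
    obtain ⟨y, rfl⟩ := hπs x
    rw [Subgroup.mem_bot, hπ, QuotientGroup.mk'_apply, QuotientGroup.eq_one_iff]
    exact h1 hx
  have habq : ∀ x ∈ commutator (G ⧸ K), ∀ y ∈ commutator (G ⧸ K), x * y = y * x := by
    intro x hx y hy
    haveI : Nontrivial (commutator (G ⧸ K)) := (Subgroup.nontrivial_iff_ne_bot _).2 hQne
    haveI : Group.IsSolvable (G ⧸ K) := inferInstance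
    have hlt : ⁅commutator (G ⧸ K), commutator (G ⧸ K)⁆ ≠ commutator (G ⧸ K) := fun h =>
      (Group.IsSolvable.commutator_lt_top_of_nontrivial (G := commutator (G ⧸ K))).ne
        (Subgroup.map_injective (commutator (G ⧸ K)).subtype_injective (by
          rw [Subgroup.map_subtype_commutator, h, ← MonoidHom.range_eq_map, Subgroup.range_subtype]))
    have hbot : ⁅commutator (G ⧸ K), commutator (G ⧸ K)⁆ = ⊥ := by
      by_contra hne
      exact hlt (le_antisymm (Subgroup.commutator_le_self _) (huniq _ inferInstance hne))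
    rw [← commutatorElement_eq_one_iff_mul_comm, ← Subgroup.mem_bot, ← hbot]
    exact Subgroup.commutator_mem_commutator hx hy
  obtain ⟨r, hr, hexp, hcase⟩ := minimal_derived hQne habq huniq
  haveI := Fact.mk hr
  rcases hcase with hp | ⟨hfpf, hne, hlt, hrn⟩
  · exact absurd (hA r K hKn hr hp) hKG
  set N := (commutator (G ⧸ K)).comap π with hN
  haveI : N.Normal := inferInstance
  letI : Fintype N := Fintype.ofFinite N
  have hKN : K ≤ N := fun k hk => by
    rw [hN, Subgroup.mem_comap, hπ, QuotientGroup.mk'_apply, (QuotientGroup.eq_one_iff k).2 hk]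
    exact Subgroup.one_mem _
  have hmk : ∀ x : G, π x = 1 ↔ x ∈ K := fun x => QuotientGroup.eq_one_iff x
  have hidxN : N.index = (commutator (G ⧸ K)).index := Subgroup.index_comap_of_surjective _ hπs
  have hrel : K.relIndex N = Nat.card (commutator (G ⧸ K)) := by
    have h := Subgroup.relIndex_comap (H := (⊥ : Subgroup (G ⧸ K))) π N
    rw [MonoidHom.comap_bot, hπ, QuotientGroup.ker_mk', Subgroup.relIndex_bot_left] at h
    rw [h, hN, Subgroup.map_comap_eq_self_of_surjective hπs]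
  have htwist : ∀ ψ : N → ℂ, Cfsg.IsIrrCharacter N ψ → ¬ r ∣ deg ψ →
      ∃ χ : G → ℂ, Cfsg.IsIrrCharacter G χ ∧ deg χ = N.index * deg ψ := by
    intro ψ hψ hd
    refine exists_twist N K r hr hKN (fun n hn => ?_) (fun n hn n' hn' => ?_) (fun g hg n hn => ?_)
      (hidxN ▸ hrel ▸ hlt.le) hψ hd
    · rw [← hmk, map_pow]; exact hexp _ hn
    · rw [← hmk, map_commutatorElement, commutatorElement_eq_one_iff_mul_comm]; exact habq _ hn _ hn'
    · obtain ⟨x, hx, hxn⟩ := hfpf (π g) hg (π n) hn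
      obtain ⟨y, rfl⟩ := hπs x
      refine ⟨y, hx, ?_⟩
      rw [← hmk, map_mul, map_inv, map_commutatorElement, hxn, inv_mul_cancel]
  have hf1 : 1 < N.index := by
    have h0 : 0 < N.index := Nat.pos_of_ne_zero N.index_ne_zero_of_finite
    have h1 : N.index ≠ 1 := by rw [hidxN, Ne, Subgroup.index_eq_one]; exact hne
    omega
  obtain ⟨χf, hχf, hdf⟩ := htwist _ (isIrrCharacter_one (G := N)) (by
    rw [show deg (fun _ : N => (1 : ℂ)) = 1 by simp [deg]]; exact hr.not_dvd_one)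
  rw [show deg (fun _ : N => (1 : ℂ)) = 1 by simp [deg], mul_one] at hdf
  have hdivN : ∀ ψ : N → ℂ, Cfsg.IsIrrCharacter N ψ → deg ψ ≠ 1 → r ∣ deg ψ := by
    intro ψ hψ h1
    by_contra hd
    obtain ⟨χ, hχ, hχd⟩ := htwist ψ hψ hd
    have h := hnd.eq_of_dvd hχf hχ (by omega) (by rw [hdf, hχd]; exact dvd_mul_right _ _)
    rw [hdf, hχd] at h
    exact h1 (Nat.eq_of_mul_eq_mul_left (by omega) (h.trans (mul_one _).symm))
  -- the quotient by `N` is cyclic
  have hcyc : IsCyclic (G ⧸ N) := by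
    set A := commutator (G ⧸ K) with hA'
    haveI : A.Normal := inferInstance
    haveI hcA : IsCyclic ((G ⧸ K) ⧸ A) := by
      have hcQ : ∀ x y : (G ⧸ K) ⧸ A, x * y = y * x := fun x y => by
        obtain ⟨x, rfl⟩ := QuotientGroup.mk_surjective x
        obtain ⟨y, rfl⟩ := QuotientGroup.mk_surjective y
        refine commutatorElement_eq_one_iff_mul_comm.1 ?_
        rw [← QuotientGroup.mk'_apply, ← QuotientGroup.mk'_apply, ← map_commutatorElement,
          QuotientGroup.mk'_apply, QuotientGroup.eq_one_iff]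
        exact Subgroup.commutator_mem_commutator (Subgroup.mem_top _) (Subgroup.mem_top _)
      letI : CommGroup ((G ⧸ K) ⧸ A) := { mul_comm := hcQ }
      letI : CommGroup A := { mul_comm := fun x y => Subtype.ext (habq x x.2 y y.2) }
      let act : (G ⧸ K) ⧸ A →* MulAut A := QuotientGroup.lift A MulAut.conjNormal (fun x hx => MulEquiv.ext fun a =>
        Subtype.ext (by
          rw [MulAut.conjNormal_apply, habq x hx a a.2, mul_inv_cancel_right]
          rfl))
      obtain ⟨v, hv⟩ := Subgroup.ne_bot_iff_exists_ne_one.1 hQne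
      refine isCyclic_of_fpf act ?_ ⟨v, fun p hp hpd hvp => hv ?_⟩
      · intro a ha w hw
        induction a using QuotientGroup.induction_on with
        | _ x =>
          have hxA : x ∉ A := fun h => ha ((QuotientGroup.eq_one_iff x).2 h)
          let Φ : A → A := fun z => ⟨⁅x, (z : G ⧸ K)⁆,
            Subgroup.commutator_mem_commutator (Subgroup.mem_top _) (Subgroup.mem_top _)⟩
          have hsurj : Function.Surjective Φ := fun n => by
            obtain ⟨z, hz, hzn⟩ := hfpf x hxA n n.2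
            exact ⟨⟨z, hz⟩, Subtype.ext hzn⟩
          refine Finite.injective_iff_surjective.2 hsurj (Subtype.ext ?_)
          show ⁅x, (w : G ⧸ K)⁆ = ⁅x, ((1 : A) : G ⧸ K)⁆
          have hwx : x * (w : G ⧸ K) * x⁻¹ = w := congrArg Subtype.val hw
          rw [OneMemClass.coe_one, commutatorElement_one_right, commutatorElement_def, hwx, mul_inv_cancel]
      · have hvr : v ^ r = 1 := Subtype.ext (by simpa using hexp v v.2)
        have h3 := (pow_gcd_eq_one (m := r) (n := p)).mpr ⟨hvr, hvp⟩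
        have hrp : r ≠ p := fun e => hrn (e ▸ hpd)
        rwa [((Nat.coprime_primes hr hp).2 hrp : Nat.gcd r p = 1), pow_one] at h3
    let g : G →* (G ⧸ K) ⧸ A := (QuotientGroup.mk' A).comp π
    have hker : N ≤ g.ker := fun x hx => (QuotientGroup.eq_one_iff _).2 hx
    refine isCyclic_of_injective (QuotientGroup.lift N g hker) ?_
    rw [injective_iff_map_eq_one]
    intro z
    induction z using QuotientGroup.induction_on with
    | _ x =>
      intro hz
      exact (QuotientGroup.eq_one_iff x).2 ((QuotientGroup.eq_one_iff (π x)).1 hz)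
  obtain ⟨M₀, hM₀n, hM₀c, j, hj⟩ := Cfsg.Agent.S4456.result (G := N) r hr fun ψ h => by
    rw [charDegree_eq_deg ψ.2] at h ⊢; exact hdivN ψ ψ.2 h
  haveI := hM₀n
  haveI hM₀char : M₀.Characteristic := by
    refine Subgroup.characteristic_iff_le_comap.2 fun φ x hx => ?_
    rw [Subgroup.mem_comap]
    refine mem_of_coprime_pPow hr M₀ hj ?_
    rw [MulEquiv.coe_toMonoidHom, MulEquiv.orderOf_eq]
    exact hM₀c.coprime_dvd_left (Subgroup.orderOf_dvd_natCard M₀ hx)
  refine ⟨r, N.index, N, M₀.map N.subtype, hnd, hsol, fun p K' hK' hp hpK => hA p K' hK' hp hpK, hr, hf1,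
    hidxN ▸ hrn, inferInstance, inferInstance, rfl, hcyc, Subgroup.map_subtype_le _, ?_, ⟨j, ?_⟩, hdivN, ?_⟩
  · rwa [Subgroup.card_map_of_injective N.subtype_injective]
  · rw [Subgroup.relIndex, Subgroup.subgroupOf, Subgroup.comap_map_eq_self_of_injective N.subtype_injective, hj]
  · have hNab : ∀ a ∈ N, ∀ b ∈ N, ⁅a, b⁆ ∈ K := fun a ha b hb => by
      rw [← hmk, map_commutatorElement, commutatorElement_eq_one_iff_mul_comm]
      exact habq _ ha _ hb
    have hNK : ¬ N ≤ K := fun h => hQne (by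
      rw [← Subgroup.map_comap_eq_self_of_surjective hπs (commutator (G ⧸ K)), ← hN, Subgroup.map_eq_bot_iff, hπ,
        QuotientGroup.ker_mk']
      exact h)
    obtain ⟨x₀, hx₀, hx₀K⟩ := SetLike.not_le_iff_exists.1 hNK
    obtain ⟨l, hl, hlne⟩ := exists_linK_ne_one hNab (x := ⟨x₀, hx₀⟩) hx₀K
    refine ⟨l, le_antisymm (fun g hg => ?_) (le_inertia (isClassFunction_isChar
      (isCharacter_of_irr (isIrrCharacter_linear l)))), fun x hx => ?_⟩
    · by_contra hgN
      obtain ⟨x, hx, hxn⟩ := hfpf (π g) hgN (π x₀) hx₀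
      obtain ⟨y, rfl⟩ := hπs x
      have hy : y ∈ N := hx
      let u : N := ⟨⁅g, y⁆, by
        rw [commutatorElement_def]
        exact mul_mem ((inferInstance : N.Normal).conj_mem y hy g) (inv_mem hy)⟩
      have hu : ((⟨x₀, hx₀⟩ : N)⁻¹ * u : N).1 ∈ K := by
        rw [← hmk]
        show π (x₀⁻¹ * ⁅g, y⁆) = 1
        rw [map_mul, map_inv, map_commutatorElement, hxn, inv_mul_cancel]
      have h1 := hl _ hu
      rw [map_mul, map_inv, inv_mul_eq_one] at h1
      refine hlne (h1.trans ?_)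
      rw [show u = ⟨g * y * g⁻¹, (inferInstance : N.Normal).conj_mem y hy g⟩ * (⟨y, hy⟩ : N)⁻¹ from
        Subtype.ext (by simp [u, commutatorElement_def]), map_mul, map_inv]
      have h2 : l ⟨g * y * g⁻¹, (inferInstance : N.Normal).conj_mem y hy g⟩ = l ⟨y, hy⟩ :=
        Units.ext (congrFun (mem_inertia.1 hg) ⟨y, hy⟩)
      rw [h2, mul_inv_cancel]
    · obtain ⟨⟨z, hzN⟩, hz, rfl⟩ : ∃ z : N, z ∈ M₀ ∧ z = x := by
        obtain ⟨z, hz, e⟩ := hx
        exact ⟨z, hz, Subtype.ext e⟩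
      have h1 : (l ⟨z, hzN⟩) ^ r = 1 := by
        rw [← map_pow]
        exact hl _ (by rw [← hmk, Subgroup.coe_pow, map_pow]; exact hexp _ hzN)
      have h2 : (l ⟨z, hzN⟩) ^ Nat.card M₀ = 1 := by
        rw [← map_pow, show (⟨z, hzN⟩ : N) ^ Nat.card M₀ = 1 from
          congrArg Subtype.val (pow_card_eq_one' (x := (⟨_, hz⟩ : M₀))), map_one]
      have h3 := pow_gcd_eq_one.2 ⟨h2, h1⟩
      rwa [hM₀c.gcd_eq_one, pow_one] at h3

end Cfsg.Lib.NDAD
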