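import Cfsg.Agent.Chars.NDAD.Basic
import Mathlib.GroupTheory.Perm.Cycle.Type

/-!
# An abelian normal subgroup with cyclic quotient and only full or trivial orbits on linear characters
-/

set_option autoImplicit false
set_option linter.unusedSectionVars false
set_option linter.style.haveILetI false

namespace Cfsg.Lib.NDAD

open Cfsg.Lib.Chars
open scoped commutatorElement

universe u

variable {H : Type u} [Group H]

/-- `x ↦ ⁅g, x⁆` on an abelian normal subgroup. -/
def commHom (A : Subgroup H) [A.Normal] (hab : ∀ a ∈ A, ∀ b ∈ A, a * b = b * a) (g : H) : A →* A where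
  toFun x := ⟨⁅g, (x : H)⁆, by
    rw [commutatorElement_def]
    exact A.mul_mem ((inferInstance : A.Normal).conj_mem _ x.2 g) (A.inv_mem x.2)⟩
  map_one' := Subtype.ext (by simp)
  map_mul' := fun x y => Subtype.ext (by
    simp only [Subgroup.coe_mul]
    have h1 : ⁅g, (x : H) * y⁆ = ⁅g, (x : H)⁆ * ((x : H) * ⁅g, (y : H)⁆ * (x : H)⁻¹) := by
      simp only [commutatorElement_def]; group
    have h2 : ⁅g, (y : H)⁆ ∈ A := by
      rw [commutatorElement_def]
      exact A.mul_mem ((inferInstance : A.Normal).conj_mem _ y.2 g) (A.inv_mem y.2)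
    rw [h1, hab _ x.2 _ h2, mul_inv_cancel_right])

theorem commHom_apply (A : Subgroup H) [A.Normal] (hab : ∀ a ∈ A, ∀ b ∈ A, a * b = b * a) (g : H) (x : A) :
    ((commHom A hab g x : A) : H) = ⁅g, (x : H)⁆ := rfl

theorem conj_pow_of_comm {g y x : H} (h1 : g * y * g⁻¹ = x * y) (h2 : g * x * g⁻¹ = x) (i : ℕ) :
    g ^ i * y * (g ^ i)⁻¹ = x ^ i * y := by
  induction i with
  | zero => simp
  | succ i ih =>
    calc g ^ (i + 1) * y * (g ^ (i + 1))⁻¹ = g * (g ^ i * y * (g ^ i)⁻¹) * g⁻¹ := by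
          rw [pow_succ']; group
      _ = (g * x * g⁻¹) ^ i * (g * y * g⁻¹) := by rw [ih, conj_pow]; group
      _ = x ^ (i + 1) * y := by rw [h1, h2, pow_succ, mul_assoc]

variable [Finite H]

/-- The structure of such a group. -/
theorem abelian_frobenius (A : Subgroup H) [A.Normal] (hab : ∀ a ∈ A, ∀ b ∈ A, a * b = b * a) {f : ℕ}
    (hf : 1 < f) (hidx : A.index = f) (hcyc : IsCyclic (H ⧸ A))
    (horb : ∀ l : A →* ℂˣ, inertia A (fun a => (l a : ℂ)) = A ∨ inertia A (fun a => (l a : ℂ)) = ⊤)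
    (pab : ∀ (p : ℕ) (K : Subgroup H) (_ : K.Normal), p.Prime → IsPGroup p (H ⧸ K) → commutator H ≤ K) :
    ∃ D Z : Subgroup H, D.Normal ∧ Z.Normal ∧ D ≤ A ∧ Z ≤ A ∧ D ⊓ Z = ⊥ ∧ D ⊔ Z = A ∧ D = commutator H ∧
      (∀ z ∈ Z, ∀ h : H, h * z = z * h) ∧ (∀ g : H, g ∉ A → ∀ x ∈ A, g * x = x * g → x ∈ Z) ∧
      (Nat.card D).Coprime f := by
  classical
  haveI := Fintype.ofFinite H
  haveI := hcyc
  obtain ⟨c, hc⟩ := IsCyclic.exists_zpow_surjective (G := H ⧸ A)
  obtain ⟨j, rfl⟩ := QuotientGroup.mk_surjective c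
  have hord : orderOf (QuotientGroup.mk j : H ⧸ A) = f := by
    rw [← hidx, Subgroup.index]
    exact orderOf_eq_card_of_forall_mem_zpowers fun x => Subgroup.mem_zpowers_iff.2 (hc x)
  have hgen : ∀ g : H, ∃ k : ℤ, (j ^ k)⁻¹ * g ∈ A := fun g => by
    obtain ⟨k, hk⟩ := hc (QuotientGroup.mk g)
    exact ⟨k, QuotientGroup.eq.1 ((QuotientGroup.mk_zpow A j k).trans hk)⟩
  have hjA : j ∉ A := fun h => by
    rw [(QuotientGroup.eq_one_iff j).2 h, orderOf_one] at hord
    omega
  have hjpow : ∀ k : ℕ, j ^ k ∈ A ↔ f ∣ k := fun k => by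
    rw [← hord, orderOf_dvd_iff_pow_eq_one, ← QuotientGroup.mk_pow, QuotientGroup.eq_one_iff]
  set ε := commHom A hab
  have hker : ∀ g (x : A), ε g x = 1 ↔ g * x = x * g := fun g x => by
    rw [← commutatorElement_eq_one_iff_mul_comm, ← commHom_apply A hab g x, OneMemClass.coe_eq_one]
  -- commuting with `j` means commuting with everything
  have hcent : ∀ x : A, ε j x = 1 → ∀ h : H, h * x = x * h := by
    intro x hx h
    obtain ⟨k, hk⟩ := hgen h
    have h1 : Commute ((j ^ k)⁻¹ * h) (x : H) := hab _ hk x x.2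
    have h2 : Commute (j ^ k) (x : H) := Commute.zpow_left ((hker j x).1 hx) k
    have h3 := h2.mul_left h1
    rwa [mul_inv_cancel_left] at h3
  -- all commutator maps outside `A` have the same image
  have hfix : ∀ (g : H) (l : A →* ℂˣ), g ∈ inertia A (fun a => (l a : ℂ)) ↔ ∀ x : A, l (ε g x) = 1 := by
    intro g l
    rw [mem_inertia, funext_iff]
    refine forall_congr' fun x => ?_
    have e : (⟨g * x * g⁻¹, (inferInstance : A.Normal).conj_mem x x.2 g⟩ : A) = ε g x * x :=
      Subtype.ext (by rw [Subgroup.coe_mul, commHom_apply, commutatorElement_def, inv_mul_cancel_right])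
    show ((l ⟨g * x * g⁻¹, _⟩ : ℂˣ) : ℂ) = (l x : ℂ) ↔ _
    rw [e, Units.val_inj, map_mul, mul_eq_right]
  haveI : ∀ g, ((ε g).range).Normal := fun g => ⟨fun a ha b => by
    have : b * a * b⁻¹ = a := by
      rw [Subtype.ext (hab b b.2 a a.2) (a1 := b * a) (a2 := a * b), mul_inv_cancel_right]
    rwa [this]⟩
  have habA : ∀ g, ∀ a ∈ (⊤ : Subgroup A), ∀ b ∈ (⊤ : Subgroup A), ⁅a, b⁆ ∈ (ε g).range := fun g a _ b _ => by
    rw [commutatorElement_eq_one_iff_mul_comm.2 (Subtype.ext (hab a a.2 b b.2))]; exact one_mem _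
  have hsub : ∀ g₁ g₂ : H, g₁ ∉ A → g₂ ∉ A → (ε g₁).range ≤ (ε g₂).range := by
    intro g₁ g₂ h₁ h₂ z hz
    obtain ⟨x, rfl⟩ := hz
    refine mem_of_forall_linK (x := ⟨ε g₁ x, Subgroup.mem_top _⟩) (habA g₂) fun l hl => ?_
    let l' : A →* ℂˣ := l.comp Subgroup.topEquiv.symm.toMonoidHom
    have h2 : g₂ ∈ inertia A (fun a => (l' a : ℂ)) := (hfix g₂ l').2 fun y => hl _ ⟨y, rfl⟩
    rcases horb l' with h | h
    · exact absurd (h ▸ h2) h₂
    · exact (hfix g₁ l').1 (h ▸ Subgroup.mem_top g₁) x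
  have hrange : ∀ g, g ∉ A → (ε g).range = (ε j).range := fun g hg =>
    le_antisymm (hsub g j hg hjA) (hsub j g hjA hg)
  have hkereq : ∀ g, g ∉ A → (ε g).ker = (ε j).ker := fun g hg => by
    refine (Subgroup.eq_of_le_of_card_ge (fun x hx => ?_) ?_).symm
    · exact (hker g x).2 (hcent x hx g)
    · have h1 := (ε g).ker.card_mul_index
      have h2 := (ε j).ker.card_mul_index
      rw [Subgroup.index_ker, hrange g hg] at h1
      rw [Subgroup.index_ker] at h2
      exact le_of_eq (Nat.eq_of_mul_eq_mul_right (Nat.card_pos (α := (ε j).range)) (h1.trans h2.symm))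
  set D := (ε j).range.map A.subtype with hD
  set Z := (ε j).ker.map A.subtype with hZ
  have hDA : D ≤ A := Subgroup.map_subtype_le _
  have hZA : Z ≤ A := Subgroup.map_subtype_le _
  have hZc : ∀ z ∈ Z, ∀ h : H, h * z = z * h := by
    rintro _ ⟨x, hx, rfl⟩ h
    exact hcent x hx h
  have hDcomm : D ≤ commutator H := by
    rintro _ ⟨_, ⟨x, rfl⟩, rfl⟩
    exact Subgroup.commutator_mem_commutator (Subgroup.mem_top _) (Subgroup.mem_top _)
  have hmemD : ∀ g : H, ∀ x ∈ A, ⁅g, x⁆ ∈ D := by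
    intro g x hx
    by_cases hg : g ∈ A
    · rw [commutatorElement_eq_one_iff_mul_comm.2 (hab g hg x hx)]; exact one_mem _
    · exact ⟨ε g ⟨x, hx⟩, hrange g hg ▸ ⟨⟨x, hx⟩, rfl⟩, rfl⟩
  haveI hDn : D.Normal := ⟨fun d hd g => by
    have h : g * d * g⁻¹ = ⁅g, d⁆ * d := by rw [commutatorElement_def, inv_mul_cancel_right]
    rw [h]
    exact D.mul_mem (hmemD g d (hDA hd)) hd⟩
  have hDeq : D = commutator H := by
    refine le_antisymm hDcomm ?_
    rw [commutator_def, Subgroup.commutator_le]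
    intro a _ b _
    rw [← QuotientGroup.eq_one_iff, ← QuotientGroup.mk'_apply, map_commutatorElement,
      commutatorElement_eq_one_iff_mul_comm]
    obtain ⟨k, hk⟩ := hgen a
    obtain ⟨l, hl⟩ := hgen b
    set π := QuotientGroup.mk' D
    have hc : ∀ (g : H), ∀ x ∈ A, Commute (π g) (π x) := fun g x hx => by
      rw [Commute, SemiconjBy, ← commutatorElement_eq_one_iff_mul_comm, ← map_commutatorElement,
        QuotientGroup.mk'_apply, QuotientGroup.eq_one_iff]
      exact hmemD g x hx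
    have ea : π a = π (j ^ k) * π ((j ^ k)⁻¹ * a) := by rw [← map_mul, mul_inv_cancel_left]
    have eb : π b = π (j ^ l) * π ((j ^ l)⁻¹ * b) := by rw [← map_mul, mul_inv_cancel_left]
    rw [ea, eb]
    exact (((Commute.zpow_zpow_self j k l).map π).mul_right (hc _ _ hl)).mul_left
      (((hc _ _ hk).symm).mul_right (hc _ _ hl))
  have hinf : D ⊓ Z = ⊥ := by
    rw [eq_bot_iff]
    rintro x ⟨⟨_, ⟨y, rfl⟩, rfl⟩, hxZ⟩
    rw [Subgroup.mem_bot]
    by_contra hx
    change ⁅j, (y : H)⁆ ≠ 1 at hx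
    change ⁅j, (y : H)⁆ ∈ Z at hxZ
    set x := ⁅j, (y : H)⁆ with hxdef
    obtain ⟨p, hp, hpx⟩ := Nat.exists_prime_and_dvd (fun h => hx (orderOf_eq_one_iff.1 h) : orderOf x ≠ 1)
    obtain ⟨m, hm⟩ := hpx
    set y' := y ^ m with hy'
    set x' := x ^ m with hx'
    have hx'y : ⁅j, (y' : H)⁆ = x' := by
      rw [← commHom_apply A hab j y', hy', map_pow, Subgroup.coe_pow, commHom_apply]
    have hxp : orderOf x' = p := by
      rw [hx', orderOf_pow, hm, Nat.gcd_mul_left_left, Nat.mul_div_cancel _ ?_]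
      rcases Nat.eq_zero_or_pos m with h | h
      · rw [h, mul_zero] at hm; exact absurd hm (orderOf_pos x).ne'
      · exact h
    have hx'Z : x' ∈ Z := Z.pow_mem hxZ m
    have hstep : ∀ i : ℕ, j ^ i * (y' : H) * (j ^ i)⁻¹ = x' ^ i * y' :=
      conj_pow_of_comm (by rw [← hx'y, commutatorElement_def, inv_mul_cancel_right])
        (by rw [hZc x' hx'Z j, mul_inv_cancel_right])
    have hpf : p ∣ f := by
      rw [← hxp, orderOf_dvd_iff_pow_eq_one]
      have h := hstep f
      rw [hab _ ((hjpow f).2 dvd_rfl) _ y'.2, mul_inv_cancel_right] at h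
      exact mul_eq_right.1 h.symm
    have hjp : j ^ p ∈ A := by
      by_contra hjp
      have h := hstep p
      rw [show x' ^ p = 1 by rw [← hxp, pow_orderOf_eq_one], one_mul, mul_inv_eq_iff_eq_mul] at h
      have hy : y' ∈ (ε (j ^ p)).ker := (hker _ _).2 h
      rw [hkereq _ hjp] at hy
      have h1 := (hker j y').1 hy
      rw [← commutatorElement_eq_one_iff_mul_comm, hx'y] at h1
      rw [h1, orderOf_one] at hxp
      exact hp.one_lt.ne hxp
    have hfp : f = p := Nat.dvd_antisymm ((hjpow p).1 hjp) hpf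
    haveI := Fact.mk hp
    let B : Subgroup H :=
      { carrier := {a | a ∈ A ∧ (orderOf a).Coprime p}
        one_mem' := ⟨A.one_mem, by rw [orderOf_one]; exact Nat.coprime_one_left p⟩
        mul_mem' := fun {a b} ha hb => ⟨A.mul_mem ha.1 hb.1, Nat.Coprime.coprime_dvd_left
          ((Commute.orderOf_mul_dvd_lcm (show Commute a b from hab a ha.1 b hb.1)).trans (Nat.lcm_dvd_mul _ _))
          (Nat.Coprime.mul_left ha.2 hb.2)⟩
        inv_mem' := fun {a} ha => ⟨A.inv_mem ha.1, by rw [orderOf_inv]; exact ha.2⟩ }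
    haveI hBn : B.Normal := ⟨fun a ha g => ⟨(inferInstance : A.Normal).conj_mem a ha.1 g, by
      rw [← MulAut.conj_apply, MulEquiv.orderOf_eq]; exact ha.2⟩⟩
    have hBp : IsPGroup p (H ⧸ B) := by
      intro z
      induction z using QuotientGroup.induction_on with
      | _ h =>
        have hhp : h ^ p ∈ A := by rw [← hfp, ← hidx]; exact A.pow_index_mem h
        obtain ⟨i, m', hm', hm'e⟩ := Nat.exists_eq_pow_mul_and_not_dvd (orderOf_pos (h ^ p)).ne' p hp.ne_one
        refine ⟨i + 1, ?_⟩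
        rw [← QuotientGroup.mk_pow, QuotientGroup.eq_one_iff, pow_succ', pow_mul]
        refine ⟨A.pow_mem hhp _, ((hp.coprime_iff_not_dvd.2 hm').symm).coprime_dvd_left ?_⟩
        rw [orderOf_dvd_iff_pow_eq_one, ← pow_mul, ← hm'e, pow_orderOf_eq_one]
    have hxB : x' ∈ B := pab p B hBn hp hBp (by
      rw [← hx'y]; exact Subgroup.commutator_mem_commutator (Subgroup.mem_top _) (Subgroup.mem_top _))
    exact hp.one_lt.ne' (Nat.coprime_self p |>.1 (hxp ▸ hxB.2))
  have hfix' : ∀ g : H, g ∉ A → ∀ x ∈ A, g * x = x * g → x ∈ Z := fun g hg x hx h =>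
    ⟨⟨x, hx⟩, hkereq g hg ▸ ((hker g ⟨x, hx⟩).2 h), rfl⟩
  refine ⟨D, Z, hDn, ⟨fun z hz g => by rw [hZc z hz g, mul_inv_cancel_right]; exact hz⟩, hDA, hZA, hinf, ?_,
    hDeq, hZc, hfix', ?_⟩
  · refine Subgroup.eq_of_le_of_card_ge (sup_le hDA hZA) (le_of_eq ?_)
    haveI : Z.Normal := ⟨fun z hz g => by rw [hZc z hz g, mul_inv_cancel_right]; exact hz⟩
    have h1 : Nat.card A = Nat.card Z * Nat.card D := by
      rw [hD, hZ, Subgroup.card_map_of_injective A.subtype_injective,
        Subgroup.card_map_of_injective A.subtype_injective, ← Subgroup.index_ker, Subgroup.card_mul_index]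
    rw [h1, ← Subgroup.card_mul_index (Z.subgroupOf (D ⊔ Z)),
      Nat.card_congr (Subgroup.subgroupOfEquivOfLe (le_sup_right : Z ≤ D ⊔ Z)).toEquiv]
    congr 1
    show Nat.card D = Z.relIndex (D ⊔ Z)
    rw [sup_comm, Subgroup.relIndex_sup_left, ← Subgroup.inf_relIndex_left, hinf, Subgroup.relIndex_bot_left]
  · refine Nat.coprime_of_dvd fun p hp hpD hpf => ?_
    haveI := Fact.mk hp
    obtain ⟨k, hk⟩ := hpf
    have hg : j ^ k ∉ A := fun h => by
      have := Nat.le_of_dvd (Nat.pos_of_ne_zero fun h0 => by rw [h0, mul_zero] at hk; omega) ((hjpow k).1 h)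
      have h2 := hp.two_le
      nlinarith
    let W : Type u := {x : D // x ^ p = 1}
    have hpW : p ∣ Fintype.card W := by
      let W' : Subgroup D :=
        { carrier := {x | x ^ p = 1}
          one_mem' := one_pow p
          mul_mem' := fun {a b} ha hb => by
            rw [Set.mem_setOf_eq] at *
            rw [(show Commute a b from Subtype.ext (hab _ (hDA a.2) _ (hDA b.2))).mul_pow, ha, hb, one_mul]
          inv_mem' := fun {a} ha => by rw [Set.mem_setOf_eq] at *; rw [inv_pow, ha, inv_one] }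
      obtain ⟨x, hx⟩ := exists_prime_orderOf_dvd_card' (G := D) p hpD
      have h := Subgroup.orderOf_dvd_natCard W' (x := x) (show x ^ p = 1 by rw [← hx, pow_orderOf_eq_one])
      rw [hx] at h
      rw [← Nat.card_eq_fintype_card]
      exact h
    let τ : MulAut D := MulAut.conjNormal (j ^ k)
    let σ : Equiv.Perm W :=
      { toFun := fun x => ⟨τ x.1, by rw [← map_pow, x.2, map_one]⟩
        invFun := fun x => ⟨τ.symm x.1, by rw [← map_pow, x.2, map_one]⟩
        left_inv := fun x => Subtype.ext (τ.symm_apply_apply _)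
        right_inv := fun x => Subtype.ext (τ.apply_symm_apply _) }
    have hσi : ∀ (i : ℕ) (x : W), ((σ ^ i) x).1 = (τ ^ i) x.1 := by
      intro i
      induction i with
      | zero => intro x; rfl
      | succ i ih =>
        intro x
        rw [pow_succ, pow_succ, Equiv.Perm.mul_apply, MulAut.mul_apply, ih]
        rfl
    have hσ : σ ^ p ^ 1 = 1 := Equiv.ext fun x => Subtype.ext (by
      rw [pow_one, hσi, Equiv.Perm.one_apply, ← map_pow, ← pow_mul, mul_comm k p, ← hk]
      refine Subtype.ext ?_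
      rw [MulAut.conjNormal_apply, hab _ ((hjpow f).2 dvd_rfl) _ (hDA x.1.2), mul_inv_cancel_right])
    obtain ⟨b, hb, hb1⟩ := Equiv.Perm.exists_fixed_point_of_prime' hpW hσ
      (a := ⟨1, one_pow p⟩) (Subtype.ext (map_one τ))
    have hb' : τ b.1 = b.1 := congrArg Subtype.val hb
    have hbD : (b.1 : H) ∈ D ⊓ Z := ⟨b.1.2, hfix' _ hg _ (hDA b.1.2) (by
      have h := congrArg Subtype.val hb'
      rw [MulAut.conjNormal_apply] at h
      exact mul_inv_eq_iff_eq_mul.1 h)⟩
    rw [hinf, Subgroup.mem_bot] at hbD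
    exact hb1 (Subtype.ext (Subtype.ext hbD))

end Cfsg.Lib.NDAD
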