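import Mathlib.Algebra.Group.End
import Mathlib.GroupTheory.OrderOfElement
import Mathlib.SetTheory.Cardinal.Finite
import Mathlib.Algebra.BigOperators.Group.Finset.Basic
import Mathlib.Data.Finite.Card
import Mathlib.Data.Fintype.Pi
import Mathlib.Data.Fintype.BigOperators

/-!
# Actions of abelian groups and of Frobenius groups on abelian groups
-/

set_option autoImplicit false
set_option linter.unusedSectionVars false
set_option linter.style.haveILetI false

namespace Cfsg.Lib.NDAD

universe u v w

variable {V : Type u} [CommGroup V]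

theorem apply_apply_mul (f g : MulAut V) (x : V) : f (g x) = (f * g) x := rfl

theorem pow_apply_of_shift (a : MulAut V) {v w : V} (h1 : a v = v) (h2 : a w = w * v) (k : ℕ) :
    (a ^ k) w = w * v ^ k := by
  induction k with
  | zero => simp
  | succ k ih =>
    rw [pow_succ', MulAut.mul_apply, ih, map_mul, map_pow, h1, h2, pow_succ', mul_assoc]

/-- A coprime automorphism is semisimple: no fixed point is a commutator. -/
theorem eq_one_of_shift [Finite V] (a : MulAut V) (hcop : (orderOf a).Coprime (Nat.card V)) {v w : V}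
    (h1 : a v = v) (h2 : a w = w * v) : v = 1 := by
  have h := pow_apply_of_shift a h1 h2 (orderOf a)
  rw [pow_orderOf_eq_one, MulAut.one_apply, left_eq_mul] at h
  exact orderOf_eq_one_iff.1 (Nat.eq_one_of_dvd_coprimes hcop (orderOf_dvd_of_pow_eq_one h)
    (orderOf_dvd_natCard v))

/-- The stabiliser of a point under a homomorphism to automorphisms. -/
def stabAct {Z : Type v} [Group Z] (act : Z →* MulAut V) (v : V) : Subgroup Z where
  carrier := {z | act z v = v}
  one_mem' := by simp
  mul_mem' := fun {a b} ha hb => show act (a * b) v = v by rw [map_mul, MulAut.mul_apply, hb, ha]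
  inv_mem' := fun {a} ha => show act a⁻¹ v = v by
    rw [map_inv]; exact (MulEquiv.symm_apply_eq _).2 ha.symm

theorem mem_stabAct {Z : Type v} [Group Z] {act : Z →* MulAut V} {v : V} {z : Z} :
    z ∈ stabAct act v ↔ act z v = v := Iff.rfl

/-- If no stabiliser of an abelian semisimple action properly contains another, all are equal. -/
theorem common_stabilizer {Z : Type v} [CommGroup Z] (act : Z →* MulAut V)
    (hss : ∀ z v w, act z v = v → act z w = w * v → v = 1)
    (hanti : ∀ v w : V, v ≠ 1 → w ≠ 1 → stabAct act v ≤ stabAct act w → stabAct act v = stabAct act w)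
    {v₁ v₂ : V} (h₁ : v₁ ≠ 1) (h₂ : v₂ ≠ 1) : stabAct act v₁ = stabAct act v₂ := by
  by_cases hle : stabAct act v₁ ≤ stabAct act v₂
  · exact hanti _ _ h₁ h₂ hle
  obtain ⟨z, hz1, hz2⟩ := SetLike.not_le_iff_exists.1 hle
  have hcom : ∀ (a b : Z) (x : V), act a (act b x) = act b (act a x) := fun a b x => by
    rw [← MulAut.mul_apply, ← map_mul, mul_comm, map_mul, MulAut.mul_apply]
  set v' := act z v₂ / v₂ with hv'
  have hv'1 : v' ≠ 1 := fun h => hz2 (div_eq_one.1 h)
  have hS2 : stabAct act v₂ = stabAct act v' := hanti _ _ h₂ hv'1 fun g hg => by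
    rw [mem_stabAct, hv', map_div, hcom, hg]
  by_cases hw : v₁ * v' = 1
  · have hinv : v' = v₁⁻¹ := eq_inv_of_mul_eq_one_right hw
    rw [hS2, hinv]
    ext g
    rw [mem_stabAct, mem_stabAct, map_inv, inv_inj]
  have hsplit : ∀ g ∈ stabAct act (v₁ * v'), g ∈ stabAct act v₁ ∧ g ∈ stabAct act v' := by
    intro g hg
    have hg' : act g v₁ * act g v' = v₁ * v' := by rw [← map_mul]; exact hg
    have hzg : act z (act g v₁) = act g v₁ := by rw [hcom, hz1]
    have h3 := congrArg (act z) hg'
    rw [map_mul, map_mul, hzg, show act z v₁ = v₁ from hz1] at h3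
    have hu : act g v' / v' = 1 := by
      refine hss z _ (act g v₂ / v₂) ?_ ?_
      · rw [map_div, div_eq_div_iff_mul_eq_mul]
        have e : act g v₁ * (act z (act g v') * v') = act g v₁ * (act g v' * act z v') := by
          rw [← mul_assoc, h3, ← mul_assoc, hg']
          rw [mul_right_comm]
        exact mul_left_cancel e
      · rw [map_div, hcom z g, hv', map_div, div_div_div_comm, mul_div_cancel]
    have hgv' : act g v' = v' := div_eq_one.1 hu
    rw [hgv'] at hg'
    exact ⟨mul_right_cancel hg', hgv'⟩
  rw [← hanti _ _ hw h₁ fun g hg => (hsplit g hg).1, hanti _ _ hw hv'1 fun g hg => (hsplit g hg).2, ← hS2]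

/-- A finite family of commuting automorphisms with fixed point free quotients is independent. -/
theorem vandermonde {ι : Type v} (A : ι → MulAut V) (hcomm : ∀ s t, Commute (A s) (A t))
    (hfpf : ∀ s t, s ≠ t → ∀ x, A s x = A t x → x = 1) (T : Finset ι) (w : ι → V)
    (h : ∀ j < T.card, ∏ s ∈ T, (A s ^ j) (w s) = 1) : ∀ s ∈ T, w s = 1 := by
  classical
  induction T using Finset.induction_on generalizing w with
  | empty => simp
  | @insert t T ht ih =>
    rw [Finset.card_insert_of_notMem ht] at h
    have hT : ∀ s ∈ T, w s = 1 := fun s hs => by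
      have h1 := ih (fun s => A s (w s) / A t (w s)) (fun j hj => ?_) s hs
      · exact hfpf s t (fun e => ht (e ▸ hs)) _ (div_eq_one.1 h1)
      · have e1 := h (j + 1) (by omega)
        have e2 := congrArg (A t) (h j (by omega))
        rw [map_one, map_prod] at e2
        rw [Finset.prod_insert ht] at e1 e2
        have e3 : ∀ s, (A s ^ j) (A s (w s) / A t (w s)) = (A s ^ (j + 1)) (w s) / A t ((A s ^ j) (w s)) := by
          intro s
          rw [map_div, pow_succ, MulAut.mul_apply]
          congr 1
          rw [← MulAut.mul_apply, ← MulAut.mul_apply, ((hcomm t s).pow_right j).eq]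
        rw [Finset.prod_congr rfl fun s _ => e3 s, Finset.prod_div_distrib, div_eq_one]
        rw [← MulAut.mul_apply, ← pow_succ'] at e2
        exact mul_left_cancel (e1.trans e2.symm)
    have h0 := h 0 (by omega)
    rw [Finset.prod_insert ht, Finset.prod_congr rfl (g := fun _ => (1 : V))
      (fun s hs => by rw [hT s hs, map_one]), Finset.prod_const_one, mul_one, pow_zero, MulAut.one_apply] at h0
    intro s hs
    rcases Finset.mem_insert.1 hs with rfl | hs
    · exact h0
    · exact hT s hs

variable {D : Type v} [CommGroup D] [Finite D] {F : Type w} [Group F] [Finite F]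
variable (aD : D →* MulAut V) (aF : F →* MulAut V) (φ : F →* MulAut D)

/-- In a Frobenius group acting without fixed points of the kernel, some translate has nontrivial norm. -/
theorem exists_norm_ne_one [Fintype F] (hcompat : ∀ s d x, aF s (aD d x) = aD (φ s d) (aF s x))
    (hfpf : ∀ s, s ≠ 1 → ∀ d, φ s d = d → d = 1) (hD : ∀ x : V, (∀ d, aD d x = x) → x = 1)
    {x : V} (hx : x ^ Nat.card D ≠ 1) : ∃ d, ∏ s, aF s (aD d x) ≠ 1 := by
  classical
  haveI := Fintype.ofFinite D
  by_contra hno
  push Not at hno
  apply hx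
  have h1 : ∏ d : D, aD d⁻¹ (∏ s : F, aF s (aD d x)) = 1 :=
    Finset.prod_eq_one fun d _ => by rw [hno d, map_one]
  simp only [map_prod, hcompat] at h1
  rw [Finset.prod_comm, Finset.prod_eq_single 1] at h1
  · rw [Finset.prod_congr rfl (g := fun _ => x)] at h1
    · rwa [Finset.prod_const, Finset.card_univ, ← Nat.card_eq_fintype_card] at h1
    · intro d _
      rw [map_one aF, map_one φ, MulAut.one_apply, MulAut.one_apply, ← MulAut.mul_apply, ← map_mul,
        inv_mul_cancel, map_one, MulAut.one_apply]
  · intro s _ hs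
    let e : D → D := fun d => d⁻¹ * φ s d
    have he : Function.Bijective e := by
      rw [← Finite.injective_iff_bijective]
      intro a b hab
      have h : φ s (a / b) = a / b := by
        change a⁻¹ * φ s a = b⁻¹ * φ s b at hab
        rw [inv_mul_eq_iff_eq_mul, ← mul_assoc, ← div_eq_mul_inv] at hab
        rw [map_div, hab, mul_div_assoc, div_self', mul_one]
      exact div_eq_one.1 (hfpf s hs _ h)
    refine hD _ fun d' => ?_
    set y := aF s x with hy
    have hsum : ∏ d : D, aD d⁻¹ (aD (φ s d) y) = ∏ d : D, aD d y := by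
      simp only [apply_apply_mul, ← map_mul]
      exact he.prod_comp (fun d => aD d y)
    rw [hsum, map_prod]
    simp only [apply_apply_mul, ← map_mul]
    exact Equiv.prod_comp (Equiv.mulLeft d') (fun d => aD d y)
  · exact fun h => absurd (Finset.mem_univ _) h

/-- In a Frobenius group whose kernel acts fixed point freely, the module is free over the complement. -/
theorem card_eq_fixed_pow [Finite V] (hcompat : ∀ s d x, aF s (aD d x) = aD (φ s d) (aF s x))
    (hfpf : ∀ s, s ≠ 1 → ∀ d, φ s d = d → d = 1)
    (hV : ∀ d, d ≠ 1 → ∀ x, aD d x = x → x = 1) {δ : D} (hδ : δ ≠ 1) :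
    Nat.card V = Nat.card {x : V // ∀ s, aF s x = x} ^ Nat.card F := by
  classical
  haveI := Fintype.ofFinite V
  haveI := Fintype.ofFinite F
  let A : F → MulAut V := fun s => aD (φ s δ)
  have hA : ∀ s t, Commute (A s) (A t) := fun s t => (Commute.all _ _).map aD
  have hA' : ∀ s t, s ≠ t → ∀ x, A s x = A t x → x = 1 := by
    intro s t hst x hx
    refine hV ((φ t δ)⁻¹ * φ s δ) (fun h => hst ?_) x ?_
    · rw [inv_mul_eq_one] at h
      by_contra hne
      refine hδ (hfpf (t⁻¹ * s) (fun e => hst (inv_mul_eq_one.1 e).symm) δ ?_)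
      rw [map_mul, MulAut.mul_apply, ← h, ← MulAut.mul_apply, ← map_mul, inv_mul_cancel, map_one,
        MulAut.one_apply]
    · rw [map_mul, MulAut.mul_apply]
      show aD (φ t δ)⁻¹ (A s x) = x
      rw [hx, ← MulAut.mul_apply, ← map_mul, inv_mul_cancel, map_one, MulAut.one_apply]
  let Ψ : (F → V) → (Fin (Fintype.card F) → V) := fun w j => ∏ s, (A s ^ (j : ℕ)) (w s)
  have hΨ : Function.Bijective Ψ := by
    rw [Fintype.bijective_iff_injective_and_card]
    refine ⟨fun a b hab => funext fun s => div_eq_one.1 ?_, by simp⟩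
    refine vandermonde A hA hA' Finset.univ (fun s => a s / b s) (fun j hj => ?_) s (Finset.mem_univ _)
    simp only [map_div, Finset.prod_div_distrib]
    exact div_eq_one.2 (congrFun hab ⟨j, hj⟩)
  have hA_act : ∀ (t s : F) (j : ℕ) (x : V), aF t ((A s ^ j) x) = (A (t * s) ^ j) (aF t x) := by
    intro t s j x
    show aF t ((aD (φ s δ) ^ j) x) = (aD (φ (t * s) δ) ^ j) (aF t x)
    rw [← map_pow, ← map_pow, hcompat, map_mul, MulAut.mul_apply]
    simp only [map_pow]
  have hfix : ∀ x j (t : F), aF t (Ψ (fun s => aF s x) j) = Ψ (fun s => aF s x) j := by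
    intro x j t
    simp only [Ψ, map_prod, hA_act, apply_apply_mul (aF t) (aF _), ← map_mul]
    exact Equiv.prod_comp (Equiv.mulLeft t) (fun s => (A s ^ (j : ℕ)) (aF s x))
  let Φ : V → (Fin (Fintype.card F) → {x : V // ∀ s, aF s x = x}) := fun x j =>
    ⟨Ψ (fun s => aF s x) j, fun t => hfix x j t⟩
  have hΦ : Function.Bijective Φ := by
    constructor
    · intro a b hab
      have h := hΨ.1 (funext fun j => congrArg Subtype.val (congrFun hab j) :
        Ψ (fun s => aF s a) = Ψ (fun s => aF s b))
      have h1 := congrFun h 1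
      rwa [map_one, MulAut.one_apply, MulAut.one_apply] at h1
    · intro c
      obtain ⟨w, hw⟩ := hΨ.2 fun j => (c j : V)
      refine ⟨w 1, funext fun j => Subtype.ext ?_⟩
      have hws : ∀ t, aF t (w 1) = w t := by
        intro t
        have h : (fun s => aF t (w (t⁻¹ * s))) = w := by
          refine hΨ.1 (funext fun j => ?_)
          rw [hw]
          show _ = (c j : V)
          rw [← (c j).2 t, ← congrFun hw j]
          simp only [Ψ, map_prod, hA_act]
          exact (Equiv.prod_comp (Equiv.mulLeft t)
            (fun s => (A s ^ (j : ℕ)) (aF t (w (t⁻¹ * s))))).symm.trans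
              (Finset.prod_congr rfl fun s _ => by
                rw [Equiv.coe_mulLeft, inv_mul_cancel_left])
        have h2 := congrFun h t
        rwa [inv_mul_cancel] at h2
      show Ψ (fun s => aF s (w 1)) j = c j
      rw [funext hws]
      exact congrFun hw j
  rw [Nat.card_congr (Equiv.ofBijective Φ hΦ), Nat.card_fun, Nat.card_fin, Nat.card_eq_fintype_card (α := F)]

end Cfsg.Lib.NDAD
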