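import Mathlib.LinearAlgebra.Matrix.SchurComplement
import Mathlib.LinearAlgebra.Matrix.Determinant.Basic
import Mathlib.FieldTheory.ChevalleyWarning
import Mathlib.RingTheory.Polynomial.UniqueFactorization
import Mathlib.RingTheory.Localization.FractionRing
import Mathlib.RingTheory.IntegralClosure.IntegrallyClosed
import Mathlib.RingTheory.Polynomial.RationalRoot
import Mathlib.Algebra.MvPolynomial.NoZeroDivisors
import Mathlib.Data.Fintype.Sum
import Mathlib.Tactic.LinearCombination
import Mathlib.Tactic.Ring
import Mathlib.Tactic.FieldSimp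

/-!
# Spaces of nondegenerate alternating forms

A space of alternating forms on an `N`-dimensional space over a finite field in which every nonzero
form is nondegenerate has dimension at most `N / 2`: the determinant of the generic member is the
square of a polynomial of degree at most `N / 2` whose only zero is the origin (Chevalley-Warning).
-/

set_option autoImplicit false
set_option linter.unusedSectionVars false

namespace Cfsg.Lib.NDAD

open Matrix MvPolynomial

universe u v

/-- A matrix is alternating if it is skew symmetric with zero diagonal. -/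
def IsAlternating {n R : Type*} [Ring R] (A : Matrix n n R) : Prop :=
  (∀ i j, A j i = - A i j) ∧ ∀ i, A i i = 0

theorem isSquare_det_alternating {K : Type u} [Field K] : ∀ (k : ℕ) (n : Type v) [Fintype n]
    [DecidableEq n], Fintype.card n = k → ∀ A : Matrix n n K, IsAlternating A → IsSquare A.det := by
  intro k
  induction k using Nat.strong_induction_on with
  | _ k ih =>
  intro n _ _ hcard A hA
  rcases isEmpty_or_nonempty n with hn | ⟨⟨i⟩⟩
  · rw [Matrix.det_isEmpty]; exact IsSquare.one
  by_cases hrow : ∀ j, A i j = 0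
  · rw [Matrix.det_eq_zero_of_row_eq_zero i hrow]; exact IsSquare.zero
  push Not at hrow
  obtain ⟨j, hj⟩ := hrow
  set a := A i j with ha
  have hij : i ≠ j := fun h => hj (by rw [← h] at ha; rw [ha]; exact hA.2 i)
  let f : Fin 2 → {x // x = i ∨ x = j} := ![⟨i, Or.inl rfl⟩, ⟨j, Or.inr rfl⟩]
  have hf : Function.Bijective f := by
    constructor
    · intro x y h
      fin_cases x <;> fin_cases y <;> simp [f, Subtype.ext_iff, hij, hij.symm] at h ⊢
    · rintro ⟨x, rfl | rfl⟩
      · exact ⟨0, rfl⟩
      · exact ⟨1, rfl⟩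
  let e : Fin 2 ⊕ {x // ¬ (x = i ∨ x = j)} ≃ n :=
    (Equiv.sumCongr (Equiv.ofBijective f hf) (Equiv.refl _)).trans (Equiv.sumCompl _)
  have he0 : e (Sum.inl 0) = i := rfl
  have he1 : e (Sum.inl 1) = j := rfl
  set B := (A.submatrix e e).toBlocks₁₁
  have hB : B = !![0, a; -a, 0] := by
    ext x y
    fin_cases x <;> fin_cases y <;> simp [B, Matrix.toBlocks₁₁, he0, he1, hA.2, ha, hA.1 i j]
  set Bi : Matrix (Fin 2) (Fin 2) K := !![0, -a⁻¹; a⁻¹, 0] with hBi
  have hinv : B * Bi = 1 := by
    rw [hB, hBi]
    ext x y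
    fin_cases x <;> fin_cases y <;> simp [Matrix.mul_apply, Fin.sum_univ_two, hj]
  letI : Invertible B := invertibleOfRightInverse B Bi hinv
  rw [← Matrix.det_submatrix_equiv_self e A, ← Matrix.fromBlocks_toBlocks (A.submatrix e e),
    Matrix.det_fromBlocks₁₁]
  refine IsSquare.mul ?_ ?_
  · exact ⟨a, by rw [show (A.submatrix e e).toBlocks₁₁ = B from rfl, hB, Matrix.det_fin_two]; simp⟩
  · refine ih _ ?_ _ rfl _ ?_
    · rw [← hcard, ← Fintype.card_congr e, Fintype.card_sum, Fintype.card_fin]; omega
    · have hii : ⅟((A.submatrix e e).toBlocks₁₁) = Bi := invOf_eq_right_inv hinv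
      rw [hii]
      have hgen : ∀ x y, (A.submatrix e e) y x = - (A.submatrix e e) x y := fun x y => hA.1 _ _
      have hdiag : ∀ x, (A.submatrix e e) x x = 0 := fun x => hA.2 _
      constructor
      · intro x y
        simp only [Matrix.sub_apply, Matrix.mul_apply, Fin.sum_univ_two, hBi,
          Matrix.toBlocks₂₂, Matrix.toBlocks₂₁, Matrix.toBlocks₁₂, Matrix.of_apply,
          Matrix.cons_val', Matrix.cons_val_zero, Matrix.cons_val_one, Matrix.cons_val_fin_one,
          mul_zero, zero_add, add_zero]
        rw [hgen (Sum.inr x) (Sum.inr y), hgen (Sum.inr x) (Sum.inl 0), hgen (Sum.inr x) (Sum.inl 1),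
          hgen (Sum.inr y) (Sum.inl 0), hgen (Sum.inr y) (Sum.inl 1)]
        ring
      · intro x
        simp only [Matrix.sub_apply, Matrix.mul_apply, Fin.sum_univ_two, hBi,
          Matrix.toBlocks₂₂, Matrix.toBlocks₂₁, Matrix.toBlocks₁₂, Matrix.of_apply,
          Matrix.cons_val', Matrix.cons_val_zero, Matrix.cons_val_one, Matrix.cons_val_fin_one,
          mul_zero, zero_add, add_zero]
        rw [hdiag (Sum.inr x), hgen (Sum.inr x) (Sum.inl 0), hgen (Sum.inr x) (Sum.inl 1)]
        ring

/-- The determinant of an alternating matrix over a polynomial ring is a square. -/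
theorem exists_sq_det {F : Type u} [Field F] {σ : Type u} {n : Type v} [Fintype n] [DecidableEq n]
    (A : Matrix n n (MvPolynomial σ F)) (hA : IsAlternating A) :
    ∃ P : MvPolynomial σ F, A.det = P * P := by
  let R := MvPolynomial σ F
  let φ : R →+* FractionRing R := algebraMap R (FractionRing R)
  obtain ⟨s, hs⟩ := isSquare_det_alternating (K := FractionRing R) _ n rfl (φ.mapMatrix A)
    ⟨fun i j => by simp [hA.1 i j], fun i => by simp [hA.2 i]⟩
  rw [← RingHom.map_det] at hs
  have hint : IsIntegral R s := IsIntegral.of_pow (n := 2) two_pos (by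
    rw [pow_two, ← hs]; exact isIntegral_algebraMap)
  obtain ⟨P, rfl⟩ := IsIntegrallyClosed.isIntegral_iff.1 hint
  exact ⟨P, IsFractionRing.injective R (FractionRing R) (by rw [map_mul]; exact hs)⟩

/-- The dimension bound for spaces of nondegenerate alternating forms. -/
theorem two_mul_card_le {q : ℕ} [Fact q.Prime] {ι : Type} [Fintype ι] {n : Type v} [Fintype n]
    [DecidableEq n] [Nonempty n] (M : ι → Matrix n n (ZMod q)) (hM : ∀ i, IsAlternating (M i))
    (hnd : ∀ c : ι → ZMod q, c ≠ 0 → (∑ i, c i • M i).det ≠ 0) :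
    2 * Fintype.card ι ≤ Fintype.card n := by
  classical
  by_contra hlt
  push Not at hlt
  let G : Matrix n n (MvPolynomial ι (ZMod q)) := fun x y => ∑ i, X i * C (M i x y)
  have hG : IsAlternating G := by
    refine ⟨fun x y => ?_, fun x => ?_⟩
    · simp [G, (hM _).1 x y, Finset.sum_neg_distrib]
    · simp [G, (hM _).2 x]
  obtain ⟨P, hP⟩ := exists_sq_det G hG
  have heval : ∀ c : ι → ZMod q, eval c P * eval c P = (∑ i, c i • M i).det := by
    intro c
    rw [← map_mul, ← hP, RingHom.map_det]
    congr 1
    ext x y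
    rw [RingHom.mapMatrix_apply, Matrix.map_apply, Matrix.sum_apply]
    simp [G, map_sum]
  have hdeg : G.det.totalDegree ≤ Fintype.card n := by
    rw [Matrix.det_apply']
    refine totalDegree_finsetSum_le fun π _ => ?_
    refine (totalDegree_mul _ _).trans ?_
    rw [show ((Equiv.Perm.sign π : ℤ) : MvPolynomial ι (ZMod q)) = C ((Equiv.Perm.sign π : ℤ) : ZMod q)
      from (map_intCast (C (σ := ι) (R := ZMod q)) _).symm, totalDegree_C, zero_add]
    refine (totalDegree_finsetProd _ _).trans ?_
    refine (Finset.sum_le_card_nsmul _ _ 1 fun x _ => ?_).trans (by simp)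
    refine totalDegree_finsetSum_le fun i _ => ?_
    refine (totalDegree_mul _ _).trans ?_
    rw [totalDegree_C, add_zero, totalDegree_X]
  obtain ⟨i₀⟩ : Nonempty ι := Fintype.card_pos_iff.1 (by omega)
  have hP0 : P ≠ 0 := fun h => hnd (fun _ => 1) (fun h1 => one_ne_zero (congrFun h1 i₀))
    (by rw [← heval, h, map_zero, mul_zero])
  rw [hP, totalDegree_mul_of_isDomain hP0 hP0] at hdeg
  have h1 := char_dvd_card_solutions (p := q) (f := P) (by omega)
  have hone : Fintype.card {x : ι → ZMod q // eval x P = 0} = 1 := by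
    rw [Fintype.card_eq_one_iff]
    refine ⟨⟨0, ?_⟩, fun x => Subtype.ext ?_⟩
    · have := heval 0
      rw [show (∑ i, (0 : ι → ZMod q) i • M i) = 0 by simp, Matrix.det_zero] at this
      exact mul_self_eq_zero.1 this
    · by_contra hx
      exact hnd x.1 hx (by rw [← heval, x.2, mul_zero])
  rw [hone] at h1
  exact (Fact.out : q.Prime).not_dvd_one h1

end Cfsg.Lib.NDAD
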