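import Cfsg.Agent.Chars.NDAD.Pairing
import Cfsg.Agent.Chars.Construct
import Cfsg.Agent.Chars.Irr
import Mathlib.GroupTheory.FiniteAbelian.Duality
import Mathlib.GroupTheory.Abelianization.Defs
import Mathlib.RingTheory.RootsOfUnity.AlgebraicallyClosed
import Mathlib.Analysis.Complex.Polynomial.Basic

/-!
# Linear characters of sections
-/

set_option autoImplicit false
set_option linter.unusedSectionVars false
set_option linter.style.haveILetI false

namespace Cfsg.Lib.NDAD

open scoped commutatorElement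

universe u

variable {P : Type u} [Group P]

instance instFiniteHomUnits [Finite P] : Finite (P →* ℂˣ) := by
  haveI := Fintype.ofFinite P
  exact Finite.of_injective
    (fun f : P →* ℂˣ => (⟨fun g => (f g : ℂ), Cfsg.Lib.Chars.isIrrCharacter_linear f⟩ : Cfsg.IrrCharacter P))
    fun f g he => MonoidHom.ext fun x => Units.ext (congrFun (congrArg Subtype.val he) x)

theorem hom_comm {A : Type*} [CommGroup A] (f : P →* A) (a b : P) : f ⁅a, b⁆ = 1 := by
  rw [map_commutatorElement, commutatorElement_eq_one_iff_mul_comm, mul_comm]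

theorem hom_conj {A : Type*} [CommGroup A] (f : P →* A) (a b : P) : f (a * b * a⁻¹) = f b := by
  rw [map_mul, map_mul, map_inv, mul_comm (f a), mul_inv_cancel_right]

/-- Linear characters of `L` that are trivial on `K`. -/
def linK (L K : Subgroup P) : Subgroup (L →* ℂˣ) where
  carrier := {l | ∀ x : L, (x : P) ∈ K → l x = 1}
  one_mem' := fun _ _ => rfl
  mul_mem' := fun {a b} ha hb x hx => by rw [MonoidHom.mul_apply, ha x hx, hb x hx, one_mul]
  inv_mem' := fun {a} ha x hx => by rw [MonoidHom.inv_apply, ha x hx, inv_one]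

theorem mem_linK {L K : Subgroup P} {l : L →* ℂˣ} :
    l ∈ linK L K ↔ ∀ x : L, (x : P) ∈ K → l x = 1 := Iff.rfl

theorem linK_mono {L K K' : Subgroup P} (h : K' ≤ K) : linK L K ≤ linK L K' :=
  fun _ hl x hx => hl x (h hx)

/-- Linear characters separate an abelian section. -/
theorem exists_linK_ne_one [Finite P] {L K : Subgroup P} [K.Normal]
    (hab : ∀ a ∈ L, ∀ b ∈ L, ⁅a, b⁆ ∈ K) {x : L} (hx : (x : P) ∉ K) :
    ∃ l ∈ linK L K, l x ≠ 1 := by
  let π : L →* L.map (QuotientGroup.mk' K) := (QuotientGroup.mk' K).subgroupMap L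
  have hcomm : ∀ a b : L.map (QuotientGroup.mk' K), a * b = b * a := by
    rintro ⟨_, a, ha, rfl⟩ ⟨_, b, hb, rfl⟩
    apply Subtype.ext
    show QuotientGroup.mk' K a * QuotientGroup.mk' K b = QuotientGroup.mk' K b * QuotientGroup.mk' K a
    rw [← commutatorElement_eq_one_iff_mul_comm, ← map_commutatorElement, QuotientGroup.mk'_apply,
      QuotientGroup.eq_one_iff]
    exact hab a ha b hb
  letI : CommGroup (L.map (QuotientGroup.mk' K)) := { mul_comm := hcomm }
  have hπx : π x ≠ 1 := fun h => hx ((QuotientGroup.eq_one_iff _).1 (congrArg Subtype.val h))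
  obtain ⟨φ, hφ⟩ := CommGroup.exists_apply_ne_one_of_hasEnoughRootsOfUnity
    (L.map (QuotientGroup.mk' K)) ℂ hπx
  refine ⟨φ.comp π, fun y hy => ?_, hφ⟩
  rw [MonoidHom.comp_apply, show π y = 1 from Subtype.ext ((QuotientGroup.eq_one_iff _).2 hy), map_one]

theorem mem_of_forall_linK [Finite P] {L K : Subgroup P} [K.Normal]
    (hab : ∀ a ∈ L, ∀ b ∈ L, ⁅a, b⁆ ∈ K) {x : L} (h : ∀ l ∈ linK L K, l x = 1) : (x : P) ∈ K :=
  by_contra fun hx => by
    obtain ⟨l, hl, hne⟩ := exists_linK_ne_one hab hx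
    exact hne (h l hl)

/-- Evaluation is a pairing. -/
theorem isPairing_eval (L K : Subgroup P) :
    IsPairing (fun (l : linK L K) (x : L) => (l : L →* ℂˣ) x) :=
  ⟨fun _ _ _ => rfl, fun l a b => map_mul _ a b⟩

/-- The number of linear characters of an abelian section. -/
theorem card_linK [Finite P] {L K : Subgroup P} [K.Normal] (hKL : K ≤ L)
    (hab : ∀ a ∈ L, ∀ b ∈ L, ⁅a, b⁆ ∈ K) : Nat.card (linK L K) * Nat.card K = Nat.card L := by
  have h := (isPairing_eval L K).card_ann
  have hR : (isPairing_eval L K).annR = K.subgroupOf L := by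
    ext x
    rw [IsPairing.mem_annR, Subgroup.mem_subgroupOf]
    exact ⟨fun hx => mem_of_forall_linK hab fun l hl => hx ⟨l, hl⟩, fun hx l => l.2 x hx⟩
  have hL : (isPairing_eval L K).annL = ⊥ := by
    rw [eq_bot_iff]
    exact fun l hl => Subgroup.mem_bot.2 (Subtype.ext (MonoidHom.ext hl))
  rw [hR, hL, Subgroup.card_bot, mul_one, Nat.card_congr (Subgroup.subgroupOfEquivOfLe hKL).toEquiv,
    mul_comm] at h
  exact h

theorem card_linK_relIndex [Finite P] {L K : Subgroup P} [K.Normal] (hKL : K ≤ L)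
    (hab : ∀ a ∈ L, ∀ b ∈ L, ⁅a, b⁆ ∈ K) : Nat.card (linK L K) = K.relIndex L := by
  refine Nat.eq_of_mul_eq_mul_right (Nat.card_pos (α := K)) ?_
  rw [card_linK hKL hab, mul_comm, Subgroup.relIndex, ← Nat.card_congr (Subgroup.subgroupOfEquivOfLe hKL).toEquiv,
    Subgroup.card_mul_index]

end Cfsg.Lib.NDAD
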