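import Cfsg.Agent.Chars.NDAD.Basic
import Cfsg.Agent.Chars.NDAD.LinChar
import Cfsg.Agent.Chars.FixedClasses
import Cfsg.Agent.Coprime.Action
import Cfsg.Agent.Coprime.Generation

/-!
# A solvable normal subgroup whose characters fixed by a coprime pair are all linear
-/

set_option autoImplicit false
set_option linter.unusedSectionVars false
set_option linter.style.haveILetI false

namespace Cfsg.Lib.NDAD

open Cfsg.Lib.Chars
open scoped commutatorElement

universe u

variable {G : Type u} [Group G] [Finite G]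

/-- Conjugation on the linear characters of a normal subgroup. -/
def conjLin (M : Subgroup G) [M.Normal] : G →* MulAut (M →* ℂˣ) where
  toFun g :=
    { toFun := fun l => l.comp (MulAut.conjNormal g⁻¹ : MulAut M).toMonoidHom
      invFun := fun l => l.comp (MulAut.conjNormal g : MulAut M).toMonoidHom
      left_inv := fun l => MonoidHom.ext fun x => congrArg l (Subtype.ext (by simp [mul_assoc]))
      right_inv := fun l => MonoidHom.ext fun x => congrArg l (Subtype.ext (by simp [mul_assoc]))
      map_mul' := fun _ _ => rfl }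
  map_one' := MulEquiv.ext fun l => MonoidHom.ext fun x => congrArg l (Subtype.ext (by simp))
  map_mul' g h := MulEquiv.ext fun l => MonoidHom.ext fun x => congrArg l (Subtype.ext (by simp [mul_assoc]))

theorem conjLin_apply (M : Subgroup G) [M.Normal] (g : G) (l : M →* ℂˣ) (x : M) :
    conjLin M g l x = l ⟨g⁻¹ * x * g, by
      simpa using (inferInstance : M.Normal).conj_mem x x.2 g⁻¹⟩ :=
  congrArg l (Subtype.ext (by simp))

theorem inertia_of_conjLin {M : Subgroup G} [M.Normal] {g : G} {l : M →* ℂˣ} (h : conjLin M g l = l) :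
    g ∈ inertia M (fun x => (l x : ℂ)) := by
  refine mem_inertia.2 (funext fun x => congrArg Units.val ?_)
  have h1 := DFunLike.congr_fun h ⟨g * x * g⁻¹, (inferInstance : M.Normal).conj_mem x x.2 g⟩
  rw [conjLin_apply] at h1
  exact h1.symm.trans (congrArg l (Subtype.ext (by simp [mul_assoc])))

theorem conjLin_of_inertia {M : Subgroup G} [M.Normal] {g : G} {l : M →* ℂˣ}
    (h : g ∈ inertia M (fun x => (l x : ℂ))) : conjLin M g l = l := by
  refine MonoidHom.ext fun x => ?_
  rw [conjLin_apply]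
  have h1 := congrFun (mem_inertia.1 h) ⟨g⁻¹ * x * g, by
    simpa using (inferInstance : M.Normal).conj_mem x x.2 g⁻¹⟩
  refine Eq.symm (Units.ext (Eq.trans ?_ h1))
  exact congrArg (fun y => ((l y : ℂˣ) : ℂ)) (Subtype.ext (by simp [mul_assoc]))

theorem pow_card_hom {M : Subgroup G} (l : M →* ℂˣ) : l ^ Nat.card M = 1 :=
  MonoidHom.ext fun x => by rw [MonoidHom.pow_apply, ← map_pow, pow_card_eq_one', map_one]; rfl

/-- If the characters fixed by elements of a noncyclic group of exponent `q` are linear and invariant, the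
subgroup is central. -/
theorem central_of_pair {M : Subgroup G} [M.Normal] [hsol : Group.IsSolvable M] {q : ℕ} (hq : q.Prime)
    (hcop : (Nat.card M).Coprime q) {x y : G} (hx : x ^ q = 1) (hy : y ^ q = 1) (hxy : Commute x y)
    (hy1 : y ≠ 1) (hxy' : x ∉ Subgroup.zpowers y)
    (hfix : ∀ a ∈ Subgroup.closure ({x, y} : Set G), a ≠ 1 → a ^ q = 1 → ∀ θ : M → ℂ,
      Cfsg.IsIrrCharacter M θ → conjN M a θ = θ → deg θ = 1 ∧ inertia M θ = ⊤) :
    ∀ a ∈ M, ∀ g : G, g * a = a * g := by
  classical
  haveI := Fintype.ofFinite G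
  have hmem : ∀ j : ℕ, x * y ^ j ∈ Subgroup.closure ({x, y} : Set G) ∧ x * y ^ j ≠ 1 ∧ (x * y ^ j) ^ q = 1 :=
    fun j => ⟨mul_mem (Subgroup.subset_closure (by simp)) (pow_mem (Subgroup.subset_closure (by simp)) j),
      fun e => hxy' (by rw [eq_inv_of_mul_eq_one_left e]; exact inv_mem (pow_mem (Subgroup.mem_zpowers y) j)),
      by rw [(hxy.pow_right j).mul_pow, hx, one_mul, ← pow_mul, mul_comm, pow_mul, hy, one_pow]⟩
  have hymem : y ∈ Subgroup.closure ({x, y} : Set G) := Subgroup.subset_closure (by simp)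
  -- linear characters are invariant
  have hlin : ∀ (l : M →* ℂˣ) (g : G), conjLin M g l = l := by
    let S : Subgroup (M →* ℂˣ) :=
      { carrier := {l | ∀ g : G, conjLin M g l = l}
        one_mem' := fun g => map_one _
        mul_mem' := fun {a b} ha hb g => by rw [map_mul, ha, hb]
        inv_mem' := fun {a} ha g => by rw [map_inv, ha] }
    have hS : ∀ a ∈ Subgroup.closure ({x, y} : Set G), a ≠ 1 → a ^ q = 1 → ∀ l : M →* ℂˣ,
        conjLin M a l = l → l ∈ S := fun a ha ha1 haq l hl g => by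
      have h1 := (hfix a ha ha1 haq _ (isIrrCharacter_linear l) (mem_inertia.1 (inertia_of_conjLin hl))).2
      exact conjLin_of_inertia (h1 ▸ Subgroup.mem_top g)
    intro l
    have hq' := Cfsg.Lib.Coprime.pow_mem_of_fixed hq (x := conjLin M x) (y := conjLin M y)
      (by rw [← map_pow, hx, map_one]) (by rw [← map_pow, hy, map_one]) (hxy.map _) (S := S)
      (fun v hv => hS y hymem hy1 hy v hv)
      (fun j _ v hv => hS _ (hmem j).1 (hmem j).2.1 (hmem j).2.2 v (by rw [map_mul, map_pow]; exact hv)) l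
    obtain ⟨m, hm⟩ := exists_pow_eq_self_of_coprime (x := l) (n := q)
      (hcop.symm.coprime_dvd_right (orderOf_dvd_of_pow_eq_one (pow_card_hom l)))
    exact fun g => (hm ▸ S.pow_mem hq' m : l ∈ S) g
  let M1 : Subgroup G := ⁅M, M⁆
  haveI hM1n : M1.Normal := inferInstanceAs (⁅M, M⁆).Normal
  have hM1le : M1 ≤ M := Subgroup.commutator_le_right M M
  have hlinK : linK M M1 = ⊤ := eq_top_iff.2 fun l _ z hz => by
    have hle : M1 ≤ l.ker.map M.subtype := Subgroup.commutator_le.2 fun a ha b hb =>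
      ⟨⁅(⟨a, ha⟩ : M), ⟨b, hb⟩⁆, hom_comm l _ _, rfl⟩
    obtain ⟨w, hw, hwz⟩ := hle hz
    rw [show z = w from (Subtype.ext hwz).symm]
    exact hw
  have hab : ∀ a ∈ M, ∀ b ∈ M, ⁅a, b⁆ ∈ M1 := fun a ha b hb => Subgroup.commutator_mem_commutator ha hb
  have htriv : ∀ a ∈ M, ∀ g : G, ⁅g, a⁆ ∈ M1 := fun a ha g => by
    have hm : ⁅g, a⁆ ∈ M := by
      rw [commutatorElement_def]; exact mul_mem ((inferInstance : M.Normal).conj_mem a ha g) (inv_mem ha)
    refine mem_of_forall_linK (L := M) (x := ⟨_, hm⟩) hab fun l _ => ?_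
    have h1 := DFunLike.congr_fun (hlin l g⁻¹) ⟨a, ha⟩
    rw [conjLin_apply] at h1
    rw [show (⟨⁅g, a⁆, hm⟩ : M) = ⟨g⁻¹⁻¹ * a * g⁻¹, by
      simpa using (inferInstance : M.Normal).conj_mem a ha g⟩ * (⟨a, ha⟩ : M)⁻¹ from
      Subtype.ext (by simp [commutatorElement_def]), map_mul, map_inv, h1, mul_inv_cancel]
  -- elements of the pair fix nothing in the commutator subgroup
  have hfpf : ∀ a ∈ Subgroup.closure ({x, y} : Set G), a ≠ 1 → a ^ q = 1 → ∀ c ∈ M1, a * c = c * a → c = 1 := by
    intro a ha ha1 haq c hc hac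
    haveI := Fintype.ofFinite M
    let M1' := M1.subgroupOf M
    haveI : M1'.Normal := inferInstance
    let Fx := {C : ConjClasses M // ConjClasses.map (MulEquiv.toMonoidHom (MulAut.conjNormal a : MulAut M)) C = C}
    let cls : ConjClasses M → M ⧸ M1' := Quotient.lift (QuotientGroup.mk (s := M1')) fun u v huv => by
      obtain ⟨w, hw⟩ := isConj_iff.1 (huv : IsConj u v)
      rw [← hw, QuotientGroup.eq]
      show ((u⁻¹ * (w * u * w⁻¹) : M) : G) ∈ M1
      rw [show ((u⁻¹ * (w * u * w⁻¹) : M) : G) = ⁅((u⁻¹ : M) : G), (w : G)⁆ by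
        simp only [Subgroup.coe_mul, Subgroup.coe_inv, commutatorElement_def]; group]
      exact hab _ (u⁻¹).2 _ w.2
    have hfixed : ∀ z : M, a * z = z * a →
        ConjClasses.map (MulEquiv.toMonoidHom (MulAut.conjNormal a : MulAut M)) (ConjClasses.mk z) = ConjClasses.mk z :=
      fun z hz => congrArg ConjClasses.mk (Subtype.ext (by
        show (((MulAut.conjNormal a : MulAut M) z : M) : G) = z
        rw [MulAut.conjNormal_apply, hz, mul_inv_cancel_right]))
    have hsurj : Function.Surjective (fun C : Fx => cls C.1) := fun t => by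
      obtain ⟨k, rfl⟩ := QuotientGroup.mk_surjective t
      obtain ⟨d, hd, hkd⟩ := Cfsg.Lib.Coprime.exists_fixed_in_coset (A := Subgroup.zpowers a) (D := M1)
        (by rw [Subgroup.normalizer_eq_top_iff.2 hM1n]; exact le_top)
        (by
          rw [Nat.card_zpowers]
          exact ((hcop.symm.coprime_dvd_left (orderOf_dvd_of_pow_eq_one haq)).coprime_dvd_right
            (Subgroup.card_dvd_of_le hM1le)))
        (Or.inl (Group.isSolvable_of_comm fun u v => by
          obtain ⟨_, i, rfl⟩ := u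
          obtain ⟨_, j, rfl⟩ := v
          exact Subtype.ext ((Commute.refl a).zpow_zpow i j))) (k := (k : G)) fun b _ => by
          rw [show (k : G)⁻¹ * b * k * b⁻¹ = ⁅b, ((k⁻¹ : M) : G)⁆⁻¹ by
            simp only [Subgroup.coe_inv, commutatorElement_def]; group]
          exact inv_mem (htriv _ (k⁻¹).2 b)
      refine ⟨⟨ConjClasses.mk (k * ⟨d, hM1le hd⟩), hfixed _ ?_⟩, ?_⟩
      · exact Subgroup.mem_centralizer_iff.1 hkd a (Subgroup.mem_zpowers a)
      · show QuotientGroup.mk (k * ⟨d, hM1le hd⟩) = QuotientGroup.mk k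
        rw [QuotientGroup.eq]
        show (((k * ⟨d, hM1le hd⟩)⁻¹ * k : M) : G) ∈ M1
        simp only [mul_inv_rev, Subgroup.coe_mul, Subgroup.coe_inv, inv_mul_cancel_right]
        exact inv_mem hd
    have hle : Nat.card Fx ≤ Nat.card (M ⧸ M1') := by
      rw [← card_fixed_irr_conjN]
      have hq1 : Nat.card (M →* ℂˣ) = Nat.card (M ⧸ M1') := by
        have h1 := card_linK hM1le hab
        rw [hlinK, Subgroup.card_top] at h1
        have h2 := M1'.index_mul_card
        rw [Nat.card_congr (Subgroup.subgroupOfEquivOfLe hM1le).toEquiv, ← h1] at h2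
        exact (Nat.eq_of_mul_eq_mul_right Nat.card_pos h2).symm
      rw [← hq1]
      refine Nat.card_le_card_of_injective (fun θ => (exists_hom_of_deg_one (isCharacter_of_irr θ.1.2) (by
        rw [IsCharacter.apply_one_eq_deg (isCharacter_of_irr θ.1.2), (hfix a ha ha1 haq _ θ.1.2 θ.2).1,
          Nat.cast_one])).choose) fun θ θ' h => Subtype.ext (Subtype.ext ?_)
      have h1 := (exists_hom_of_deg_one (isCharacter_of_irr θ.1.2) (by
        rw [IsCharacter.apply_one_eq_deg (isCharacter_of_irr θ.1.2), (hfix a ha ha1 haq _ θ.1.2 θ.2).1,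
          Nat.cast_one])).choose_spec
      have h2 := (exists_hom_of_deg_one (isCharacter_of_irr θ'.1.2) (by
        rw [IsCharacter.apply_one_eq_deg (isCharacter_of_irr θ'.1.2), (hfix a ha ha1 haq _ θ'.1.2 θ'.2).1,
          Nat.cast_one])).choose_spec
      rw [h1, h2]
      exact funext fun z => congrArg Units.val (DFunLike.congr_fun h z)
    have hinj := ((Function.Surjective.bijective_of_nat_card_le hsurj hle)).injective
    have h1 := hinj (a₁ := ⟨ConjClasses.mk ⟨c, hM1le hc⟩, hfixed _ hac⟩)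
      (a₂ := ⟨ConjClasses.mk 1, hfixed 1 (by simp)⟩) (by
        show QuotientGroup.mk (⟨c, hM1le hc⟩ : M) = QuotientGroup.mk (1 : M)
        rw [QuotientGroup.eq, mul_one]
        exact Subgroup.mem_subgroupOf.2 (inv_mem hc))
    obtain ⟨w, hw⟩ := isConj_iff.1 (ConjClasses.mk_eq_mk_iff_isConj.1 (congrArg Subtype.val h1).symm)
    rw [mul_one, mul_inv_cancel] at hw
    exact (congrArg Subtype.val hw).symm
  -- the commutator subgroup is trivial
  have hM1bot : M1 = ⊥ := by
    by_contra hne
    have hex : ∃ n, derivedSeries M n = ⊥ := hsol.solvable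
    obtain ⟨n, hn, hmin⟩ : ∃ n, derivedSeries M n = ⊥ ∧ ∀ m < n, derivedSeries M m ≠ ⊥ :=
      ⟨Nat.find hex, Nat.find_spec hex, fun m hm => Nat.find_min hex hm⟩
    have hn2 : 2 ≤ n := by
      by_contra h
      have h1 : derivedSeries M 1 = ⊥ := le_bot_iff.1 ((derivedSeries_antitone M (by omega)).trans hn.le)
      refine hne ?_
      show ⁅M, M⁆ = ⊥
      rw [← Subgroup.map_subtype_commutator, ← derivedSeries_one, h1, Subgroup.map_bot]
    obtain ⟨k, rfl⟩ : ∃ k, n = k + 1 := ⟨n - 1, by omega⟩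
    let A : Subgroup G := (derivedSeries M k).map M.subtype
    haveI hAn : A.Normal := inferInstance
    have hAM1 : A ≤ M1 := by
      show _ ≤ ⁅M, M⁆
      rw [← Subgroup.map_subtype_commutator, ← derivedSeries_one]
      exact Subgroup.map_mono (derivedSeries_antitone M (by omega))
    have hcA : ∀ u v : A, u * v = v * u := by
      rintro ⟨_, u, hu, rfl⟩ ⟨_, v, hv, rfl⟩
      refine Subtype.ext (congrArg (fun w : M => (w : G)) (?_ : u * v = v * u))
      rw [← commutatorElement_eq_one_iff_mul_comm, ← Subgroup.mem_bot, ← hn, derivedSeries_succ]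
      exact Subgroup.commutator_mem_commutator hu hv
    letI : CommGroup A := { mul_comm := hcA }
    refine hmin k (by omega) ((Subgroup.map_eq_bot_iff_of_injective _ M.subtype_injective).1 ?_)
    show A = ⊥
    rw [eq_bot_iff]
    intro c hc
    let act : G →* MulAut A := MulAut.conjNormal
    have hA : ∀ a ∈ Subgroup.closure ({x, y} : Set G), a ≠ 1 → a ^ q = 1 → ∀ v : A, act a v = v →
        v ∈ (⊥ : Subgroup A) := fun a ha ha1 haq v hv => by
      have h1 := congrArg Subtype.val hv
      rw [MulAut.conjNormal_apply] at h1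
      exact Subgroup.mem_bot.2 (Subtype.ext (hfpf a ha ha1 haq v (hAM1 v.2) (mul_inv_eq_iff_eq_mul.1 h1)))
    have hq' := Cfsg.Lib.Coprime.pow_mem_of_fixed hq (x := act x) (y := act y)
      (by rw [← map_pow, hx, map_one]) (by rw [← map_pow, hy, map_one]) (hxy.map _) (S := ⊥)
      (fun v hv => hA y hymem hy1 hy v hv)
      (fun j _ v hv => hA _ (hmem j).1 (hmem j).2.1 (hmem j).2.2 v (by rw [map_mul, map_pow]; exact hv)) ⟨c, hc⟩
    have hcq : c ^ q = 1 := congrArg Subtype.val (Subgroup.mem_bot.1 hq')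
    have hcM : c ^ Nat.card M = 1 := congrArg Subtype.val (pow_card_eq_one' (x := (⟨c, hM1le (hAM1 hc)⟩ : M)))
    have h3 := pow_gcd_eq_one.2 ⟨hcM, hcq⟩
    rw [hcop.gcd_eq_one, pow_one] at h3
    exact Subgroup.mem_bot.2 h3
  intro a ha g
  rw [← commutatorElement_eq_one_iff_mul_comm, ← Subgroup.mem_bot, ← hM1bot]
  exact htriv a ha g

end Cfsg.Lib.NDAD
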