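import Cfsg.Agent.Chars.NDAD.Basic

/-!
# The final shape of the degrees
-/

set_option autoImplicit false

namespace Cfsg.Lib.NDAD

open Cfsg.Lib.Chars

universe u

/-- The shape of the degrees and the derived length. -/
structure Shape (G : Type u) [Group G] : Prop where
  degs : (∃ a b : ℕ, ∀ χ : G → ℂ, Cfsg.IsIrrCharacter G χ → deg χ = 1 ∨ deg χ = a ∨ deg χ = b) ∨
    ∃ q f d₂ d₃ : ℕ, (∀ χ : G → ℂ, Cfsg.IsIrrCharacter G χ →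
        deg χ = 1 ∨ deg χ = f ∨ deg χ = d₂ ∨ deg χ = d₃) ∧
      q.Prime ∧ q ∣ d₂ ∧ (∃ r : ℕ, r.Prime ∧ r ∣ f ∧ r ∣ d₂) ∧ ∀ r : ℕ, r.Prime → r ∣ d₃ → r ∣ f ∨ r = q
  derived : derivedSeries G 3 = ⊥

end Cfsg.Lib.NDAD
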