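import Cfsg.Agent.Chars.NDAD.HMain
import Cfsg.Agent.Chars.NDAD.Reduce
import Cfsg.Agent.Chars.NDAD.Shape
import Cfsg.Agent.Chars.NDAD.B1Kernel
import Cfsg.Agent.Coprime.SchurZassenhaus

/-!
# A nonabelian Sylow quotient: the characters of the kernel
-/

set_option autoImplicit false
set_option linter.unusedSectionVars false
set_option linter.style.haveILetI false

namespace Cfsg.Lib.NDAD

open Cfsg.Lib.Chars
open scoped commutatorElement

universe u

variable {G : Type u} [Group G] [Finite G]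

theorem relIndex_map (M N : Subgroup G) [M.Normal] :
    M.relIndex N = Nat.card (N.map (QuotientGroup.mk' M)) := by
  have h := Subgroup.relIndex_comap (H := (⊥ : Subgroup (G ⧸ M))) (QuotientGroup.mk' M) N
  rw [MonoidHom.comap_bot, QuotientGroup.ker_mk', Subgroup.relIndex_bot_left] at h
  exact h

theorem deg_inflate (M : Subgroup G) [M.Normal] {χ : G ⧸ M → ℂ} (hχ : Cfsg.IsIrrCharacter (G ⧸ M) χ) :
    Cfsg.IsIrrCharacter G (fun g => χ (QuotientGroup.mk' M g)) ∧
      deg (fun g => χ (QuotientGroup.mk' M g)) = deg χ :=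
  ⟨IsIrrCharacter.comp_surjective hχ _ (QuotientGroup.mk'_surjective M), deg_comp _ _⟩

/-- A central subgroup: the degrees are those of the quotient. -/
theorem exists_deg_quotient (M : Subgroup G) [M.Normal] (hcen : ∀ a ∈ M, ∀ g : G, g * a = a * g)
    (hsyl : ∀ (p : ℕ) [Fact p.Prime] (S : Sylow p (G ⧸ M)), ¬ p ∣ Nat.card M ∨ IsCyclic (S : Subgroup (G ⧸ M)))
    {χ : G → ℂ} (hχ : Cfsg.IsIrrCharacter G χ) :
    ∃ χ' : G ⧸ M → ℂ, Cfsg.IsIrrCharacter (G ⧸ M) χ' ∧ deg χ = deg χ' := by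
  classical
  haveI := Fintype.ofFinite G
  haveI := Fintype.ofFinite M
  obtain ⟨l, hl⟩ := exists_central_hom hχ M fun a ha g => hcen a ha g
  have hinv : ∀ g : G, conjN M g (fun a => (l a : ℂ)) = fun a => (l a : ℂ) := fun g => funext fun a =>
    congrArg (fun b => ((l b : ℂˣ) : ℂ)) (Subtype.ext (by
      show g * (a : G) * g⁻¹ = a
      rw [hcen a a.2 g, mul_inv_cancel_right]))
  obtain ⟨η, hη, hres⟩ := exists_extension_sylow M (isIrrCharacter_linear l) hinv hsyl
  have hηM : Cfsg.IsIrrCharacter M (fun a : M => η a) := by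
    rw [show (fun a : M => η a) = fun a => (l a : ℂ) from funext hres]
    exact isIrrCharacter_linear l
  obtain ⟨b, hb, hχb, hbM⟩ := exists_factor_extension M hη hηM hχ (e := deg χ) fun a => by
    rw [hl, hres, IsCharacter.apply_one_eq_deg (isCharacter_of_irr hχ)]
  obtain ⟨b', hb', hbb⟩ := exists_factor (QuotientGroup.mk' M) (QuotientGroup.mk'_surjective M)
    (isCharacter_of_irr hb) (fun x hx => hbM ⟨x, by rwa [QuotientGroup.ker_mk'] at hx⟩)
  refine ⟨b', IsIrrCharacter.descend hb' _ (QuotientGroup.mk'_surjective M) (hbb ▸ hb), ?_⟩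
  have hη1 : η 1 = 1 := by
    have h := hres 1
    rw [OneMemClass.coe_one, map_one, Units.val_one] at h
    exact h
  have h1 : deg χ = deg b := by
    apply Nat.cast_injective (R := ℂ)
    rw [← IsCharacter.apply_one_eq_deg (isCharacter_of_irr hχ), ← IsCharacter.apply_one_eq_deg (isCharacter_of_irr hb),
      hχb, Pi.mul_apply, hη1, mul_one]
  rw [h1, hbb]
  exact deg_comp _ _

namespace FrobData

variable {q f : ℕ} {N M : Subgroup G} (d : FrobData G q f N M)
include d

theorem cop_NM : Nat.Coprime (Nat.card M) (M.relIndex N) := by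
  obtain ⟨j, hj⟩ := d.qN
  rw [hj]
  exact d.copM.pow_right j

theorem B1 (hnab : ∃ a ∈ N, ∃ b ∈ N, ⁅a, b⁆ ∉ M) : Shape G := by
  classical
  haveI := Fintype.ofFinite G
  haveI := d.normN
  haveI := d.normM
  haveI := d.sol
  haveI := Fintype.ofFinite M
  haveI := Fact.mk d.hq
  set π := QuotientGroup.mk' M with hπ
  have hπs : Function.Surjective π := QuotientGroup.mk'_surjective M
  have hker : ∀ x, π x = 1 ↔ x ∈ M := fun x => QuotientGroup.eq_one_iff x
  haveI hQn : (N.map π).Normal := Subgroup.Normal.map inferInstance π hπs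
  obtain ⟨j, hj⟩ := d.qN
  have hQcard : Nat.card (N.map π) = q ^ j := by rw [← relIndex_map, hj]
  have hQp : IsPGroup q (N.map π) := IsPGroup.of_card hQcard
  have hkerN : π.ker ≤ N := by rw [hπ, QuotientGroup.ker_mk']; exact d.leMN
  have hQidx : (N.map π).index = f := by rw [Subgroup.index_map_eq N hπs hkerN, d.index]
  have hqf : q.Coprime f := d.hq.coprime_iff_not_dvd.2 d.qf
  obtain ⟨K, hK⟩ := Subgroup.exists_right_complement'_of_coprime (N := N.map π)
    (by rw [hQcard, hQidx]; exact hqf.pow_left j)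
  have hKf : Nat.card K = f := by rw [← hK.symm.index_eq_card, hQidx]
  have hKinf : N.map π ⊓ K = ⊥ := hK.disjoint.eq_bot
  -- the quotient `(G ⧸ M) ⧸ Q` is cyclic
  have hcycH : IsCyclic ((G ⧸ M) ⧸ N.map π) := by
    haveI := d.cyc
    let g : G ⧸ N →* (G ⧸ M) ⧸ N.map π := QuotientGroup.map N (N.map π) π (Subgroup.le_comap_map _ _)
    refine isCyclic_of_surjective g fun z => ?_
    obtain ⟨z, rfl⟩ := QuotientGroup.mk'_surjective (N.map π) z
    obtain ⟨z, rfl⟩ := hπs z
    exact ⟨QuotientGroup.mk z, rfl⟩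
  have hcycK : IsCyclic K := by
    haveI := hcycH
    refine isCyclic_of_injective ((QuotientGroup.mk' (N.map π)).comp K.subtype) ?_
    rw [injective_iff_map_eq_one]
    intro z hz
    have h1 : (z : G ⧸ M) ∈ N.map π ⊓ K := ⟨(QuotientGroup.eq_one_iff (z : G ⧸ M)).1 hz, z.2⟩
    rw [hKinf, Subgroup.mem_bot] at h1
    exact Subtype.ext h1
  letI : CommGroup K := IsCyclic.commGroup
  have hHD : HData (N.map π) K.subtype q f :=
    { nd := d.nd.of_quotient M
      pab := fun p K' hK' hp hpK => by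
        haveI := hK'
        let g : G ⧸ K'.comap π →* (G ⧸ M) ⧸ K' := QuotientGroup.map (K'.comap π) K' π le_rfl
        have hg : Function.Injective g := by
          rw [injective_iff_map_eq_one]
          intro z
          induction z using QuotientGroup.induction_on with
          | _ x => exact fun hz => (QuotientGroup.eq_one_iff x).2 ((QuotientGroup.eq_one_iff (π x)).1 hz)
        have h1 := d.pab p (K'.comap π) inferInstance hp (hpK.of_injective g hg)
        rw [← derivedSeries_one, ← map_derivedSeries_eq hπs, derivedSeries_one, Subgroup.map_le_iff_le_comap]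
        exact h1
      hq := d.hq
      one_lt := d.one_lt
      qf := d.qf
      qQ := hQp
      cardF := hKf
      cyc := hcycK
      inj := K.subtype_injective
      inf := by rw [Subgroup.range_subtype]; exact hKinf
      sup := by rw [Subgroup.range_subtype]; exact hK.sup_eq_top
      moved := by
        obtain ⟨l, hl, hlM⟩ := d.moved
        have hs : Function.Surjective (π.subgroupMap N) := π.subgroupMap_surjective N
        have hk : (π.subgroupMap N).ker ≤ l.ker := fun z hz => hlM z ((hker _).1 (congrArg Subtype.val hz))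
        let l' : N.map π →* ℂˣ := MonoidHom.liftOfSurjective _ hs ⟨l, hk⟩
        have hl' : ∀ z : N, l' (π.subgroupMap N z) = l z := fun z =>
          MonoidHom.liftOfRightInverse_comp_apply _ _ _ ⟨l, hk⟩ z
        refine ⟨l', le_antisymm (fun g hg => ?_) (le_inertia (isClassFunction_isChar
          (isCharacter_of_irr (isIrrCharacter_linear l'))))⟩
        obtain ⟨g, rfl⟩ := hπs g
        refine Subgroup.mem_map_of_mem π (hl.le (mem_inertia.2 (funext fun z => ?_)))
        have h1 := congrFun (mem_inertia.1 hg) (π.subgroupMap N z)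
        show ((l _ : ℂˣ) : ℂ) = _
        rw [← hl', ← hl']
        refine Eq.trans ?_ h1
        exact congrArg (fun w => ((l' w : ℂˣ) : ℂ)) (Subtype.ext (by simp)) }
  haveI hPn : (⁅N.map π, K.subtype.range⁆ : Subgroup (G ⧸ M)).Normal := PSet.normal_commutator hHD
  have hS : PSet (N.map π) K.subtype q f ⁅N.map π, K.subtype.range⁆ :=
    { hd := hHD
      eqP := rfl
      nab := by
        obtain ⟨a, ha, b, hb, hab⟩ := hnab
        refine ⟨π a, Subgroup.mem_map_of_mem π ha, π b, Subgroup.mem_map_of_mem π hb, fun e => hab ?_⟩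
        rw [← hker, map_commutatorElement]
        exact commutatorElement_eq_one_iff_mul_comm.2 e }
  have hC := hS.main
  set P : Subgroup (G ⧸ M) := ⁅N.map π, K.subtype.range⁆ with hP
  obtain ⟨χf, hχf, hχfd⟩ := hHD.exists_f
  obtain ⟨hχfG, hχfGd⟩ := deg_inflate M hχf
  rw [hχfd] at hχfGd
  have hsylG : ∀ (p : ℕ) [Fact p.Prime] (S : Subgroup (G ⧸ M)), IsPGroup p S → ¬ p ∣ Nat.card M ∨ IsCyclic S := by
    intro p hp S hS'
    by_cases hpq : p = q
    · subst hpq
      exact Or.inl (d.hq.coprime_iff_not_dvd.1 d.copM.symm)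
    right
    haveI := hcycH
    refine isCyclic_of_injective ((QuotientGroup.mk' (N.map π)).comp S.subtype) ?_
    rw [injective_iff_map_eq_one]
    intro z hz
    have hzQ : (z : G ⧸ M) ∈ N.map π := (QuotientGroup.eq_one_iff (z : G ⧸ M)).1 hz
    obtain ⟨a, ha⟩ := hS' z
    have h2 : (z : G ⧸ M) ^ q ^ j = 1 := by
      rw [← hQcard]
      exact congrArg Subtype.val (pow_card_eq_one' (x := (⟨_, hzQ⟩ : N.map π)))
    have h3 : (z : G ⧸ M) ^ p ^ a = 1 := congrArg Subtype.val ha
    exact Subtype.ext (eq_one_of_pow_pow (((Nat.coprime_primes hp.out d.hq).2 hpq).pow a j) h3 h2)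
  -- the degree over a character of `M` is `1`, unless no element of `P` fixes it
  have key : ∀ θ : M → ℂ, Cfsg.IsIrrCharacter M θ → (inertia M θ).index * deg θ ≠ 1 →
      (∀ a : G, π a ∈ P → π a ∈ (inertia M θ).map π → π a = 1) ∧
        ∃ x ∈ P, ∃ y ∈ P, x ^ q = 1 ∧ y ^ q = 1 ∧ Commute x y ∧ y ≠ 1 ∧ x ∉ Subgroup.zpowers y := by
    intro θ hθ hd1
    set X := inertia M θ with hX
    have hMX : M ≤ X := le_inertia (isClassFunction_isChar (isCharacter_of_irr hθ))
    have hd' : 1 < X.index * deg θ := by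
      have : 0 < X.index * deg θ := Nat.mul_pos (Nat.pos_of_ne_zero X.index_ne_zero_of_finite) (deg_pos hθ)
      omega
    obtain ⟨⟨χ, hχ, hχd⟩, habX⟩ := abelian_inertia d.nd M hθ (fun p _ S hS' _ => hsylG p S hS') hd'
    have hXb : (X.map π).index = X.index :=
      Subgroup.index_map_eq X hπs (by rw [hπ, QuotientGroup.ker_mk']; exact hMX)
    have habXb : ∀ a ∈ X.map π, ∀ b ∈ X.map π, a * b = b * a := by
      rintro _ ⟨a, ha, rfl⟩ _ ⟨b, hb, rfl⟩
      rw [← commutatorElement_eq_one_iff_mul_comm, ← map_commutatorElement, hker]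
      exact habX a ha b hb
    set n := Nat.card (N.map π) with hn
    have hnf : n.Coprime f := by rw [hQcard]; exact hqf.pow_left j
    have hHcard : Nat.card (G ⧸ M) = n * f := by rw [hn, ← hQidx, Subgroup.card_mul_index]
    by_cases hXQ : X.map π ≤ N.map π
    · exfalso
      have h1 : f ∣ X.index := hXb ▸ hQidx ▸ Subgroup.index_dvd_of_le hXQ
      have h2 := d.nd.eq_of_dvd hχfG hχ (by rw [hχfGd]; exact d.one_lt.ne')
        (by rw [hχfGd, hχd]; exact h1.mul_right _)
      rw [hχfGd, hχd] at h2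
      have h3 : X.index = f := Nat.dvd_antisymm ⟨_, h2.symm⟩ h1
      have h4 : X.map π = N.map π := Subgroup.eq_of_le_of_card_ge hXQ (le_of_eq
        (Nat.eq_of_mul_eq_mul_right (lt_trans one_pos d.one_lt) (show Nat.card (N.map π) * f = Nat.card (X.map π) * f by
          rw [← h3, ← hXb, (X.map π).card_mul_index, hXb, h3, ← hQidx, (N.map π).card_mul_index])))
      obtain ⟨a, ha, b, hb, hab⟩ := hnab
      refine hab ((hker _).1 ?_)
      rw [map_commutatorElement, commutatorElement_eq_one_iff_mul_comm]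
      exact habXb _ (h4.ge (Subgroup.mem_map_of_mem π ha)) _ (h4.ge (Subgroup.mem_map_of_mem π hb))
    -- split off the part of order dividing `f`
    set A := X.map π ⊓ N.map π with hA
    let T₀ : Subgroup (G ⧸ M) :=
      { carrier := {z | z ∈ X.map π ∧ z ^ f = 1}
        one_mem' := ⟨one_mem _, one_pow f⟩
        mul_mem' := fun {a b} ha hb => ⟨mul_mem ha.1 hb.1, by
          rw [(show Commute a b from habXb a ha.1 b hb.1).mul_pow, ha.2, hb.2, one_mul]⟩
        inv_mem' := fun {a} ha => ⟨inv_mem ha.1, by rw [inv_pow, ha.2, inv_one]⟩ }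
    have hpowQ : ∀ z : G ⧸ M, z ^ f ∈ N.map π := fun z => by
      have h1 : (QuotientGroup.mk z : (G ⧸ M) ⧸ N.map π) ^ (N.map π).index = 1 := pow_card_eq_one'
      rw [hQidx] at h1
      exact (QuotientGroup.eq_one_iff (z ^ f)).1 (by rw [QuotientGroup.mk_pow]; exact h1)
    have hsplit : X.map π = A ⊔ T₀ := by
      refine le_antisymm (fun z hz => ?_) (sup_le inf_le_left fun z hz => hz.1)
      have h1 : z ^ f ∈ A ⊔ T₀ := Subgroup.mem_sup_left ⟨pow_mem hz f, hpowQ z⟩
      have h2 : z ^ n ∈ A ⊔ T₀ := Subgroup.mem_sup_right ⟨pow_mem hz n, by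
        rw [← pow_mul, ← hHcard, pow_card_eq_one']⟩
      have hb := Nat.gcd_eq_gcd_ab n f
      rw [hnf.gcd_eq_one, Nat.cast_one] at hb
      rw [← zpow_one z, hb, zpow_add, zpow_mul, zpow_mul, zpow_natCast, zpow_natCast]
      exact mul_mem (Subgroup.zpow_mem _ h2 _) (Subgroup.zpow_mem _ h1 _)
    have hdis : A ⊓ T₀ = ⊥ := by
      rw [eq_bot_iff]
      rintro z ⟨⟨-, hzQ⟩, hz⟩
      exact Subgroup.mem_bot.2 (eq_one_of_pow_pow hnf
        (congrArg Subtype.val (pow_card_eq_one' (x := (⟨z, hzQ⟩ : N.map π)))) hz.2)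
    have hT₀Q : T₀ ⊓ N.map π = ⊥ := by
      rw [eq_bot_iff]
      rintro z ⟨hz, hzQ⟩
      rw [← hdis]
      exact ⟨⟨hz.1, hzQ⟩, hz⟩
    have hT₀ne : T₀ ≠ ⊥ := fun e => hXQ (by rw [hsplit, e, sup_bot_eq]; exact inf_le_right)
    have hcardX : Nat.card (X.map π) = Nat.card A * Nat.card T₀ := by
      rw [hsplit, Cfsg.Lib.Coprime.card_sup_of_inf_eq_bot (fun t ht => ?_) hdis]
      refine Cfsg.Lib.Coprime.mem_normalizer_of_conj_mem ?_ ?_
      · intro a ha
        rwa [habXb t ht.1 a ha.1, mul_inv_cancel_right]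
      · intro a ha
        rwa [mul_assoc, habXb a ha.1 t ht.1, inv_mul_cancel_left]
    have hT₀cop : (Nat.card (N.map π)).Coprime (Nat.card T₀) := by
      show n.Coprime _
      rw [hQcard]
      refine (d.hq.coprime_iff_not_dvd.2 fun hdvd => ?_).pow_left j
      obtain ⟨z, hz⟩ := exists_prime_orderOf_dvd_card' (G := T₀) q hdvd
      have h1 : orderOf z ∣ f := orderOf_dvd_of_pow_eq_one (Subtype.ext z.2.2)
      exact d.qf (hz ▸ h1)
    obtain ⟨v, hv, hle⟩ := Cfsg.Lib.Coprime.exists_conj_le_of_coprime (N := N.map π) (H := K) (L := T₀)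
      (by rw [Subgroup.normalizer_eq_top_iff.2 hQn]; exact le_top)
      (by show n.Coprime _; rw [hKf]; exact hnf) (Or.inl hS.sol)
      (by rw [hK.sup_eq_top]; exact le_top) hT₀cop
    set cv : MulAut (G ⧸ M) := MulAut.conj v⁻¹ with hcv
    set T : Subgroup K := (T₀.map cv.toMonoidHom).subgroupOf K with hT
    have hTle : T₀.map cv.toMonoidHom ≤ K := by
      rintro _ ⟨t, ht, rfl⟩
      have := Cfsg.Lib.Coprime.mem_conjMap.1 (hle ht)
      simpa [hcv, mul_assoc] using this
    have hTcard : Nat.card T = Nat.card T₀ := by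
      rw [hT, Nat.card_congr (Subgroup.subgroupOfEquivOfLe hTle).toEquiv,
        Subgroup.card_map_of_injective cv.injective]
    have hTne : T ≠ ⊥ := fun e => hT₀ne (Subgroup.card_eq_one.1 (by rw [← hTcard, e, Subgroup.card_bot]))
    set A₁ := A.map cv.toMonoidHom with hA₁
    have hA₁Q : A₁ ≤ N.map π := by
      rintro _ ⟨a, ha, rfl⟩
      exact hQn.conj_mem a ha.2 v⁻¹
    have hrel : A₁.relIndex (N.map π) * T.index = X.index := by
      have e1 : Nat.card A₁ * A₁.relIndex (N.map π) = n := by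
        have h := (A₁.subgroupOf (N.map π)).index_mul_card
        rw [Nat.card_congr (Subgroup.subgroupOfEquivOfLe hA₁Q).toEquiv, mul_comm] at h
        exact h
      have e2 := T.card_mul_index
      rw [hKf] at e2
      have e3 := (X.map π).card_mul_index
      rw [hXb, hcardX, hHcard, ← e2, ← e1, ← hTcard,
        show Nat.card A₁ = Nat.card A from Subgroup.card_map_of_injective cv.injective] at e3
      refine (Nat.eq_of_mul_eq_mul_left (Nat.mul_pos (Nat.card_pos (α := A)) (Nat.card_pos (α := T))) ?_).symm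
      rw [e3]; ring
    rcases hC.bad A₁ hA₁Q
        (by
          rintro _ ⟨a, ha, rfl⟩ _ ⟨b, hb, rfl⟩
          rw [← map_mul, ← map_mul, habXb a ha.1 b hb.1])
        T hTne
        (by
          rintro _ ⟨a, ha, rfl⟩ s hs
          obtain ⟨t, ht, hts⟩ := Subgroup.mem_subgroupOf.1 hs
          rw [show K.subtype s = cv.toMonoidHom t from hts.symm, ← map_mul, ← map_mul, habXb t ht.1 a ha.1]) with
      ⟨χ₀, hχ₀, h1, h2, h3⟩ | ⟨hdisP, hpair⟩
    · exfalso
      obtain ⟨hi, hid⟩ := deg_inflate M hχ₀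
      have h4 := d.nd.eq_of_dvd hi hχ (by rw [hid]; exact h1.ne')
        (by rw [hid, hχd, ← hrel]; exact h2.mul_right _)
      rw [hid, hχd] at h4
      rw [hrel] at h3
      exact absurd ((Nat.le_mul_of_pos_right _ (deg_pos hθ)).trans h4.le) (not_le.2 h3)
    · refine ⟨fun a haP haX => ?_, hpair⟩
      have h1 : cv.toMonoidHom (π a) ∈ A₁ ⊓ P :=
        ⟨Subgroup.mem_map_of_mem _ ⟨haX, hS.le_Q haP⟩, hPn.conj_mem _ haP v⁻¹⟩
      rw [hdisP, Subgroup.mem_bot] at h1
      exact cv.injective (h1.trans (map_one cv).symm)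
  -- `M` is central
  have hcen : ∀ a ∈ M, ∀ g : G, g * a = a * g := by
    by_cases hall : ∀ θ : M → ℂ, Cfsg.IsIrrCharacter M θ → (inertia M θ).index * deg θ = 1
    · intro a ha g
      have hlin : ∀ θ : Cfsg.IrrCharacter M, deg (θ : M → ℂ) = 1 := fun θ =>
        Nat.eq_one_of_mul_eq_one_left (hall θ θ.2)
      have hab : ∀ u v : M, u * v = v * u := fun u v => by
        have h := commutator_mem_of_linear (⊥ : Subgroup M) (fun θ _ => hlin θ) u v
        rwa [Subgroup.mem_bot, commutatorElement_eq_one_iff_mul_comm] at h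
      have hm : ⁅g, a⁆ ∈ M := by
        rw [commutatorElement_def]; exact mul_mem ((inferInstance : M.Normal).conj_mem a ha g) (inv_mem ha)
      rw [← commutatorElement_eq_one_iff_mul_comm, ← Subgroup.mem_bot]
      refine mem_of_forall_linK (L := M) (x := ⟨_, hm⟩) (fun u hu v hv => ?_) fun l _ => ?_
      · rw [Subgroup.mem_bot, commutatorElement_eq_one_iff_mul_comm]
        exact congrArg Subtype.val (hab ⟨u, hu⟩ ⟨v, hv⟩)
      · have h1 : inertia M (fun x => (l x : ℂ)) = ⊤ := Subgroup.index_eq_one.1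
          (Nat.eq_one_of_mul_eq_one_right (hall _ (isIrrCharacter_linear l)))
        have h2 := congrFun (mem_inertia.1 (h1 ▸ Subgroup.mem_top g)) (⟨a, ha⟩ : M)
        have h3 : l ⟨g * a * g⁻¹, (inferInstance : M.Normal).conj_mem a ha g⟩ = l ⟨a, ha⟩ := Units.ext h2
        rw [show (⟨⁅g, a⁆, hm⟩ : M) = ⟨g * a * g⁻¹, (inferInstance : M.Normal).conj_mem a ha g⟩ * (⟨a, ha⟩ : M)⁻¹ from
          Subtype.ext rfl, map_mul, map_inv, h3, mul_inv_cancel]
    push Not at hall
    obtain ⟨θ₀, hθ₀, hne₀⟩ := hall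
    obtain ⟨-, x, hxP, y, hyP, hx, hy, hxy, hy1, hxy'⟩ := key θ₀ hθ₀ hne₀
    obtain ⟨Q₀, hQ₀N, hQ₀sup, hQ₀card⟩ := Cfsg.Lib.Coprime.exists_complement_in d.leMN
      (by rw [Subgroup.normalizer_eq_top_iff.2 inferInstance]; exact le_top) d.cop_NM
    have hinj : ∀ u ∈ Q₀, π u = 1 → u = 1 := fun u hu h1 =>
      Cfsg.Lib.Coprime.eq_one_of_coprime (N := M) (H := Q₀) (by rw [hQ₀card]; exact d.cop_NM)
        ((hker u).1 h1) hu
    have hlift : ∀ z ∈ N.map π, ∃ u ∈ Q₀, π u = z := by
      rintro _ ⟨w, hw, rfl⟩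
      obtain ⟨m, hm, u, hu, rfl⟩ := Subgroup.mem_sup_of_normal_left.1 (hQ₀sup.ge hw)
      exact ⟨u, hu, by rw [map_mul, (hker m).2 hm, one_mul]⟩
    obtain ⟨x', hx'Q, hx'⟩ := hlift x (hS.le_Q hxP)
    obtain ⟨y', hy'Q, hy'⟩ := hlift y (hS.le_Q hyP)
    have hpow : ∀ u ∈ Q₀, π u ^ q = 1 → u ^ q = 1 := fun u hu h => hinj _ (pow_mem hu q) (by rw [map_pow, h])
    have hcl : Subgroup.closure ({x', y'} : Set G) ≤ Q₀ ⊓ P.comap π := by
      rw [Subgroup.closure_le]
      rintro u (rfl | rfl)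
      · exact ⟨hx'Q, by show π _ ∈ P; rw [hx']; exact hxP⟩
      · exact ⟨hy'Q, by show π _ ∈ P; rw [hy']; exact hyP⟩
    refine central_of_pair d.hq d.copM (x := x') (y := y') (hpow x' hx'Q (hx'.symm ▸ hx))
      (hpow y' hy'Q (hy'.symm ▸ hy)) ?_ (fun e => hy1 (by rw [← hy', e, map_one]))
      (fun hm => hxy' ?_) fun a ha ha1 _ θ hθ hfixa => ?_
    · show x' * y' = y' * x'
      rw [← commutatorElement_eq_one_iff_mul_comm]
      refine hinj _ ?_ ?_
      · rw [commutatorElement_def]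
        exact mul_mem (mul_mem (mul_mem hx'Q hy'Q) (inv_mem hx'Q)) (inv_mem hy'Q)
      · rw [map_commutatorElement, hx', hy', commutatorElement_eq_one_iff_mul_comm]
        exact hxy
    · obtain ⟨i, hi⟩ := hm
      exact ⟨i, by rw [← hx', ← hy']; exact (map_zpow π y' i).symm.trans (congrArg π hi)⟩
    · by_cases hd1 : (inertia M θ).index * deg θ = 1
      · exact ⟨Nat.eq_one_of_mul_eq_one_left hd1, Subgroup.index_eq_one.1 (Nat.eq_one_of_mul_eq_one_right hd1)⟩
      · exact absurd (hinj a (hcl ha).1 ((key θ hθ hd1).1 a (hcl ha).2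
          (Subgroup.mem_map_of_mem π (mem_inertia.2 hfixa)))) ha1
  constructor
  · have hdeg : ∀ χ : G → ℂ, Cfsg.IsIrrCharacter G χ → ∃ χ' : G ⧸ M → ℂ,
        Cfsg.IsIrrCharacter (G ⧸ M) χ' ∧ deg χ = deg χ' := fun χ hχ =>
      exists_deg_quotient M hcen (fun p _ S => hsylG p _ S.isPGroup') hχ
    rcases hC.degs with ⟨m, hm⟩ | ⟨d₂, d₃, hdd, hq2, hr, h3⟩
    · refine Or.inl ⟨f, m, fun χ hχ => ?_⟩
      obtain ⟨χ', hχ', e⟩ := hdeg χ hχ
      rw [e]; exact hm χ' hχ'
    · refine Or.inr ⟨q, f, d₂, d₃, fun χ hχ => ?_, d.hq, hq2, hr, h3⟩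
      obtain ⟨χ', hχ', e⟩ := hdeg χ hχ
      rw [e]; exact hdd χ' hχ'
  · obtain ⟨L, hLQ, hLab, hL⟩ := hC.derived
    have h2 : derivedSeries G 2 ≤ L.comap π := by
      rw [← Subgroup.map_le_iff_le_comap, map_derivedSeries_eq hπs]
      exact hL
    rw [derivedSeries_succ, eq_bot_iff]
    refine Subgroup.commutator_le.2 fun a ha b hb => ?_
    rw [Subgroup.mem_bot]
    have hcM : ⁅a, b⁆ ∈ M := by
      rw [← hker, map_commutatorElement, commutatorElement_eq_one_iff_mul_comm]
      exact hLab _ (h2 ha) _ (h2 hb)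
    have hb' : ∀ i : ℕ, ⁅a, b⁆ ^ i = ⁅a ^ i, b⁆ := by
      intro i
      induction i with
      | zero => rw [pow_zero, pow_zero, commutatorElement_one_left]
      | succ i ih =>
        rw [pow_succ' a, pow_succ', ih,
          show ⁅a * a ^ i, b⁆ = a * ⁅a ^ i, b⁆ * a⁻¹ * ⁅a, b⁆ by simp only [commutatorElement_def]; group]
        rw [← ih, hcen _ (pow_mem hcM i) a, mul_inv_cancel_right, ← pow_succ', ← pow_succ]
    have h1 : ⁅a, b⁆ ^ q ^ j = 1 := by
      rw [hb', commutatorElement_eq_one_iff_mul_comm]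
      exact (hcen _ ((hker _).1 (by
        rw [map_pow, ← hQcard]
        exact congrArg Subtype.val (pow_card_eq_one' (x := (⟨π a, hLQ (h2 ha)⟩ : N.map π))))) b).symm
    have h4 : ⁅a, b⁆ ^ Nat.card M = 1 := congrArg Subtype.val (pow_card_eq_one' (x := (⟨_, hcM⟩ : M)))
    exact eq_one_of_pow_pow ((d.copM.symm).pow_left j) h1 h4

end FrobData

end Cfsg.Lib.NDAD
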