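import Cfsg.Agent.Chars.NDAD.PBase

/-!
# Annihilators and exponents in the lower central series
-/

set_option autoImplicit false
set_option linter.unusedSectionVars false
set_option linter.style.haveILetI false

namespace Cfsg.Lib.NDAD

open Cfsg.Lib.Chars
open scoped commutatorElement

universe u v

variable {P : Type u} [Group P]

/-- A subgroup containing the commutator subgroup is normal. -/
theorem normal_of_lc_one_le {K : Subgroup P} (hK : lc P 1 ≤ K) : K.Normal :=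
  ⟨fun n hn g => by
    rw [show g * n * g⁻¹ = ⁅g, n⁆ * n by rw [commutatorElement_def, inv_mul_cancel_right]]
    exact mul_mem (hK (comm_mem_lc (i := 0) (j := 0) (by omega) (mem_lc_zero g) (mem_lc_zero n))) hn⟩

theorem eq_one_of_pow_pow {M : Type*} [Monoid M] {x : M} {a b : ℕ} (hab : a.Coprime b) (ha : x ^ a = 1)
    (hb : x ^ b = 1) : x = 1 := by
  have h := pow_gcd_eq_one.2 ⟨ha, hb⟩
  rwa [hab.gcd_eq_one, pow_one] at h

theorem ev_pow_left {k : ℕ} (l : lc P k →* ℂˣ) (x : P) (n : ℕ) : ev (l ^ n) x = ev l x ^ n := by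
  unfold ev
  split <;> simp

theorem ev_pow {k : ℕ} (l : lc P k →* ℂˣ) {x : P} (hx : x ∈ lc P k) (n : ℕ) : ev l (x ^ n) = ev l x ^ n := by
  induction n with
  | zero => rw [pow_zero, pow_zero, ev_one]
  | succ n ih => rw [pow_succ, pow_succ, ev_mul l (pow_mem hx n) hx, ih]

theorem ev_comm_pow_left {i j k : ℕ} (hk : k ≤ i + j + 1) {l : lc P k →* ℂˣ} (hl : l ∈ Lam P k)
    {x y : P} (hx : x ∈ lc P i) (hy : y ∈ lc P j) (n : ℕ) : ev l ⁅x ^ n, y⁆ = ev l ⁅x, y⁆ ^ n := by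
  induction n with
  | zero => rw [pow_zero, pow_zero, commutatorElement_one_left, ev_one]
  | succ n ih => rw [pow_succ, pow_succ, ev_comm_mul_left hk hl (pow_mem hx n) hx hy, ih]

theorem ev_comm_pow_right {i j k : ℕ} (hk : k ≤ i + j + 1) {l : lc P k →* ℂˣ} (hl : l ∈ Lam P k)
    {x y : P} (hx : x ∈ lc P i) (hy : y ∈ lc P j) (n : ℕ) : ev l ⁅x, y ^ n⁆ = ev l ⁅x, y⁆ ^ n := by
  induction n with
  | zero => rw [pow_zero, pow_zero, commutatorElement_one_right, ev_one]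
  | succ n ih => rw [pow_succ, pow_succ, ev_comm_mul_right hk hl hx (pow_mem hy n) hy, ih]

/-- The elements pairing trivially with a term of the series. -/
def rann {i k : ℕ} (hk : k ≤ i + 0 + 1) {l : lc P k →* ℂˣ} (hl : l ∈ Lam P k) : Subgroup P where
  carrier := {y | ∀ x ∈ lc P i, ev l ⁅x, y⁆ = 1}
  one_mem' := fun x _ => by rw [commutatorElement_one_right, ev_one]
  mul_mem' := fun {a b} ha hb x hx => by
    rw [ev_comm_mul_right hk hl hx (mem_lc_zero a) (mem_lc_zero b), ha x hx, hb x hx, one_mul]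
  inv_mem' := fun {a} ha x hx => by
    rw [ev_comm_inv_right hk hl hx (mem_lc_zero a), ha x hx, inv_one]

theorem mem_rann {i k : ℕ} {hk : k ≤ i + 0 + 1} {l : lc P k →* ℂˣ} {hl : l ∈ Lam P k} {y : P} :
    y ∈ rann hk hl ↔ ∀ x ∈ lc P i, ev l ⁅x, y⁆ = 1 := Iff.rfl

variable [Finite P]

theorem card_rann {i k : ℕ} (hk : k ≤ i + 0 + 1) (hik : i ≤ k) {l : lc P k →* ℂˣ} (hl : l ∈ Lam P k)
    (hker : ∀ x ∈ lc P i, (x ∈ lc P k ↔ ∀ y : P, ev l ⁅x, y⁆ = 1)) :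
    Nat.card (rann hk hl) * Nat.card (lc P i) = Nat.card P * Nat.card (lc P k) := by
  have h := isPairing_ev (i := i) (j := 0) hk hl
  have e1 : Nat.card h.annR = Nat.card (rann hk hl) :=
    Nat.card_congr
      { toFun := fun y => ⟨(y : lc P 0), fun x hx => y.2 ⟨x, hx⟩⟩
        invFun := fun y => ⟨⟨y, mem_lc_zero _⟩, fun x => y.2 x x.2⟩
        left_inv := fun y => rfl
        right_inv := fun y => rfl }
  have e2 : Nat.card h.annL = Nat.card (lc P k) :=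
    Nat.card_congr
      { toFun := fun x => ⟨(x : lc P i), (hker _ x.1.2).2 fun y => x.2 ⟨y, mem_lc_zero y⟩⟩
        invFun := fun x => ⟨⟨x, lc_anti hik x.2⟩, fun y => (hker _ (lc_anti hik x.2)).1 x.2 y⟩
        left_inv := fun x => rfl
        right_inv := fun x => rfl }
  have e3 : Nat.card (lc P 0) = Nat.card P := Subgroup.card_top
  rw [← e1, h.card_ann, e2, e3]

variable {F : Type v} [CommGroup F] [Finite F] {act : F →* MulAut P} {q : ℕ}

namespace PData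

variable (h : PData act q)
include h

theorem exists_lam_ne_one {k : ℕ} (hk : lc P k ≠ ⊥) : ∃ l ∈ Lam P k, l ≠ 1 := by
  by_contra hc
  push Not at hc
  exact hk (h.lc_bot_of_lam hc)

theorem nondeg1 {l : lc P 1 →* ℂˣ} (hl : l ∈ Lam P 1) (hne : l ≠ 1) {x : P}
    (hev : ∀ y : P, ev l ⁅x, y⁆ = 1) : x ∈ lc P 1 := by
  obtain ⟨φ, hφ, hφl⟩ := h.exists_over_lam hl
  exact h.nondeg hφ hφl (i := 0) rfl (mem_lc_zero x)
    (fun hx => h.vanish hφ hφl hne (i := 0) (by omega) (fun s _ hs => h.fpf_zero hs) (mem_lc_zero x) hx) hev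

/-- The data of a character over a character of the commutator factor. -/
theorem over_one {l : lc P 1 →* ℂˣ} (hl : l ∈ Lam P 1) (hne : l ≠ 1) :
    ∃ φ : P → ℂ, Cfsg.IsIrrCharacter P φ ∧ (∀ x ∈ lc P 1, φ x = φ 1 * (ev l x : ℂ)) ∧ deg φ ≠ 1 ∧
      deg φ ^ 2 = (lc P 1).index ∧ fixSub act φ = lamStab act 1 l ∧ ∀ x, x ∉ lc P 1 → φ x = 0 := by
  obtain ⟨φ, hφ, hφl⟩ := h.exists_over_lam hl
  have hv : ∀ x, x ∉ lc P 1 → φ x = 0 := fun x hx =>
    h.vanish hφ hφl hne (i := 0) (by omega) (fun s _ hs => h.fpf_zero hs) (mem_lc_zero x) hx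
  exact ⟨φ, hφ, hφl, h.nonlinear hφ hφl le_rfl hne, (h.ramified hφ hφl hl hv).1, (h.ramified hφ hφl hl hv).2, hv⟩

theorem lamStab_one_ne_bot {l : lc P 1 →* ℂˣ} (hl : l ∈ Lam P 1) (hne : l ≠ 1) : lamStab act 1 l ≠ ⊥ := by
  obtain ⟨φ, hφ, -, hd, -, hfix, -⟩ := h.over_one hl hne
  obtain ⟨s, hs, hsφ⟩ := h.stab φ hφ hd
  intro hb
  rw [hb] at hfix
  exact hs (Subgroup.mem_bot.1 (hfix ▸ (hsφ : s ∈ fixSub act φ)))

theorem pow_mem_one (hL : lc P 1 ≠ ⊥) (x : P) : x ^ q ∈ lc P 1 := by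
  haveI := Fact.mk h.hq
  obtain ⟨l₀, hl₀, hne₀⟩ := h.exists_lam_ne_one hL
  haveI : Nontrivial (Lam P 1) := ⟨⟨l₀, hl₀⟩, 1, fun e => hne₀ (congrArg Subtype.val e)⟩
  obtain ⟨j, hj⟩ := h.card_lam_pow 1
  have hj0 : j ≠ 0 := fun e => by
    have := Finite.one_lt_card (α := Lam P 1)
    rw [hj, e, pow_zero] at this
    exact absurd this (lt_irrefl 1)
  obtain ⟨l, hl⟩ := exists_prime_orderOf_dvd_card' (G := Lam P 1) q (hj ▸ dvd_pow_self q hj0)
  have hne : (l : lc P 1 →* ℂˣ) ≠ 1 := fun e => by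
    rw [show l = 1 from Subtype.ext e, orderOf_one] at hl
    exact h.hq.one_lt.ne hl
  have hlq : (l : lc P 1 →* ℂˣ) ^ q = 1 := by
    have := congrArg Subtype.val (pow_orderOf_eq_one l)
    rwa [hl] at this
  refine h.nondeg1 l.2 hne fun y => ?_
  rw [ev_comm_pow_left (i := 0) (j := 0) (by omega) l.2 (mem_lc_zero x) (mem_lc_zero y), ← ev_pow_left, hlq,
    ev_one_left]

theorem lam_pow {k : ℕ} (hk : 1 ≤ k) {l : lc P k →* ℂˣ} (hl : l ∈ Lam P k) : l ^ q = 1 := by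
  obtain ⟨j, rfl⟩ : ∃ j, k = j + 1 := ⟨k - 1, by omega⟩
  by_cases hL : lc P 1 = ⊥
  · ext x
    have hx1 : (x : P) ∈ (⊥ : Subgroup P) := hL ▸ lc_anti hk x.2
    rw [show x = 1 from Subtype.ext (Subgroup.mem_bot.1 hx1), map_one, map_one]
  refine lam_eq_one fun x hx y => ?_
  rw [ev_pow_left, ← ev_comm_pow_right (i := j) (j := 0) (by omega) hl hx (mem_lc_zero y)]
  exact ev_next hl (comm_mem_lc (i := j) (j := 1) (by omega) hx (h.pow_mem_one hL y))

theorem ev_pow_q {k : ℕ} (hk : 1 ≤ k) {l : lc P k →* ℂˣ} (hl : l ∈ Lam P k) (x : P) : ev l x ^ q = 1 := by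
  rw [← ev_pow_left, h.lam_pow hk hl, ev_one_left]

theorem pow_mem_next {k : ℕ} (hk : 1 ≤ k) {x : P} (hx : x ∈ lc P k) : x ^ q ∈ lc P (k + 1) :=
  mem_next (pow_mem hx q) fun l hl => by rw [ev_pow l hx, h.ev_pow_q hk hl]

end PData

end Cfsg.Lib.NDAD
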