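import Cfsg.Agent.Chars.NDAD.SNil
import Cfsg.Agent.Chars.NDAD.Shape
import Cfsg.Agent.Chars.NDAD.PTools
import Cfsg.Agent.Chars.ThreeDegreesMain
import Cfsg.Agent.Coprime.Action
import Cfsg.Agent.Thompson.FixedPointFree

/-!
# An abelian Sylow quotient: the splitting over the fixed point free part of the kernel
-/

set_option autoImplicit false
set_option linter.unusedSectionVars false
set_option linter.style.haveILetI false

namespace Cfsg.Lib.NDAD

open Cfsg.Lib.Chars
open scoped commutatorElement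

universe u

variable {G : Type u} [Group G] [Finite G]

namespace FrobData

variable {q f : ℕ} {N M : Subgroup G} (d : FrobData G q f N M)
include d

theorem exists_deg_f : ∃ χ : G → ℂ, Cfsg.IsIrrCharacter G χ ∧ deg χ = f := by
  classical
  haveI := d.normN
  haveI := Fintype.ofFinite G
  haveI := Fintype.ofFinite N
  obtain ⟨l, hl, -⟩ := d.moved
  obtain ⟨χ, hχ, hc⟩ := exists_over N (isIrrCharacter_linear l)
  refine ⟨χ, hχ, ?_⟩
  rw [deg_eq_of_cyclic N d.cyc hχ (isIrrCharacter_linear l) hc, hl, d.index,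
    show deg (fun n : N => (l n : ℂ)) = 1 by simp [deg], mul_one]

theorem horbN (l : N →* ℂˣ) : haveI := d.normN
    inertia N (fun n => (l n : ℂ)) = N ∨ inertia N (fun n => (l n : ℂ)) = ⊤ := by
  classical
  haveI := d.normN
  haveI := Fintype.ofFinite G
  haveI := Fintype.ofFinite N
  set X := inertia N (fun n => (l n : ℂ))
  have hNX : N ≤ X := le_inertia (isClassFunction_isChar (isCharacter_of_irr (isIrrCharacter_linear l)))
  obtain ⟨χ, hχ, hc⟩ := exists_over N (isIrrCharacter_linear l)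
  have hd := deg_eq_of_cyclic N d.cyc hχ (isIrrCharacter_linear l) hc
  rw [show deg (fun n : N => (l n : ℂ)) = 1 by simp [deg], mul_one] at hd
  by_cases h1 : X.index = 1
  · exact Or.inr (Subgroup.index_eq_one.1 h1)
  left
  obtain ⟨φ, hφ, hφd⟩ := d.exists_deg_f
  have h2 := d.nd.eq_of_dvd hχ hφ (hd ▸ h1) (by rw [hd, hφd]; exact (Subgroup.index_dvd_of_le hNX).trans (dvd_of_eq d.index))
  rw [hφd, hd] at h2
  refine (Subgroup.eq_of_le_of_card_ge hNX (le_of_eq ?_)).symm
  have e1 := X.card_mul_index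
  have e2 := N.card_mul_index
  rw [← h2] at e1
  rw [d.index] at e2
  exact Nat.eq_of_mul_eq_mul_right (lt_trans one_pos d.one_lt) (e1.trans e2.symm)

theorem B2 (hab : ∀ a ∈ N, ∀ b ∈ N, ⁅a, b⁆ ∈ M) : Shape G := by
  classical
  haveI := Fintype.ofFinite G
  haveI := d.normN
  haveI := d.normM
  haveI := d.sol
  haveI := Fintype.ofFinite M
  haveI := Fact.mk d.hq
  obtain ⟨j, hj⟩ := d.qN
  have hcopMN : (Nat.card M).Coprime (M.relIndex N) := by rw [hj]; exact d.copM.pow_right j
  set π := QuotientGroup.mk' M with hπ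
  have hπs : Function.Surjective π := QuotientGroup.mk'_surjective M
  have hmk : ∀ x, π x = 1 ↔ x ∈ M := fun x => QuotientGroup.eq_one_iff x
  have hkerN : π.ker ≤ N := by rw [hπ, QuotientGroup.ker_mk']; exact d.leMN
  obtain ⟨φf, hφf, hφfd⟩ := d.exists_deg_f
  -- the quotient modulo `M`
  haveI hQn : (N.map π).Normal := Subgroup.Normal.map inferInstance π hπs
  have hQidx : (N.map π).index = f := by rw [Subgroup.index_map_eq N hπs hkerN, d.index]
  haveI hcycH : IsCyclic ((G ⧸ M) ⧸ N.map π) := by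
    haveI := d.cyc
    let g : G ⧸ N →* (G ⧸ M) ⧸ N.map π := QuotientGroup.map N (N.map π) π (Subgroup.le_comap_map _ _)
    refine isCyclic_of_surjective g fun z => ?_
    obtain ⟨z, rfl⟩ := QuotientGroup.mk'_surjective (N.map π) z
    obtain ⟨z, rfl⟩ := hπs z
    exact ⟨QuotientGroup.mk z, rfl⟩
  obtain ⟨Db, Zb, -, -, hDbN, -, hDZb, -, hDbc, -, hcentb, -⟩ := abelian_frobenius (N.map π) (by
      rintro _ ⟨x, hx, rfl⟩ _ ⟨y, hy, rfl⟩
      rw [← commutatorElement_eq_one_iff_mul_comm, ← map_commutatorElement, hmk]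
      exact hab x hx y hy) d.one_lt hQidx hcycH
    (fun l => by
      let lN : N →* ℂˣ := l.comp (π.subgroupMap N)
      have hiff : ∀ g : G, g ∈ inertia N (fun n => (lN n : ℂ)) ↔ π g ∈ inertia (N.map π) (fun x => (l x : ℂ)) := by
        intro g
        rw [mem_inertia, mem_inertia, funext_iff, funext_iff]
        constructor
        · intro h x
          obtain ⟨n, rfl⟩ := π.subgroupMap_surjective N x
          refine Eq.trans ?_ (h n)
          exact congrArg (fun z => ((l z : ℂˣ) : ℂ)) (Subtype.ext (by simp))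
        · intro h n
          refine Eq.trans ?_ (h (π.subgroupMap N n))
          exact congrArg (fun z => ((l z : ℂˣ) : ℂ)) (Subtype.ext (by simp))
      refine (d.horbN lN).imp (fun h => ?_) fun h => ?_
      · refine le_antisymm (fun x hx => ?_)
          (le_inertia (isClassFunction_isChar (isCharacter_of_irr (isIrrCharacter_linear l))))
        obtain ⟨g, rfl⟩ := hπs x
        exact Subgroup.mem_map_of_mem π (h.le ((hiff g).2 hx))
      · rw [eq_top_iff]
        intro x _
        obtain ⟨g, rfl⟩ := hπs x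
        exact (hiff g).1 (h.ge (Subgroup.mem_top g)))
    (fun p K hK hp hpK => by
      haveI := hK
      let g : G ⧸ K.comap π →* (G ⧸ M) ⧸ K := QuotientGroup.map (K.comap π) K π le_rfl
      have hg : Function.Injective g := by
        rw [injective_iff_map_eq_one]
        intro z
        induction z using QuotientGroup.induction_on with
        | _ x => exact fun hz => (QuotientGroup.eq_one_iff x).2 ((QuotientGroup.eq_one_iff (π x)).1 hz)
      have h1 := d.pab p (K.comap π) inferInstance hp (hpK.of_injective g hg)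
      rw [← derivedSeries_one, ← map_derivedSeries_eq hπs, derivedSeries_one, Subgroup.map_le_iff_le_comap]
      exact h1)
  have hDbne : Db ≠ ⊥ := by
    intro hbot
    obtain ⟨l, hl, hlM⟩ := d.moved
    have htop : inertia N (fun n => (l n : ℂ)) = ⊤ := by
      rw [eq_top_iff]
      intro g _
      refine mem_inertia.2 (funext fun x => congrArg Units.val ?_)
      have hm : ⁅g, (x : G)⁆ ∈ M := by
        rw [← hmk, map_commutatorElement, ← Subgroup.mem_bot, ← hbot, hDbc]
        exact Subgroup.commutator_mem_commutator (Subgroup.mem_top _) (Subgroup.mem_top _)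
      rw [show (⟨g * x * g⁻¹, d.normN.conj_mem x x.2 g⟩ : N) = ⟨⁅g, (x : G)⁆, d.leMN hm⟩ * x from
        Subtype.ext (show g * (x : G) * g⁻¹ = g * (x : G) * g⁻¹ * (x : G)⁻¹ * (x : G) by group), map_mul,
        hlM _ hm, one_mul]
    have h1 := d.index
    rw [← hl, htop, Subgroup.index_top] at h1
    exact d.one_lt.ne h1
  -- a complement and a fixed point free element
  obtain ⟨Q₀, hQ₀N, hQ₀sup, hQ₀card⟩ := Cfsg.Lib.Coprime.exists_complement_in d.leMN
    (by rw [Subgroup.normalizer_eq_top_iff.2 inferInstance]; exact le_top) hcopMN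
  have hcopQ : (Nat.card M).Coprime (Nat.card Q₀) := by rw [hQ₀card]; exact hcopMN
  have hinj : ∀ u ∈ Q₀, u ∈ M → u = 1 := fun u hu hum =>
    Cfsg.Lib.Coprime.eq_one_of_coprime (N := M) (H := Q₀) hcopQ hum hu
  have hQab : ∀ x ∈ Q₀, ∀ y ∈ Q₀, x * y = y * x := fun x hx y hy => by
    rw [← commutatorElement_eq_one_iff_mul_comm]
    refine hinj _ ?_ (hab x (hQ₀N hx) y (hQ₀N hy))
    rw [commutatorElement_def]
    exact mul_mem (mul_mem (mul_mem hx hy) (inv_mem hx)) (inv_mem hy)
  have hsolQ : Group.IsSolvable Q₀ := Group.isSolvable_of_comm fun x y => Subtype.ext (hQab x x.2 y y.2)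
  obtain ⟨x₀, hx₀Q, hx₀D, hx₀1⟩ : ∃ x ∈ Q₀, π x ∈ Db ∧ x ≠ 1 := by
    obtain ⟨⟨b, hb⟩, hb1⟩ := (Subgroup.ne_bot_iff_exists_ne_one).1 hDbne
    obtain ⟨w, hw, rfl⟩ := hDbN hb
    obtain ⟨m, hm, u, hu, rfl⟩ := Subgroup.mem_sup_of_normal_left.1 (hQ₀sup.ge hw)
    rw [map_mul, (hmk m).2 hm, one_mul] at hb
    refine ⟨u, hu, hb, fun h => hb1 (Subtype.ext ?_)⟩
    show π (m * u) = 1
    rw [map_mul, (hmk m).2 hm, h, map_one, one_mul]
  obtain ⟨a, haQ, haq, ha1, haD⟩ : ∃ a ∈ Q₀, a ^ q = 1 ∧ a ≠ 1 ∧ π a ∈ Db := by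
    have h1 : orderOf x₀ ∣ q ^ j := by
      rw [← hj, ← hQ₀card]; exact Subgroup.orderOf_dvd_natCard Q₀ hx₀Q
    obtain ⟨i, -, hi⟩ := (Nat.dvd_prime_pow d.hq).1 h1
    have hi0 : i ≠ 0 := fun h => hx₀1 (orderOf_eq_one_iff.1 (by rw [hi, h, pow_zero]))
    have hdvd : q ∣ orderOf x₀ := hi ▸ dvd_pow_self q hi0
    have ho : orderOf (x₀ ^ (orderOf x₀ / q)) = q := orderOf_pow_orderOf_div (orderOf_pos x₀).ne' hdvd
    refine ⟨x₀ ^ (orderOf x₀ / q), pow_mem hx₀Q _, ?_, fun h => ?_, by rw [map_pow]; exact Db.pow_mem hx₀D _⟩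
    · have h := pow_orderOf_eq_one (x₀ ^ (orderOf x₀ / q))
      rwa [ho] at h
    · rw [h, orderOf_one] at ho
      exact d.hq.one_lt.ne ho
  have hGood : ∀ g : G, g ∉ N → ⁅g, a⁆ ∉ M := by
    intro g hg hm
    have h1 : π a ∈ Db ⊓ Zb := ⟨haD, hcentb (π g) (fun h => hg (by
      obtain ⟨n, hn, hng⟩ := h
      have h2 : n⁻¹ * g ∈ M := by rw [← hmk, map_mul, map_inv, hng, inv_mul_cancel]
      rw [show g = n * (n⁻¹ * g) by group]
      exact N.mul_mem hn (d.leMN h2))) _ (hDbN haD) (by
      rw [← commutatorElement_eq_one_iff_mul_comm, ← map_commutatorElement, hmk]; exact hm)⟩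
    rw [hDZb, Subgroup.mem_bot, hmk] at h1
    exact ha1 (hinj a haQ h1)
  -- characters of `M` fixed by `a`
  have hsylG : ∀ (p : ℕ) [Fact p.Prime] (S : Subgroup (G ⧸ M)), IsPGroup p S → ¬ p ∣ Nat.card M ∨ IsCyclic S := by
    intro p hp S hS'
    by_cases hpq : p = q
    · subst hpq
      exact Or.inl (d.hq.coprime_iff_not_dvd.1 d.copM.symm)
    right
    refine isCyclic_of_injective ((QuotientGroup.mk' (N.map π)).comp S.subtype) ?_
    rw [injective_iff_map_eq_one]
    intro z hz
    have hzQ : (z : G ⧸ M) ∈ N.map π := (QuotientGroup.eq_one_iff (z : G ⧸ M)).1 hz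
    obtain ⟨i, hi⟩ := hS' z
    obtain ⟨w, hw, hwz⟩ := hzQ
    have h2 : (z : G ⧸ M) ^ q ^ j = 1 := by
      rw [← hwz, ← map_pow, hmk, ← hj]
      haveI : (M.subgroupOf N).Normal := inferInstance
      exact (M.subgroupOf N).pow_index_mem (⟨w, hw⟩ : N)
    have h3 : (z : G ⧸ M) ^ p ^ i = 1 := congrArg Subtype.val hi
    exact Subtype.ext (eq_one_of_pow_pow (((Nat.coprime_primes hp.out d.hq).2 hpq).pow i j) h3 h2)
  have hfixed : ∀ θ : M → ℂ, Cfsg.IsIrrCharacter M θ → conjN M a θ = θ →
      deg θ = 1 ∧ N ≤ inertia M θ := by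
    intro θ hθ hfix
    set X := inertia M θ with hX
    by_cases hd1 : X.index * deg θ = 1
    · exact ⟨Nat.eq_one_of_mul_eq_one_left hd1,
        by rw [Subgroup.index_eq_one.1 (Nat.eq_one_of_mul_eq_one_right hd1)]; exact le_top⟩
    have hd' : 1 < X.index * deg θ := by
      have : 0 < X.index * deg θ := Nat.mul_pos (Nat.pos_of_ne_zero X.index_ne_zero_of_finite) (deg_pos hθ)
      omega
    obtain ⟨⟨χ, hχ, hχd⟩, habX⟩ := abelian_inertia d.nd M hθ (fun p _ S hS _ => hsylG p S hS) hd'
    have hXN : X ≤ N := fun g hg => by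
      by_contra hgN
      exact hGood g hgN (habX g hg a (mem_inertia.2 hfix))
    have hdvd : f ∣ X.index := d.index ▸ Subgroup.index_dvd_of_le hXN
    have h2 := d.nd.eq_of_dvd hφf hχ (by have := d.one_lt; omega) (by rw [hφfd, hχd]; exact hdvd.mul_right _)
    rw [hφfd, hχd] at h2
    have hXpos : 0 < X.index := Nat.pos_of_ne_zero X.index_ne_zero_of_finite
    have h3 : X.index = f := Nat.dvd_antisymm ⟨_, h2.symm⟩ hdvd
    rw [h3] at h2
    refine ⟨Nat.eq_of_mul_eq_mul_left (lt_trans one_pos d.one_lt) (h2.trans (mul_one f).symm), le_of_eq ?_⟩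
    refine (Subgroup.eq_of_le_of_card_ge hXN (le_of_eq ?_)).symm
    have e1 := X.card_mul_index
    have e2 := N.card_mul_index
    rw [h3] at e1
    rw [d.index] at e2
    exact Nat.eq_of_mul_eq_mul_right (lt_trans one_pos d.one_lt) (e2.trans e1.symm)
  set U := ⁅M, N⁆ with hU
  haveI hUn : U.Normal := inferInstanceAs (⁅M, N⁆).Normal
  have hUM : U ≤ M := Subgroup.commutator_le_left M N
  have habU : ∀ x ∈ M, ∀ y ∈ M, ⁅x, y⁆ ∈ U := fun x hx y hy =>
    Subgroup.commutator_mem_commutator hx (d.leMN hy)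
  have hconjU : ∀ k ∈ M, ∀ b ∈ N, k⁻¹ * b * k * b⁻¹ ∈ U := fun k hk b hb => by
    rw [show k⁻¹ * b * k * b⁻¹ = ⁅k⁻¹, b⁆ by rw [commutatorElement_def, inv_inv]]
    exact Subgroup.commutator_mem_commutator (inv_mem hk) hb
  have hfpf : ∀ c ∈ U, a * c = c * a → c = 1 := by
    intro c hc hac
    let U' := U.subgroupOf M
    haveI : U'.Normal := inferInstance
    let Fx := {C : ConjClasses M // ConjClasses.map (MulEquiv.toMonoidHom (MulAut.conjNormal a : MulAut M)) C = C}
    let cls : ConjClasses M → M ⧸ U' := Quotient.lift (QuotientGroup.mk (s := U')) fun u v huv => by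
      obtain ⟨w, hw⟩ := isConj_iff.1 (huv : IsConj u v)
      rw [← hw, QuotientGroup.eq]
      show ((u⁻¹ * (w * u * w⁻¹) : M) : G) ∈ U
      rw [show ((u⁻¹ * (w * u * w⁻¹) : M) : G) = ⁅((u⁻¹ : M) : G), (w : G)⁆ by
        simp only [Subgroup.coe_mul, Subgroup.coe_inv, commutatorElement_def]; group]
      exact habU _ (u⁻¹).2 _ w.2
    have hfx : ∀ z : M, a * z = z * a →
        ConjClasses.map (MulEquiv.toMonoidHom (MulAut.conjNormal a : MulAut M)) (ConjClasses.mk z) = ConjClasses.mk z :=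
      fun z hz => congrArg ConjClasses.mk (Subtype.ext (by
        show (((MulAut.conjNormal a : MulAut M) z : M) : G) = z
        rw [MulAut.conjNormal_apply, hz, mul_inv_cancel_right]))
    have hsurj : Function.Surjective (fun C : Fx => cls C.1) := fun t => by
      obtain ⟨k, rfl⟩ := QuotientGroup.mk_surjective t
      obtain ⟨e, he, hke⟩ := Cfsg.Lib.Coprime.exists_fixed_in_coset (A := Subgroup.zpowers a) (D := U)
        (by rw [Subgroup.normalizer_eq_top_iff.2 hUn]; exact le_top)
        (by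
          rw [Nat.card_zpowers]
          exact ((d.copM.symm.coprime_dvd_left (orderOf_dvd_of_pow_eq_one haq)).coprime_dvd_right
            (Subgroup.card_dvd_of_le hUM)))
        (Or.inl (Group.isSolvable_of_comm fun u v => by
          obtain ⟨_, i, rfl⟩ := u
          obtain ⟨_, i', rfl⟩ := v
          exact Subtype.ext ((Commute.refl a).zpow_zpow i i'))) (k := (k : G))
        fun b hb => hconjU k k.2 b (Subgroup.zpowers_le.2 (hQ₀N haQ) hb)
      refine ⟨⟨ConjClasses.mk (k * ⟨e, hUM he⟩), hfx _ ?_⟩, ?_⟩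
      · exact Subgroup.mem_centralizer_iff.1 hke a (Subgroup.mem_zpowers a)
      · show QuotientGroup.mk (k * ⟨e, hUM he⟩) = QuotientGroup.mk k
        rw [QuotientGroup.eq]
        show (((k * ⟨e, hUM he⟩)⁻¹ * k : M) : G) ∈ U
        simp only [mul_inv_rev, Subgroup.coe_inv, inv_mul_cancel_right]
        exact inv_mem he
    have hle : Nat.card Fx ≤ Nat.card (M ⧸ U') := by
      rw [← card_fixed_irr_conjN]
      have hkill : ∀ θ : {θ : Cfsg.IrrCharacter M // conjN M a (θ : M → ℂ) = θ},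
          ∃ l : M →* ℂˣ, l ∈ linK M U ∧ (θ.1 : M → ℂ) = fun x => (l x : ℂ) := by
        intro θ
        obtain ⟨h1, h2⟩ := hfixed _ θ.1.2 θ.2
        obtain ⟨l, hl⟩ := exists_hom_of_deg_one (isCharacter_of_irr θ.1.2)
          (by rw [IsCharacter.apply_one_eq_deg (isCharacter_of_irr θ.1.2), h1, Nat.cast_one])
        refine ⟨l, fun z hz => ?_, hl⟩
        have hle : U ≤ l.ker.map M.subtype := Subgroup.commutator_le.2 fun m hm n hn => by
          have hmem : ⁅m, n⁆ ∈ M := hUM (Subgroup.commutator_mem_commutator hm hn)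
          refine ⟨⟨_, hmem⟩, ?_, rfl⟩
          rw [SetLike.mem_coe, MonoidHom.mem_ker,
            show (⟨⁅m, n⁆, hmem⟩ : M) = ⟨m, hm⟩ * (⟨n * m * n⁻¹, (inferInstance : M.Normal).conj_mem m hm n⟩ : M)⁻¹ from
              Subtype.ext (by show ⁅m, n⁆ = m * (n * m * n⁻¹)⁻¹; rw [commutatorElement_def]; group),
            map_mul, map_inv]
          have h3 := congrFun (mem_inertia.1 (h2 hn)) ⟨m, hm⟩
          rw [hl] at h3
          change ((l ⟨n * m * n⁻¹, _⟩ : ℂˣ) : ℂ) = (l ⟨m, hm⟩ : ℂ) at h3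
          rw [Units.val_inj] at h3
          rw [h3, mul_inv_cancel]
        obtain ⟨w, hw, hwz⟩ := hle hz
        rw [show z = w from (Subtype.ext hwz).symm]
        exact hw
      choose L hL hLθ using hkill
      refine (Nat.card_le_card_of_injective (fun θ => (⟨L θ, hL θ⟩ : linK M U)) fun θ θ' h => ?_).trans (le_of_eq ?_)
      · refine Subtype.ext (Subtype.ext ?_)
        rw [hLθ θ, hLθ θ']
        exact funext fun z => congrArg Units.val (DFunLike.congr_fun (congrArg Subtype.val h) z)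
      · rw [card_linK_relIndex hUM habU]; rfl
    have hinjc := ((Function.Surjective.bijective_of_nat_card_le hsurj hle)).injective
    have h1 := hinjc (a₁ := ⟨ConjClasses.mk ⟨c, hUM hc⟩, hfx _ hac⟩)
      (a₂ := ⟨ConjClasses.mk 1, hfx 1 (by simp)⟩) (by
        show QuotientGroup.mk (⟨c, hUM hc⟩ : M) = QuotientGroup.mk (1 : M)
        rw [QuotientGroup.eq, mul_one]
        exact Subgroup.mem_subgroupOf.2 (inv_mem hc))
    obtain ⟨w, hw⟩ := isConj_iff.1 (ConjClasses.mk_eq_mk_iff_isConj.1 (congrArg Subtype.val h1).symm)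
    rw [mul_one, mul_inv_cancel] at hw
    exact (congrArg Subtype.val hw).symm
  -- the centraliser part
  set C := M ⊓ Subgroup.centralizer (Q₀ : Set G) with hC
  have hCU : ∀ c ∈ C, c ∈ U → c = 1 := fun c hc hcU =>
    hfpf c hcU (Subgroup.mem_centralizer_iff.1 hc.2 a haQ)
  have hMCU : ∀ m ∈ M, ∃ u ∈ U, ∃ c ∈ C, m = u * c := by
    intro m hm
    obtain ⟨e, he, hme⟩ := Cfsg.Lib.Coprime.exists_fixed_in_coset (A := Q₀) (D := U)
      (by rw [Subgroup.normalizer_eq_top_iff.2 hUn]; exact le_top)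
      (hcopQ.symm.coprime_dvd_right (Subgroup.card_dvd_of_le hUM)) (Or.inl hsolQ) (k := m)
      fun b hb => hconjU m hm b (hQ₀N hb)
    refine ⟨m * e⁻¹ * m⁻¹, hUn.conj_mem _ (inv_mem he) m, m * e, ⟨mul_mem hm (hUM he), hme⟩, by group⟩
  have hCab : ∀ x ∈ C, ∀ y ∈ C, x * y = y * x := fun x hx y hy => by
    rw [← commutatorElement_eq_one_iff_mul_comm]
    refine hCU _ ?_ (habU x hx.1 y hy.1)
    rw [commutatorElement_def]
    exact mul_mem (mul_mem (mul_mem hx hy) (inv_mem hx)) (inv_mem hy)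
  set J := Subgroup.normalizer (Q₀ : Set G) with hJ
  have hQJ : Q₀ ≤ J := Subgroup.le_normalizer
  have hmemJ : ∀ g : G, g ∈ J ↔ ∀ x, x ∈ Q₀ ↔ g * x * g⁻¹ ∈ Q₀ := fun g => Subgroup.mem_normalizer_iff
  have hJU : ∀ u ∈ U, u ∈ J → u = 1 := by
    intro u hu huJ
    refine hfpf u hu ?_
    have h1 : ⁅u, a⁆ = 1 := hinj _ (by
      rw [commutatorElement_def]; exact mul_mem (((hmemJ u).1 huJ a).1 haQ) (inv_mem haQ)) (by
      rw [commutatorElement_def, mul_assoc u a u⁻¹ |>.symm.symm, show u * (a * u⁻¹) * a⁻¹ = u * (a * u⁻¹ * a⁻¹) by group]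
      exact mul_mem (hUM hu) ((inferInstance : M.Normal).conj_mem _ (inv_mem (hUM hu)) a))
    exact (commutatorElement_eq_one_iff_mul_comm.1 h1).symm
  have hCJ : C ≤ J := fun c hc => by
    rw [hmemJ]
    intro x
    have hx : ∀ {y}, y ∈ Q₀ → c * y * c⁻¹ = y := fun {y} hy => by
      rw [← Subgroup.mem_centralizer_iff.1 hc.2 y hy, mul_inv_cancel_right]
    refine ⟨fun h => by rwa [hx h], fun h => ?_⟩
    have h2 := hx h
    rw [show x = c * x * c⁻¹ from mul_left_cancel (a := c) (mul_right_cancel (b := c⁻¹) h2.symm)]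
    exact h
  have hGUJ : ∀ g : G, ∃ u ∈ U, ∃ x ∈ J, g = u * x := by
    intro g
    have hnorm : Q₀ ≤ Subgroup.normalizer (M : Set G) := by
      rw [Subgroup.normalizer_eq_top_iff.2 inferInstance]; exact le_top
    obtain ⟨m, hm, hme⟩ := Cfsg.Lib.Coprime.exists_conj_eq_of_coprime (K := Q₀.map (MulAut.conj g).toMonoidHom)
      hnorm hcopQ (Or.inr hsolQ) (by
        rw [hQ₀sup]
        rintro _ ⟨x, hx, rfl⟩
        exact d.normN.conj_mem x (hQ₀N hx) g) (Subgroup.card_map_of_injective (MulAut.conj g).injective)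
    have hmgJ : m⁻¹ * g ∈ J := by
      rw [hmemJ]
      intro x
      have hiff : g * x * g⁻¹ ∈ Cfsg.Lib.Coprime.conjMap m Q₀ ↔ x ∈ Q₀ := by
        rw [← hme]
        exact ⟨fun ⟨y, hy, hyx⟩ => by
          rwa [show x = y from ((MulAut.conj g).injective hyx).symm], fun hx => ⟨x, hx, rfl⟩⟩
      rw [← hiff, Cfsg.Lib.Coprime.mem_conjMap,
        show m⁻¹ * g * x * (m⁻¹ * g)⁻¹ = m⁻¹ * (g * x * g⁻¹) * m by group]
    obtain ⟨u, hu, c, hc, rfl⟩ := hMCU m hm
    refine ⟨u, hu, c * ((u * c)⁻¹ * g), J.mul_mem (hCJ hc) hmgJ, by group⟩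
  -- the projection to the normalizer
  let τ : J →* G ⧸ U := (QuotientGroup.mk' U).comp J.subtype
  have hτ : Function.Bijective τ := by
    constructor
    · rw [injective_iff_map_eq_one]
      exact fun x hx => Subtype.ext (hJU x ((QuotientGroup.eq_one_iff (x : G)).1 hx) x.2)
    · intro z
      obtain ⟨g, rfl⟩ := QuotientGroup.mk_surjective z
      obtain ⟨u, hu, x, hx, rfl⟩ := hGUJ g
      refine ⟨⟨x, hx⟩, ?_⟩
      show QuotientGroup.mk' U x = QuotientGroup.mk' U (u * x)
      rw [map_mul, show QuotientGroup.mk' U u = 1 from (QuotientGroup.eq_one_iff u).2 hu, one_mul]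
  let r : G →* J := (MulEquiv.ofBijective τ hτ).symm.toMonoidHom.comp (QuotientGroup.mk' U)
  have hrs : ∀ x : J, r (J.subtype x) = x := fun x => (MulEquiv.ofBijective τ hτ).symm_apply_apply x
  have hrker : r.ker = U := by
    ext g
    show (MulEquiv.ofBijective τ hτ).symm (QuotientGroup.mk' U g) = 1 ↔ _
    rw [MulEquiv.map_eq_one_iff]
    exact QuotientGroup.eq_one_iff g
  have hUN : U ≤ N := hUM.trans d.leMN
  have hrN : ∀ g : G, r g ∈ N.subgroupOf J ↔ g ∈ N := by
    intro g
    have h1 : g * ((r g : J) : G)⁻¹ ∈ N := hUN (hrker.le (by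
      rw [MonoidHom.mem_ker, map_mul, map_inv, show r ((r g : J) : G) = r g from hrs (r g), mul_inv_cancel]))
    rw [Subgroup.mem_subgroupOf]
    refine ⟨fun h => ?_, fun h => ?_⟩
    · rw [show g = g * ((r g : J) : G)⁻¹ * (r g : J) by group]; exact N.mul_mem h1 h
    · rw [show ((r g : J) : G) = (g * ((r g : J) : G)⁻¹)⁻¹ * g by group]; exact N.mul_mem (N.inv_mem h1) h
  set A := N.subgroupOf J with hA
  haveI hAn : A.Normal := inferInstance
  have hAidx : A.index = f := by
    rw [← d.index, ← Subgroup.index_comap_of_surjective A (fun x => ⟨J.subtype x, hrs x⟩ : Function.Surjective r)]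
    congr 1
    ext g
    exact hrN g
  haveI hcycA : IsCyclic (J ⧸ A) := by
    haveI := d.cyc
    let g : J ⧸ A →* G ⧸ N := QuotientGroup.map A N J.subtype fun x hx => hx
    refine isCyclic_of_injective g ?_
    rw [injective_iff_map_eq_one]
    intro z
    induction z using QuotientGroup.induction_on with
    | _ x => exact fun hz => (QuotientGroup.eq_one_iff x).2 ((QuotientGroup.eq_one_iff (x : G)).1 hz)
  have hAab : ∀ x ∈ A, ∀ y ∈ A, x * y = y * x := by
    have hsplit : ∀ x ∈ A, ∃ c ∈ C, ∃ b ∈ Q₀, (x : G) = c * b := by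
      intro x hx
      obtain ⟨m, hm, b, hb, hmb⟩ := Subgroup.mem_sup_of_normal_left.1 (hQ₀sup.ge hx)
      change m * b = (x : G) at hmb
      refine ⟨m, ⟨hm, ?_⟩, b, hb, hmb.symm⟩
      have hmJ : m ∈ J := by
        rw [show m = (x : G) * b⁻¹ by rw [← hmb, mul_inv_cancel_right]]
        exact J.mul_mem x.2 (J.inv_mem (hQJ hb))
      refine Subgroup.mem_centralizer_iff.2 ?_
      intro y hy
      have h1 : ⁅m, y⁆ = 1 := hinj _ (by
        rw [commutatorElement_def]; exact mul_mem (((hmemJ m).1 hmJ y).1 hy) (inv_mem hy)) (by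
        rw [commutatorElement_def, show m * y * m⁻¹ * y⁻¹ = m * (y * m⁻¹ * y⁻¹) by group]
        exact mul_mem hm ((inferInstance : M.Normal).conj_mem _ (inv_mem hm) y))
      exact (commutatorElement_eq_one_iff_mul_comm.1 h1).symm
    intro x hx y hy
    obtain ⟨c, hc, b, hb, hxe⟩ := hsplit x hx
    obtain ⟨c', hc', b', hb', hye⟩ := hsplit y hy
    refine Subtype.ext ?_
    show (x : G) * y = y * x
    rw [hxe, hye]
    have h1 : Commute c c' := hCab c hc c' hc'
    have h2 : Commute c b' := (Subgroup.mem_centralizer_iff.1 hc.2 b' hb').symm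
    have h3 : Commute b c' := Subgroup.mem_centralizer_iff.1 hc'.2 b hb
    have h4 : Commute b b' := hQab b hb b' hb'
    exact ((h1.mul_right h2).mul_left (h3.mul_right h4)).eq
  have horbA : ∀ l : A →* ℂˣ, inertia A (fun x => (l x : ℂ)) = A ∨ inertia A (fun x => (l x : ℂ)) = ⊤ := by
    intro l
    let rN : N →* A := (r.comp N.subtype).codRestrict A fun n => (hrN n).2 n.2
    have hrNs : ∀ x : A, rN ⟨J.subtype x, x.2⟩ = x := fun x => Subtype.ext (hrs x)
    have hiff : ∀ g : G, g ∈ inertia N (fun n => ((l.comp rN) n : ℂ)) ↔ r g ∈ inertia A (fun x => (l x : ℂ)) := by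
      intro g
      rw [mem_inertia, mem_inertia, funext_iff, funext_iff]
      constructor
      · intro h x
        have h1 := h ⟨J.subtype x, x.2⟩
        change ((l (rN _) : ℂˣ) : ℂ) = ((l (rN _) : ℂˣ) : ℂ) at h1
        rw [hrNs] at h1
        refine Eq.trans ?_ h1
        refine congrArg (fun z => ((l z : ℂˣ) : ℂ)) (Subtype.ext ?_)
        show r g * (x : J) * (r g)⁻¹ = r (g * J.subtype x * g⁻¹)
        rw [map_mul, map_mul, map_inv, hrs]
      · intro h n
        refine Eq.trans ?_ (h (rN n))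
        refine congrArg (fun z => ((l z : ℂˣ) : ℂ)) (Subtype.ext ?_)
        show r (g * (n : G) * g⁻¹) = r g * r (n : G) * (r g)⁻¹
        rw [map_mul, map_mul, map_inv]
    refine (d.horbN (l.comp rN)).imp (fun h => ?_) fun h => ?_
    · refine le_antisymm (fun x hx => ?_)
        (le_inertia (isClassFunction_isChar (isCharacter_of_irr (isIrrCharacter_linear l))))
      exact h.le ((hiff (J.subtype x)).2 (by rw [hrs]; exact hx))
    · rw [eq_top_iff]
      intro x _
      have h1 := (hiff (J.subtype x)).1 (h.ge (Subgroup.mem_top _))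
      rwa [hrs] at h1
  obtain ⟨D, Z, hDn, -, hDA, hZA, hDZ, hDZs, hDc, hZc, hcent, hcopD⟩ := abelian_frobenius A hAab d.one_lt hAidx
    hcycA horbA (fun p K hK hp hpK => by
      haveI := hK
      let g : G ⧸ K.comap r →* J ⧸ K := QuotientGroup.map (K.comap r) K r le_rfl
      have hg : Function.Injective g := by
        rw [injective_iff_map_eq_one]
        intro z
        induction z using QuotientGroup.induction_on with
        | _ x => exact fun hz => (QuotientGroup.eq_one_iff x).2 ((QuotientGroup.eq_one_iff (r x)).1 hz)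
      have h1 := d.pab p (K.comap r) inferInstance hp (hpK.of_injective g hg)
      rw [← derivedSeries_one, ← map_derivedSeries_eq (f := r) (fun x => ⟨J.subtype x, hrs x⟩), derivedSeries_one,
        Subgroup.map_le_iff_le_comap]
      exact h1)
  have hnil : Group.IsNilpotent r.ker := by
    rw [hrker]
    let φ : U →* U := (MulAut.conjNormal a : MulAut U).toMonoidHom
    have hiter : ∀ (k : ℕ) (t : U), ((φ^[k] t : U) : G) = a ^ k * t * (a ^ k)⁻¹ := by
      intro k
      induction k with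
      | zero => simp
      | succ k ih =>
        intro t
        rw [Function.iterate_succ_apply', pow_succ']
        show (((MulAut.conjNormal a : MulAut U) (φ^[k] t) : U) : G) = _
        rw [MulAut.conjNormal_apply, ih]; group
    refine Cfsg.Lib.Thompson.isNilpotent_of_fpf φ (fun t ht => Subtype.ext (hfpf t t.2 ?_)) d.hq
      (funext fun t => Subtype.ext (by rw [hiter, haq]; simp))
    have e := congrArg Subtype.val ht
    change (((MulAut.conjNormal a : MulAut U) t : U) : G) = t at e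
    rw [MulAut.conjNormal_apply, mul_inv_eq_iff_eq_mul] at e
    exact e
  have s : SData r J.subtype f A D Z (⟨a, hQJ haQ⟩ : J) :=
    { nd := d.nd, hrs := hrs, one_lt := d.one_lt, normA := hAn, index := hAidx, cyc := hcycA, abA := hAab
      horb := horbA, exf := ⟨φf, hφf, hφfd⟩, normD := hDn, DA := hDA, ZA := hZA, inf := hDZ, sup := hDZs
      comD := hDc, Zc := hZc, cent := hcent, copD := hcopD
      Dne := fun hbot => by
        obtain ⟨g, hg⟩ : ∃ g, g ∉ N := by
          by_contra h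
          push Not at h
          have h1 := d.index
          rw [(Subgroup.eq_top_iff' N).2 h, Subgroup.index_top] at h1
          exact d.one_lt.ne h1
        refine hGood g hg (hUM (hrker.le ?_))
        rw [MonoidHom.mem_ker, map_commutatorElement, ← Subgroup.mem_bot, ← hbot, hDc]
        exact Subgroup.commutator_mem_commutator (Subgroup.mem_top _) (Subgroup.mem_top _)
      aA := hQ₀N haQ
      afix := fun u hu => Subtype.ext (hfpf u (hrker.le u.2) hu)
      nil := hnil }
  obtain ⟨e, he⟩ := s.degs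
  exact ⟨Or.inl ⟨f, e, he⟩, derived_three _ G rfl f e he⟩

end FrobData

end Cfsg.Lib.NDAD
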