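import Cfsg.Agent.Chars.NDAD.Extend
import Cfsg.Agent.Chars.NDAD.LinChar
import Cfsg.Agent.Chars.Degree
import Cfsg.Prelude.Def_DegreeGraph

/-!
# Degrees over a normal subgroup
-/

set_option autoImplicit false
set_option linter.unusedSectionVars false
set_option linter.style.haveILetI false

namespace Cfsg.Lib.NDAD

open Cfsg.Lib.Chars
open scoped commutatorElement

universe u

variable {G : Type u} [Group G] [Finite G]

theorem deg_mem_charDegrees {χ : G → ℂ} (hχ : Cfsg.IsIrrCharacter G χ) : deg χ ∈ Cfsg.charDegrees G :=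
  ⟨⟨χ, hχ⟩, charDegree_eq_deg hχ⟩

theorem ndad_of_charDegrees
    (hnd : ∀ a ∈ Cfsg.charDegrees G, ∀ b ∈ Cfsg.charDegrees G, 1 < a → a < b → ¬ a ∣ b) : NDAD G := by
  intro χ ψ hχ hψ h1 hd
  by_contra hne
  exact hnd _ (deg_mem_charDegrees hχ) _ (deg_mem_charDegrees hψ) h1
    (lt_of_le_of_ne (Nat.le_of_dvd (deg_irr_pos (⟨ψ, hψ⟩ : Cfsg.IrrCharacter G)) hd) (Ne.symm hne)) hd

theorem deg_pos {χ : G → ℂ} (hχ : Cfsg.IsIrrCharacter G χ) : 0 < deg χ :=
  deg_irr_pos (⟨χ, hχ⟩ : Cfsg.IrrCharacter G)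

theorem deg_comp {H : Type u} [Group H] (f : G →* H) (χ : H → ℂ) :
    deg (fun g => χ (f g)) = deg χ := by
  simp only [deg, map_one]

theorem NDAD.of_surjective {H : Type u} [Group H] [Finite H] (hnd : NDAD G) (f : G →* H)
    (hf : Function.Surjective f) : NDAD H := by
  intro χ ψ hχ hψ h1 hd
  have h := hnd _ _ (IsIrrCharacter.comp_surjective hχ f hf) (IsIrrCharacter.comp_surjective hψ f hf)
  rw [deg_comp, deg_comp] at h
  exact h h1 hd

theorem NDAD.of_quotient (hnd : NDAD G) (K : Subgroup G) [K.Normal] : NDAD (G ⧸ K) :=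
  hnd.of_surjective (QuotientGroup.mk' K) (QuotientGroup.mk'_surjective K)

/-- A character that has a nonlinear divisor degree has the same degree. -/
theorem NDAD.eq_of_dvd (hnd : NDAD G) {χ ψ : G → ℂ} (hχ : Cfsg.IsIrrCharacter G χ)
    (hψ : Cfsg.IsIrrCharacter G ψ) (h1 : deg χ ≠ 1) (hd : deg χ ∣ deg ψ) : deg ψ = deg χ :=
  hnd χ ψ hχ hψ (by have := deg_pos hχ; omega) hd

/-- The degree of a character over `θ`. -/
theorem exists_deg_eq (N : Subgroup G) [N.Normal] [Fintype N] {χ : G → ℂ}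
    (hχ : Cfsg.IsIrrCharacter G χ) {θ : N → ℂ} (hθ : Cfsg.IsIrrCharacter N θ)
    (hc : Cfsg.classInner (fun n : N => χ n) θ ≠ 0) :
    ∃ e : ℕ, 0 < e ∧ deg χ = (inertia N θ).index * deg θ * e := by
  classical
  haveI := Fintype.ofFinite G
  obtain ⟨e, he⟩ := IsCharacter.exists_mult (IsCharacter.restrict (isCharacter_of_irr hχ) N) hθ
  have he0 : e ≠ 0 := fun h => hc (by rw [he, h, Nat.cast_zero])
  have horb : (conjOrbit N θ).card = (inertia N θ).index := by
    have h := card_conjOrbit N θ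
    rw [← (inertia N θ).index_mul_card] at h
    exact_mod_cast Nat.eq_of_mul_eq_mul_right Nat.card_pos h
  have hcl := clifford N hχ hθ hc
  rw [he] at hcl
  refine ⟨e, Nat.pos_of_ne_zero he0, Nat.cast_injective (R := ℂ) ?_⟩
  have h2 := congrFun hcl 1
  simp only [OneMemClass.coe_one, Pi.smul_apply, Finset.sum_apply, smul_eq_mul] at h2
  rw [← IsCharacter.apply_one_eq_deg (isCharacter_of_irr hχ), h2,
    Finset.sum_congr rfl (g := fun _ => θ 1) (fun ψ hψ => ?_), Finset.sum_const, nsmul_eq_mul, horb,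
    IsCharacter.apply_one_eq_deg (isCharacter_of_irr hθ)]
  · push_cast; ring
  · obtain ⟨g, rfl⟩ := (mem_conjOrbit N).1 hψ
    show θ _ = θ 1
    exact congrArg θ (Subtype.ext (by simp))

/-- Some character lies over `θ`, with degree a multiple of the orbit times the degree. -/
theorem exists_over_deg (N : Subgroup G) [N.Normal] {θ : N → ℂ} (hθ : Cfsg.IsIrrCharacter N θ) :
    ∃ χ : G → ℂ, Cfsg.IsIrrCharacter G χ ∧ (inertia N θ).index * deg θ ∣ deg χ := by
  classical
  haveI := Fintype.ofFinite G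
  haveI := Fintype.ofFinite N
  obtain ⟨χ, hχ, hc⟩ := exists_over N hθ
  obtain ⟨e, -, he⟩ := exists_deg_eq N hχ hθ hc
  exact ⟨χ, hχ, e, he⟩

/-- The degree over `θ` when the inertia quotient is cyclic. -/
theorem deg_eq_of_cyclic (N : Subgroup G) [N.Normal] [Fintype N] (hcyc : IsCyclic (G ⧸ N)) {χ : G → ℂ}
    (hχ : Cfsg.IsIrrCharacter G χ) {θ : N → ℂ} (hθ : Cfsg.IsIrrCharacter N θ)
    (hc : Cfsg.classInner (fun n : N => χ n) θ ≠ 0) :
    deg χ = (inertia N θ).index * deg θ := by
  classical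
  haveI := Fintype.ofFinite G
  set T := inertia N θ with hT
  haveI := Fintype.ofFinite T
  have hNT : N ≤ T := le_inertia (isClassFunction_isChar (isCharacter_of_irr hθ))
  let e := Subgroup.subgroupOfEquivOfLe hNT
  haveI : Fintype (N.subgroupOf T) := Fintype.ofFinite _
  let f : T ⧸ N.subgroupOf T →* G ⧸ N := QuotientGroup.map _ _ T.subtype fun x hx => hx
  have hf : Function.Injective f := by
    rw [injective_iff_map_eq_one]
    intro z
    induction z using QuotientGroup.induction_on with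
    | _ x =>
      intro hz
      exact (QuotientGroup.eq_one_iff x).2 ((QuotientGroup.eq_one_iff (x : G)).1 hz)
  haveI := hcyc
  haveI hcT : IsCyclic (T ⧸ N.subgroupOf T) := isCyclic_of_injective f hf
  obtain ⟨ψ, hψ, hres⟩ := exists_extension_sylow (N.subgroupOf T)
    (θ := fun x => θ (e x)) (IsIrrCharacter.comp_mulEquiv hθ e)
    (fun g => funext fun x => congrFun (mem_inertia.1 g.2) (e x))
    (fun p _ S => Or.inr inferInstance)
  obtain ⟨φ, hφ, h1, h2⟩ := exists_constituent_over T hNT (isCharacter_of_irr hχ) hc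
  obtain ⟨hind, -, -⟩ := clifford_correspondence hθ T rfl hNT hχ hφ h1 h2
  obtain ⟨k, -, hk⟩ := restrict_of_le_inertia N hθ T hNT le_rfl hφ h2
  have hψN : Cfsg.IsIrrCharacter (N.subgroupOf T) (fun x : N.subgroupOf T => ψ x) := by
    rw [show (fun x : N.subgroupOf T => ψ x) = fun x => θ (e x) from funext fun x => hres x]
    exact IsIrrCharacter.comp_mulEquiv hθ e
  obtain ⟨b, hb, hφb, hbN⟩ := exists_factor_extension (N.subgroupOf T) hψ hψN hφ (e := k) (fun x => by
    rw [hres x]; exact congrFun hk (e x))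
  obtain ⟨b', hb', hbb⟩ := exists_factor (QuotientGroup.mk' (N.subgroupOf T))
    (QuotientGroup.mk'_surjective _) (isCharacter_of_irr hb)
    (fun x hx => hbN ⟨x, by rwa [QuotientGroup.ker_mk'] at hx⟩)
  have hirr : Cfsg.IsIrrCharacter (T ⧸ N.subgroupOf T) b' :=
    IsIrrCharacter.descend hb' (QuotientGroup.mk' _) (QuotientGroup.mk'_surjective _) (hbb ▸ hb)
  have hb1 : b 1 = 1 := by
    have h1 := irr_deg_one_of_comm (G := T ⧸ N.subgroupOf T) (fun x y => by
      letI := IsCyclic.commGroup (α := T ⧸ N.subgroupOf T)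
      exact mul_comm x y) hirr
    rw [hbb]
    simp only [map_one]
    exact h1
  apply Nat.cast_injective (R := ℂ)
  rw [← IsCharacter.apply_one_eq_deg (isCharacter_of_irr hχ), ← hind, indFun_one, hφb, Pi.mul_apply,
    hb1, one_mul, Nat.cast_mul, ← IsCharacter.apply_one_eq_deg (isCharacter_of_irr hθ)]
  congr 1
  exact hres 1

/-- The degree is at most the index of an abelian subgroup. -/
theorem deg_le_index_of_abelian {χ : G → ℂ} (hχ : Cfsg.IsIrrCharacter G χ) (A : Subgroup G)
    (hab : ∀ a ∈ A, ∀ b ∈ A, a * b = b * a) : deg χ ≤ A.index := by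
  classical
  haveI := Fintype.ofFinite G
  haveI := Fintype.ofFinite A
  obtain ⟨η, hη, hc⟩ : ∃ η : A → ℂ, Cfsg.IsIrrCharacter A η ∧
      Cfsg.classInner (fun a : A => χ a) η ≠ 0 := by
    by_contra hno
    push Not at hno
    have := eq_zero_of_classInner_eq_zero
      (isClassFunction_isChar (IsCharacter.restrict (isCharacter_of_irr hχ) A)) fun θ => hno θ θ.2
    exact IsIrrCharacter.apply_one_ne_zero hχ (by simpa using congrFun this 1)
  have hη1 := irr_deg_one_of_comm (G := A) (fun x y => Subtype.ext (hab x x.2 y y.2)) hη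
  have hc' : Cfsg.classInner (Cfsg.indFun A η) χ ≠ 0 := by
    rw [frobenius_reciprocity A η (isClassFunction_isChar (isCharacter_of_irr hχ)),
      ← classInner_conj_symm]
    exact fun h => hc ((map_eq_zero _).1 h)
  refine (constituent_le (IsCharacter.indFun (isCharacter_of_irr hη)) hχ hc').1.trans (le_of_eq ?_)
  apply Nat.cast_injective (R := ℂ)
  rw [← IsCharacter.apply_one_eq_deg (IsCharacter.indFun (isCharacter_of_irr hη)), indFun_one, hη1,
    mul_one]

end Cfsg.Lib.NDAD
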