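import Cfsg.Agent.Chars.NDAD.CharBound
import Mathlib.Algebra.Group.End

/-!
# Translations of restricted characters by invariant linear characters

If every translate of `φ₀|R` by a group `A` of invariant linear characters lies below an irreducible
character fixed by some automorphism acting fixed point freely on `A`, then `φ₀` vanishes off the
intersection of the kernels of `A` in `R`.
-/

set_option autoImplicit false
set_option linter.unusedSectionVars false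
set_option linter.style.haveILetI false

namespace Cfsg.Lib.NDAD

open Cfsg.Lib.Chars

universe u v

variable {P : Type u} [Group P] [Finite P]

theorem irr_one_ne_zero {χ : P → ℂ} (hχ : Cfsg.IsIrrCharacter P χ) : χ 1 ≠ 0 :=
  IsIrrCharacter.apply_one_ne_zero hχ

/-- An irreducible character over an invariant linear character is scalar there. -/
theorem scalar_of_linear {χ : P → ℂ} (hχ : Cfsg.IsIrrCharacter P χ) (L : Subgroup P) [L.Normal]
    [Fintype L] {l : L →* ℂˣ} (hinv : ∀ (g : P) (x : L),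
      l ⟨g * x * g⁻¹, (inferInstance : L.Normal).conj_mem x x.2 g⟩ = l x)
    (hc : Cfsg.classInner (fun x : L => χ x) (fun x : L => (l x : ℂ)) ≠ 0) (x : L) :
    χ x = χ 1 * (l x : ℂ) := by
  classical
  haveI := Fintype.ofFinite P
  obtain ⟨e, -, he⟩ := restrict_eq_mult_of_invariant L hχ (isIrrCharacter_linear l)
    (fun g => funext fun y => congrArg Units.val (hinv g y)) hc
  have h1 := congrFun he 1
  simp only [OneMemClass.coe_one, Pi.smul_apply, map_one, Units.val_one, smul_eq_mul, mul_one] at h1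
  have h2 := congrFun he x
  simp only [Pi.smul_apply, smul_eq_mul] at h2
  rw [h2, h1]

/-- Some irreducible character lies over an invariant linear character. -/
theorem exists_scalar_over (L : Subgroup P) [L.Normal] {l : L →* ℂˣ} (hinv : ∀ (g : P) (x : L),
      l ⟨g * x * g⁻¹, (inferInstance : L.Normal).conj_mem x x.2 g⟩ = l x) :
    ∃ χ : P → ℂ, Cfsg.IsIrrCharacter P χ ∧ ∀ x : L, χ x = χ 1 * (l x : ℂ) := by
  classical
  haveI := Fintype.ofFinite P
  haveI := Fintype.ofFinite L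
  obtain ⟨χ, hχ, hc⟩ := exists_over L (isIrrCharacter_linear l)
  exact ⟨χ, hχ, scalar_of_linear hχ L hinv hc⟩

/-- Translating the restriction of an irreducible character by an invariant linear character. -/
theorem exists_over_twist {φ₀ : P → ℂ} (hφ₀ : Cfsg.IsIrrCharacter P φ₀) (R : Subgroup P) [R.Normal]
    (ν : R →* ℂˣ) (hinv : ∀ (g : P) (x : R),
      ν ⟨g * x * g⁻¹, (inferInstance : R.Normal).conj_mem x x.2 g⟩ = ν x) :
    ∃ φ : P → ℂ, Cfsg.IsIrrCharacter P φ ∧ ∀ x : R, φ x * φ₀ 1 = (ν x : ℂ) * φ₀ x * φ 1 := by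
  classical
  haveI := Fintype.ofFinite P
  haveI := Fintype.ofFinite R
  obtain ⟨θ, hθ, hc⟩ := exists_constituent R (isCharacter_of_irr hφ₀) (irr_one_ne_zero hφ₀)
  set θ' : R → ℂ := (fun x => (ν x : ℂ)) * θ with hθ'def
  have hθ' : Cfsg.IsIrrCharacter R θ' := IsIrrCharacter.mul_linear hθ ν
  obtain ⟨φ, hφ, hc'⟩ := exists_over R hθ'
  refine ⟨φ, hφ, fun x => ?_⟩
  have hconj : ∀ g : P, conjN R g θ' = (fun y => (ν y : ℂ)) * conjN R g θ := fun g => by
    funext y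
    show ((ν _ : ℂˣ) : ℂ) * θ _ = _
    rw [hinv g y]
    rfl
  have horb : conjOrbit R θ' = (conjOrbit R θ).image (fun ψ => (fun y : R => (ν y : ℂ)) * ψ) := by
    ext ψ
    simp only [mem_conjOrbit, Finset.mem_image]
    constructor
    · rintro ⟨g, rfl⟩
      exact ⟨_, ⟨g, rfl⟩, (hconj g).symm⟩
    · rintro ⟨_, ⟨g, rfl⟩, rfl⟩
      exact ⟨g, hconj g⟩
  have hinj : Function.Injective (fun ψ : R → ℂ => (fun y : R => (ν y : ℂ)) * ψ) := fun a b hab =>
    funext fun y => mul_left_cancel₀ (Units.ne_zero (ν y)) (congrFun hab y)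
  set S₀ : R → ℂ := ∑ ψ ∈ conjOrbit R θ, ψ with hS₀
  have hS' : ∑ ψ ∈ conjOrbit R θ', ψ = (fun y : R => (ν y : ℂ)) * S₀ := by
    rw [horb, Finset.sum_image (fun a _ b _ hab => hinj hab), hS₀, Finset.mul_sum]
  have h0 := clifford R hφ₀ hθ hc
  have h1 := clifford R hφ hθ' hc'
  rw [← hS₀] at h0
  rw [hS'] at h1
  set c := Cfsg.classInner (fun n : R => φ₀ n) θ
  set c' := Cfsg.classInner (fun n : R => φ n) θ'
  have e0 : ∀ y : R, φ₀ y = c * S₀ y := fun y => congrFun h0 y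
  have e1 : ∀ y : R, φ y = c' * ((ν y : ℂ) * S₀ y) := fun y => congrFun h1 y
  have e01 := e0 1
  have e11 := e1 1
  rw [OneMemClass.coe_one] at e01 e11
  rw [map_one, Units.val_one, one_mul] at e11
  rw [e0 x, e1 x, e01, e11]
  ring

variable {F : Type v} [CommGroup F]

/-- `s` fixes `φ`. -/
def Fixes (act : F →* MulAut P) (s : F) (φ : P → ℂ) : Prop := ∀ x, φ (act s x) = φ x

/-- The twisting lemma. -/
theorem eq_one_of_twist (act : F →* MulAut P) {φ₀ : P → ℂ} (hφ₀ : Cfsg.IsIrrCharacter P φ₀)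
    (R : Subgroup P) [R.Normal] (A : Subgroup (R →* ℂˣ))
    (hAinv : ∀ α ∈ A, ∀ (g : P) (x : R),
      α ⟨g * x * g⁻¹, (inferInstance : R.Normal).conj_mem x x.2 g⟩ = α x)
    (S : Set F) (hR : ∀ s ∈ S, ∀ x ∈ R, act s x ∈ R)
    (hA : ∀ s (hs : s ∈ S), ∀ α ∈ A, ∃ β ∈ A, ∀ x : R, β x = α ⟨act s x, hR s hs x x.2⟩)
    (hyp : ∀ α ∈ A, ∀ φ : P → ℂ, Cfsg.IsIrrCharacter P φ →
      (∀ x : R, φ x * φ₀ 1 = (α x : ℂ) * φ₀ x * φ 1) →
      ∃ s, ∃ hs : s ∈ S, Fixes act s φ ∧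
        ∀ β ∈ A, (∀ x : R, β ⟨act s x, hR s hs x x.2⟩ = β x) → β = 1)
    {α : R →* ℂˣ} (hα : α ∈ A) {x : R} (hx : φ₀ x ≠ 0) : α x = 1 := by
  classical
  obtain ⟨s₀, hs₀, hfix₀, hfpf₀⟩ := hyp 1 A.one_mem φ₀ hφ₀ fun y => by simp
  obtain ⟨φ, hφ, hφR⟩ := exists_over_twist hφ₀ R α (hAinv α hα)
  obtain ⟨s, hs, hfix, hfpf⟩ := hyp α hα φ hφ hφR
  let K : Subgroup (R →* ℂˣ) :=
    { carrier := {β | β ∈ A ∧ ∀ y : R, φ₀ y ≠ 0 → β y = 1}
      one_mem' := ⟨A.one_mem, fun _ _ => rfl⟩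
      mul_mem' := fun {a b} ha hb => ⟨A.mul_mem ha.1 hb.1, fun y hy => by
        rw [MonoidHom.mul_apply, ha.2 y hy, hb.2 y hy, one_mul]⟩
      inv_mem' := fun {a} ha => ⟨A.inv_mem ha.1, fun y hy => by rw [MonoidHom.inv_apply, ha.2 y hy, inv_one]⟩ }
  let pull : ∀ t ∈ S, (R →* ℂˣ) → (R →* ℂˣ) := fun t ht β => β.comp
    { toFun := fun y : R => (⟨act t y, hR t ht y y.2⟩ : R)
      map_one' := Subtype.ext (map_one _)
      map_mul' := fun a b => Subtype.ext (map_mul _ _ _) }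
  have hpullA : ∀ t (ht : t ∈ S) β, β ∈ A → pull t ht β ∈ A := fun t ht β hβ => by
    obtain ⟨γ, hγ, h⟩ := hA t ht β hβ
    rwa [show pull t ht β = γ from MonoidHom.ext fun y => (h y).symm]
  -- fixed point free elements preserving `K` reflect membership in `K`
  have hrefl : ∀ t (ht : t ∈ S), (∀ β ∈ A, (∀ y : R, β ⟨act t y, hR t ht y y.2⟩ = β y) → β = 1) →
      (∀ β ∈ K, pull t ht β ∈ K) → ∀ β ∈ A, β / pull t ht β ∈ K → β ∈ K := by
    intro t ht hfp hK β hβ hβK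
    let f : A → A := fun γ => ⟨γ.1 / pull t ht γ.1, A.div_mem γ.2 (hpullA t ht _ γ.2)⟩
    have hf : Function.Injective f := fun a b hab => by
      have h : a.1 / pull t ht a.1 = b.1 / pull t ht b.1 := congrArg Subtype.val hab
      refine Subtype.ext (div_eq_one.1 (hfp _ (A.div_mem a.2 b.2) fun y => ?_))
      have hy := DFunLike.congr_fun h y
      simp only [MonoidHom.div_apply] at hy ⊢
      change a.1 y / a.1 ⟨act t y, hR t ht y y.2⟩ = b.1 y / b.1 ⟨act t y, hR t ht y y.2⟩ at hy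
      rw [div_eq_div_iff_mul_eq_mul] at hy ⊢
      rw [hy, mul_comm]
    let g : K → K := fun γ => ⟨γ.1 / pull t ht γ.1, K.div_mem γ.2 (hK _ γ.2)⟩
    have hg : Function.Injective g := fun a b hab => Subtype.ext
      (congrArg Subtype.val (@hf ⟨a.1, a.2.1⟩ ⟨b.1, b.2.1⟩ (Subtype.ext (congrArg Subtype.val hab :))) :)
    obtain ⟨γ, hγ⟩ := (Finite.injective_iff_surjective.1 hg) ⟨_, hβK⟩
    have h2 : (⟨β, hβ⟩ : A) = ⟨γ.1, γ.2.1⟩ := hf (Subtype.ext (congrArg Subtype.val hγ :).symm)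
    have h3 : β = γ.1 := congrArg Subtype.val h2
    exact h3 ▸ γ.2
  have hK₀ : ∀ β ∈ K, pull s₀ hs₀ β ∈ K := fun β hβ => ⟨hpullA _ hs₀ β hβ.1, fun y hy =>
    hβ.2 ⟨act s₀ y, hR s₀ hs₀ y y.2⟩ (show φ₀ (act s₀ y) ≠ 0 by rw [hfix₀]; exact hy)⟩
  set β := α / pull s hs α with hβdef
  have hβA : β ∈ A := A.div_mem hα (hpullA _ hs α hα)
  have hφ1 : φ 1 ≠ 0 := irr_one_ne_zero hφ
  have hrel : ∀ y : R, φ₀ (act s y) = (β y : ℂ) * φ₀ y := by
    intro y
    have h1 := hφR ⟨act s y, hR s hs y y.2⟩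
    have h2 := hφR y
    rw [show φ ((⟨act s y, hR s hs y y.2⟩ : R) : P) = φ y from hfix y, h2] at h1
    have h3 : (α y : ℂ) * φ₀ y = (α ⟨act s y, hR s hs y y.2⟩ : ℂ) * φ₀ (act s y) :=
      mul_right_cancel₀ hφ1 h1
    rw [hβdef, MonoidHom.div_apply, Units.val_div_eq_div_val]
    show _ = (α y : ℂ) / (α ⟨act s y, hR s hs y y.2⟩ : ℂ) * φ₀ y
    rw [div_mul_eq_mul_div, h3, mul_div_cancel_left₀ _ (Units.ne_zero _)]
  have hβK : β ∈ K := by
    refine hrefl s₀ hs₀ hfpf₀ hK₀ β hβA ⟨A.div_mem hβA (hpullA _ hs₀ β hβA), fun y hy => ?_⟩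
    have h1 := hrel ⟨act s₀ y, hR s₀ hs₀ y y.2⟩
    have h2 : act s (act s₀ (y : P)) = act s₀ (act s y) := by
      rw [← MulAut.mul_apply, ← MulAut.mul_apply, ← map_mul, ← map_mul, mul_comm]
    change φ₀ (act s (act s₀ (y : P))) = _ * φ₀ (act s₀ (y : P)) at h1
    rw [h2, hfix₀ (act s (y : P)), hfix₀ (y : P), hrel y] at h1
    rw [MonoidHom.div_apply, div_eq_one]
    exact Units.ext (mul_right_cancel₀ hy h1)
  have hfixs : ∀ y : R, φ₀ (act s y) = φ₀ y := fun y => by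
    by_cases hy : φ₀ y = 0
    · rw [hrel y, hy, mul_zero]
    · rw [hrel y, hβK.2 y hy, Units.val_one, one_mul]
  have hKs : ∀ γ ∈ K, pull s hs γ ∈ K := fun γ hγ => ⟨hpullA _ hs γ hγ.1, fun y hy =>
    hγ.2 ⟨act s y, hR s hs y y.2⟩ (show φ₀ (act s y) ≠ 0 by rw [hfixs]; exact hy)⟩
  exact (hrefl s hs hfpf hKs α hα hβK).2 x hx

end Cfsg.Lib.NDAD
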