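import Cfsg.Agent.Chars.NDAD.Basic
import Cfsg.Agent.Chars.NDAD.Twist
import Cfsg.Agent.Chars.Equivalence

/-!
# Characters of a central product
-/

set_option autoImplicit false
set_option linter.unusedSectionVars false
set_option linter.style.haveILetI false

namespace Cfsg.Lib.NDAD

open Cfsg.Lib.Chars

universe u

variable {A B Q : Type u} [Group A] [Group B] [Group Q] [Finite A] [Finite B] [Finite Q]

/-- The map from the product of two commuting images. -/
def pairHom (i : A →* Q) (j : B →* Q) (hij : ∀ a b, i a * j b = j b * i a) : A × B →* Q where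
  toFun x := i x.1 * j x.2
  map_one' := by simp
  map_mul' := fun x y => by
    simp only [Prod.fst_mul, Prod.snd_mul, map_mul]
    calc i x.1 * i y.1 * (j x.2 * j y.2) = i x.1 * (i y.1 * j x.2) * j y.2 := by group
      _ = i x.1 * (j x.2 * i y.1) * j y.2 := by rw [hij]
      _ = _ := by group

theorem pairHom_apply (i : A →* Q) (j : B →* Q) (hij : ∀ a b, i a * j b = j b * i a) (x : A × B) :
    pairHom i j hij x = i x.1 * j x.2 := rfl

/-- The product character of two characters agreeing on the common part. -/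
theorem exists_prod_char (i : A →* Q) (j : B →* Q) (hij : ∀ a b, i a * j b = j b * i a)
    (hsurj : ∀ x : Q, ∃ a b, i a * j b = x) {φ : A → ℂ} {γ : B → ℂ} (hφ : Cfsg.IsIrrCharacter A φ)
    (hγ : Cfsg.IsIrrCharacter B γ) (hker : ∀ a b, i a * j b = 1 → φ a * γ b = φ 1 * γ 1) :
    ∃ χ : Q → ℂ, Cfsg.IsIrrCharacter Q χ ∧ (∀ a b, χ (i a * j b) = φ a * γ b) ∧ deg χ = deg φ * deg γ := by
  have hirr := isIrrCharacter_prod hφ hγ
  have hs : Function.Surjective (pairHom i j hij) := fun x => by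
    obtain ⟨a, b, h⟩ := hsurj x
    exact ⟨(a, b), h⟩
  obtain ⟨χ, hχ, hfac⟩ := exists_factor (pairHom i j hij) hs (isCharacter_of_irr hirr)
    (fun k hk => hker k.1 k.2 hk)
  refine ⟨χ, IsIrrCharacter.descend hχ _ hs (hfac ▸ hirr), fun a b => (congrFun hfac (a, b)).symm, ?_⟩
  apply Nat.cast_injective (R := ℂ)
  rw [Nat.cast_mul, ← IsCharacter.apply_one_eq_deg hχ, ← IsCharacter.apply_one_eq_deg (isCharacter_of_irr hφ),
    ← IsCharacter.apply_one_eq_deg (isCharacter_of_irr hγ), ← map_one (pairHom i j hij)]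
  exact (congrFun hfac 1).symm

/-- Every character of a central product is a product. -/
theorem exists_factor_prod (i : A →* Q) (j : B →* Q) (hij : ∀ a b, i a * j b = j b * i a)
    (hsurj : ∀ x : Q, ∃ a b, i a * j b = x) {χ : Q → ℂ} (hχ : Cfsg.IsIrrCharacter Q χ) :
    ∃ (φ : A → ℂ) (γ : B → ℂ), Cfsg.IsIrrCharacter A φ ∧ Cfsg.IsIrrCharacter B γ ∧
      (∀ a b, χ (i a * j b) = φ a * γ b) ∧ deg χ = deg φ * deg γ := by
  have hs : Function.Surjective (pairHom i j hij) := fun x => by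
    obtain ⟨a, b, h⟩ := hsurj x
    exact ⟨(a, b), h⟩
  obtain ⟨φ, γ, hφ, hγ, heq⟩ := exists_prod_of_irr (IsIrrCharacter.comp_surjective hχ _ hs)
  refine ⟨φ, γ, hφ, hγ, fun a b => congrFun heq (a, b), Nat.cast_injective (R := ℂ) ?_⟩
  rw [Nat.cast_mul, ← IsCharacter.apply_one_eq_deg (isCharacter_of_irr hχ),
    ← IsCharacter.apply_one_eq_deg (isCharacter_of_irr hφ), ← IsCharacter.apply_one_eq_deg (isCharacter_of_irr hγ),
    ← map_one (pairHom i j hij)]
  exact congrFun heq 1

/-- An irreducible character is scalar on a central subgroup. -/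
theorem exists_central_hom {χ : Q → ℂ} (hχ : Cfsg.IsIrrCharacter Q χ) (Z : Subgroup Q)
    (hZ : ∀ z ∈ Z, ∀ x : Q, x * z = z * x) :
    ∃ l : Z →* ℂˣ, ∀ z : Z, χ z = χ 1 * (l z : ℂ) := by
  classical
  haveI := Fintype.ofFinite Q
  haveI := Fintype.ofFinite Z
  haveI hn : Z.Normal := ⟨fun z hz g => by rwa [hZ z hz g, mul_inv_cancel_right]⟩
  obtain ⟨θ, hθ, hc⟩ := exists_constituent Z (isCharacter_of_irr hχ) (IsIrrCharacter.apply_one_ne_zero hχ)
  obtain ⟨l, rfl⟩ := exists_hom_of_deg_one (isCharacter_of_irr hθ)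
    (irr_deg_one_of_comm (fun a b : Z => Subtype.ext (hZ b b.2 a)) hθ)
  refine ⟨l, scalar_of_linear hχ Z (fun g x => congrArg l (Subtype.ext ?_)) hc⟩
  show g * (x : Q) * g⁻¹ = x
  rw [hZ x x.2 g, mul_inv_cancel_right]

end Cfsg.Lib.NDAD
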