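import Cfsg.Agent.Chars.ScalarVanish
import Cfsg.Agent.Chars.DegreeTools
import Cfsg.Agent.Chars.IrrTools
import Cfsg.Agent.Chars.NDAD.LinChar

/-!
# Degree bounds from vanishing and from commuting subgroups
-/

set_option autoImplicit false
set_option linter.unusedSectionVars false
set_option linter.style.haveILetI false

namespace Cfsg.Lib.NDAD

open Cfsg.Lib.Chars
open scoped ComplexConjugate commutatorElement

universe u

variable {P : Type u} [Group P] [Finite P]

/-- A constituent is trivial where the character is. -/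
theorem constituent_ker {χ η : P → ℂ} [Fintype P] (hχ : Cfsg.IsCharacter P χ)
    (hη : Cfsg.IsIrrCharacter P η) (hc : Cfsg.classInner χ η ≠ 0) {g : P} (hg : χ g = χ 1) :
    η g = η 1 := by
  classical
  obtain ⟨m, hm⟩ := IsCharacter.exists_decomp hχ
  have hmη : 0 < m ⟨η, hη⟩ := by
    refine Nat.pos_of_ne_zero fun h => hc ?_
    rw [hm]
    simp only [← Nat.cast_smul_eq_nsmul ℂ]
    rw [classInner_irrSum (fun ψ => (m ψ : ℂ)) ⟨η, hη⟩, h, Nat.cast_zero]
  refine IsCharacter.eq_apply_one_of_re_eq (isCharacter_of_irr hη) ?_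
  have h1 := congrArg Complex.re hg
  rw [hm] at h1
  simp only [Finset.sum_apply, Pi.mul_apply, Pi.natCast_apply, nsmul_eq_mul, Complex.re_sum, Complex.mul_re,
    Complex.natCast_re, Complex.natCast_im, zero_mul, sub_zero] at h1
  have h2 := (Finset.sum_eq_sum_iff_of_le fun (ψ : Cfsg.IrrCharacter P) _ =>
    mul_le_mul_of_nonneg_left (IsCharacter.re_le (isCharacter_of_irr ψ.2) g) (Nat.cast_nonneg (m ψ))).1 h1
    ⟨η, hη⟩ (Finset.mem_univ _)
  exact mul_left_cancel₀ (by exact_mod_cast hmη.ne') h2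

/-- A character which vanishes outside a set. -/
theorem card_le_of_vanish {χ : P → ℂ} (hχ : Cfsg.IsIrrCharacter P χ) (S : Set P)
    (hout : ∀ g ∉ S, χ g = 0) : Nat.card P ≤ deg χ ^ 2 * Nat.card S := by
  classical
  haveI := Fintype.ofFinite P
  have h := classInner_self_irr hχ
  rw [classInner_self, Complex.ofReal_eq_one,
    inv_mul_eq_one₀ (Nat.cast_ne_zero.2 Nat.card_pos.ne'),
    ← Finset.sum_subset (Finset.subset_univ (Finset.univ.filter (fun g => g ∈ S)))
      (fun g _ hg => by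
        rw [hout g (fun hh => hg (Finset.mem_filter.2 ⟨Finset.mem_univ g, hh⟩)), norm_zero]
        norm_num)] at h
  have hle : ∀ g ∈ Finset.univ.filter (fun g => g ∈ S), ‖χ g‖ ^ 2 ≤ ((deg χ ^ 2 : ℕ) : ℝ) := fun g _ => by
    rw [Nat.cast_pow]
    refine pow_le_pow_left₀ (norm_nonneg _) ((IsCharacter.norm_le (isCharacter_of_irr hχ) g).trans ?_) 2
    rw [IsCharacter.apply_one_eq_deg (isCharacter_of_irr hχ), Complex.natCast_re]
  have h2 := (Finset.sum_le_sum hle)
  rw [Finset.sum_const, nsmul_eq_mul, ← h, ← Fintype.card_subtype, ← Nat.card_eq_fintype_card,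
    mul_comm] at h2
  exact_mod_cast h2

/-- If `A` commutes with `U` modulo the kernel, the degree is small. -/
theorem deg_sq_mul_card_le_index {χ : P → ℂ} (hχ : Cfsg.IsIrrCharacter P χ) (U A : Subgroup P)
    [U.Normal] (hAU : A ≤ U) (hker : ∀ a ∈ A, ∀ u ∈ U, χ ⁅a, u⁆ = χ 1) :
    deg χ ^ 2 * Nat.card A ≤ U.index * Nat.card P := by
  classical
  haveI := Fintype.ofFinite P
  haveI := Fintype.ofFinite U
  obtain ⟨η, hη, hc⟩ := exists_constituent U (isCharacter_of_irr hχ) (IsIrrCharacter.apply_one_ne_zero hχ)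
  obtain ⟨m, hm, hmd⟩ := deg_over U hχ hη hc
  let K : Subgroup U := kerSubgroup η (isCharacter_of_irr hη)
  haveI : K.Normal := kerSubgroup_normal (isCharacter_of_irr hη)
  have hres : Cfsg.IsCharacter U (fun u : U => χ u) := IsCharacter.restrict (isCharacter_of_irr hχ) U
  have hle : A.subgroupOf U ≤ centralMod K := fun a ha => mem_centralMod.2 fun u =>
    constituent_ker hres hη hc (g := ⁅a, u⁆) (hker a ha u u.2)
  have h1 := deg_sq_mul_card_le hη (A.subgroupOf U) fun a ha =>
    conj_mul_self hη (fun k hk => hk) (hle ha)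
  rw [Nat.card_congr (Subgroup.subgroupOfEquivOfLe hAU).toEquiv] at h1
  have hmle : m ≤ U.index := Nat.le_of_dvd (Nat.pos_of_ne_zero U.index_ne_zero_of_finite) hmd
  rw [hm, ← Subgroup.card_mul_index U, mul_pow, mul_assoc]
  calc m ^ 2 * (deg η ^ 2 * Nat.card A) ≤ U.index ^ 2 * Nat.card U := by gcongr
    _ = U.index * (Nat.card U * U.index) := by ring

/-- A character vanishing on `R ∖ K`, with `R` abelian modulo the kernel and centralised by `U`. -/
theorem card_le_of_vanish_centralized {χ : P → ℂ} (hχ : Cfsg.IsIrrCharacter P χ) (R K U : Subgroup P)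
    [R.Normal] (hab : ∀ a ∈ R, ∀ b ∈ R, χ ⁅a, b⁆ = χ 1)
    (hU : ∀ a ∈ R, ∀ u ∈ U, χ ⁅a, u⁆ = χ 1) (hvan : ∀ r ∈ R, r ∉ K → χ r = 0) :
    Nat.card R ≤ U.index * Nat.card K := by
  classical
  haveI := Fintype.ofFinite P
  haveI := Fintype.ofFinite R
  obtain ⟨θ, hθ, hc⟩ := exists_constituent R (isCharacter_of_irr hχ) (IsIrrCharacter.apply_one_ne_zero hχ)
  have hres : Cfsg.IsCharacter R (fun r : R => χ r) := IsCharacter.restrict (isCharacter_of_irr hχ) R
  let Kθ : Subgroup R := kerSubgroup θ (isCharacter_of_irr hθ)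
  haveI : Kθ.Normal := kerSubgroup_normal (isCharacter_of_irr hθ)
  have hθ1 : deg θ = 1 := by
    have h1 := deg_sq_mul_card_le hθ ⊤ fun a _ =>
      conj_mul_self hθ (K := Kθ) (fun k hk => hk)
        (mem_centralMod.2 fun u => constituent_ker hres hθ hc (g := ⁅a, u⁆) (hab a a.2 u u.2))
    rw [Subgroup.card_top] at h1
    have h2 : deg θ ^ 2 ≤ 1 := Nat.le_of_mul_le_mul_right (h1.trans (one_mul _).ge) Nat.card_pos
    have h3 := deg_irr_pos (⟨θ, hθ⟩ : Cfsg.IrrCharacter R)
    have h4 : deg θ ≤ deg θ ^ 2 := Nat.le_self_pow two_ne_zero _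
    show deg θ = 1
    change 0 < deg θ at h3
    omega
  have hUI : U ≤ inertia R θ := by
    intro u hu
    refine mem_inertia.2 (funext fun r => ?_)
    have hk : ((⟨u * r * u⁻¹, (inferInstance : R.Normal).conj_mem r r.2 u⟩ : R) * r⁻¹) ∈ Kθ := by
      refine constituent_ker hres hθ hc ?_
      show χ (u * r * u⁻¹ * (r : P)⁻¹) = χ 1
      rw [show u * (r : P) * u⁻¹ * (r : P)⁻¹ = ⁅(r : P), u⁆⁻¹ by simp [commutatorElement_def, mul_assoc]]
      exact IsCharacter.ker_inv (isCharacter_of_irr hχ) (hU r r.2 u hu)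
    have h2 := IsCharacter.ker_mul (isCharacter_of_irr hθ) (b := r) hk
    rwa [inv_mul_cancel_right] at h2
  have horb : (conjOrbit R θ).card ≤ U.index := by
    have h := card_conjOrbit R θ
    rw [← (inertia R θ).index_mul_card] at h
    have h2 : (conjOrbit R θ).card = (inertia R θ).index := by
      exact_mod_cast Nat.eq_of_mul_eq_mul_right Nat.card_pos h
    rw [h2]
    exact Nat.le_of_dvd (Nat.pos_of_ne_zero U.index_ne_zero_of_finite) (Subgroup.index_dvd_of_le hUI)
  obtain ⟨e, he⟩ := IsCharacter.exists_mult hres hθ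
  have hcl := clifford R hχ hθ hc
  rw [he] at hcl
  have horb' : ∀ ψ ∈ conjOrbit R θ, Cfsg.IsIrrCharacter R ψ ∧ ψ 1 = 1 := fun ψ hψ => by
    obtain ⟨g, rfl⟩ := (mem_conjOrbit R).mp hψ
    refine ⟨IsIrrCharacter.conjN hθ g, ?_⟩
    show θ _ = 1
    rw [show (⟨g * ((1 : R) : P) * g⁻¹, _⟩ : R) = 1 from Subtype.ext (by simp),
      IsCharacter.apply_one_eq_deg (isCharacter_of_irr hθ), hθ1, Nat.cast_one]
  set o := (conjOrbit R θ).card with ho
  have hdeg : (deg χ : ℂ) = (e : ℂ) * o := by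
    have h2 := congrFun hcl 1
    simp only [OneMemClass.coe_one, Pi.smul_apply, Finset.sum_apply, smul_eq_mul] at h2
    rw [IsCharacter.apply_one_eq_deg (isCharacter_of_irr hχ),
      Finset.sum_congr rfl (g := fun _ => (1 : ℂ)) (fun ψ hψ => (horb' ψ hψ).2), Finset.sum_const,
      nsmul_eq_mul, mul_one] at h2
    exact h2
  have hnorm : Cfsg.classInner (fun r : R => χ r) (fun r : R => χ r) = (e : ℂ) * e * o := by
    rw [hcl, classInner_smul_left, classInner_smul_right, classInner_sum_left,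
      Finset.sum_congr rfl (g := fun _ => (1 : ℂ)) (fun ψ hψ => ?_), Finset.sum_const, nsmul_eq_mul,
      mul_one, Complex.conj_natCast, mul_assoc]
    rw [classInner_sum_right, Finset.sum_eq_single ψ (fun φ hφ hne => by
      rw [classInner_irrChar (horb' ψ hψ).1 (horb' φ hφ).1, if_neg (Ne.symm hne)]) (fun h => absurd hψ h),
      classInner_self_irr (horb' ψ hψ).1]
  rw [classInner_self] at hnorm
  have hsum : ∑ r : R, ‖χ r‖ ^ 2 ≤ (deg χ : ℝ) ^ 2 * Nat.card (K.subgroupOf R) := by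
    rw [← Finset.sum_subset (Finset.subset_univ (Finset.univ.filter (fun r : R => r ∈ K.subgroupOf R)))
      (fun r _ hr => by
        rw [hvan r r.2 (fun hh => hr (Finset.mem_filter.2 ⟨Finset.mem_univ r, Subgroup.mem_subgroupOf.2 hh⟩)),
          norm_zero]
        norm_num)]
    refine (Finset.sum_le_sum (g := fun _ => (deg χ : ℝ) ^ 2) fun r _ => ?_).trans (le_of_eq ?_)
    · refine pow_le_pow_left₀ (norm_nonneg _) ((IsCharacter.norm_le (isCharacter_of_irr hχ) _).trans ?_) 2
      rw [IsCharacter.apply_one_eq_deg (isCharacter_of_irr hχ), Complex.natCast_re]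
    · rw [Finset.sum_const, nsmul_eq_mul, ← Fintype.card_subtype, ← Nat.card_eq_fintype_card, mul_comm]
  have hR : (Nat.card R : ℂ) ≠ 0 := Nat.cast_ne_zero.2 Nat.card_pos.ne'
  push_cast at hnorm
  rw [inv_mul_eq_iff_eq_mul₀ hR] at hnorm
  have hnormR : ∑ r : R, ‖χ r‖ ^ 2 = (Nat.card R : ℝ) * ((e : ℝ) * e * o) :=
    Complex.ofReal_injective (by push_cast; exact hnorm)
  rw [hnormR] at hsum
  have hdegR : (deg χ : ℝ) = (e : ℝ) * o := by
    have := congrArg Complex.re hdeg
    simpa using this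
  rw [hdegR] at hsum
  have hpos := deg_irr_pos (⟨χ, hχ⟩ : Cfsg.IrrCharacter P)
  have heo : (0 : ℝ) < (e : ℝ) * e * o := by
    have h0 : (0 : ℝ) < (e : ℝ) * o := by rw [← hdegR]; exact_mod_cast hpos
    rcases Nat.eq_zero_or_pos e with rfl | he0
    · simp at h0
    · rw [mul_assoc]; positivity
  have h3 : (Nat.card R : ℝ) ≤ (o : ℝ) * Nat.card (K.subgroupOf R) := by
    refine le_of_mul_le_mul_right (hsum.trans (le_of_eq ?_)) heo
    ring
  have h4 : Nat.card R ≤ o * Nat.card (K.subgroupOf R) := by exact_mod_cast h3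
  refine h4.trans (Nat.mul_le_mul horb ?_)
  exact Nat.card_le_card_of_injective (fun x : K.subgroupOf R => (⟨(x : R), Subgroup.mem_subgroupOf.1 x.2⟩ : K))
    fun a b hab => Subtype.ext (Subtype.ext (congrArg Subtype.val hab :))

end Cfsg.Lib.NDAD
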