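import Cfsg.Agent.Chars.TwoDegrees
import Cfsg.Agent.Chars.AbelianInertia
import Cfsg.Agent.Chars.ExtCriteria
import Cfsg.Agent.Chars.DegreeTools
import Cfsg.Agent.Chars.IrrTools
import Mathlib.GroupTheory.Sylow

/-!
# Extension to the inertia group and abelian inertia quotients

An invariant character extends if for each prime the Sylow subgroup of the quotient is cyclic or of
order prime to the normal subgroup.  If no degree properly divides a larger one, a character that
extends to its inertia group and does not stay irreducible up to the top has abelian inertia quotient.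
-/

set_option autoImplicit false
set_option linter.unusedSectionVars false
set_option linter.style.haveILetI false

namespace Cfsg.Lib.NDAD

open Cfsg.Lib.Chars
open scoped commutatorElement

universe u

/-- No degree properly divides another degree, apart from `1`. -/
def NDAD (G : Type u) [Group G] : Prop :=
  ∀ χ ψ : G → ℂ, Cfsg.IsIrrCharacter G χ → Cfsg.IsIrrCharacter G ψ → 1 < deg χ → deg χ ∣ deg ψ →
    deg ψ = deg χ

variable {G : Type u} [Group G] [Finite G]

/-- Extension criterion by Sylow subgroups of the quotient. -/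
theorem exists_extension_sylow (N : Subgroup G) [N.Normal] {θ : N → ℂ}
    (hθ : Cfsg.IsIrrCharacter N θ) (hinv : ∀ g : G, conjN N g θ = θ)
    (h : ∀ (p : ℕ) [Fact p.Prime] (S : Sylow p (G ⧸ N)), ¬ p ∣ Nat.card N ∨ IsCyclic (S : Subgroup (G ⧸ N))) :
    ∃ χ : G → ℂ, Cfsg.IsIrrCharacter G χ ∧ ∀ n : N, χ n = θ n := by
  classical
  haveI := Fintype.ofFinite G
  obtain ⟨m, ρ, hρ, hρθ⟩ := hθ
  haveI := hρ
  have hinv' : ∀ g : G, conjN N g ρ.character = ρ.character := fun g => by rw [hρθ]; exact hinv g
  have hsplit : HasSplit N ρ 1 := by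
    refine hasSplit_one_of_forall_prime N ρ fun p hp _ => ?_
    haveI := Fact.mk hp
    obtain ⟨S⟩ : Nonempty (Sylow p (G ⧸ N)) := inferInstance
    set X : Subgroup G := (S : Subgroup (G ⧸ N)).comap (QuotientGroup.mk' N) with hX
    have hNX : N ≤ X := fun n hn => by
      rw [hX, Subgroup.mem_comap, QuotientGroup.mk'_apply, (QuotientGroup.eq_one_iff n).2 hn]
      exact one_mem _
    have hidx : X.index = (S : Subgroup (G ⧸ N)).index :=
      Subgroup.index_comap_of_surjective _ (QuotientGroup.mk'_surjective N)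
    refine ⟨X.index, by rw [hidx]; exact S.not_dvd_index, ?_⟩
    let e := Subgroup.subgroupOfEquivOfLe hNX
    let ρX : Representation ℂ (N.subgroupOf X) (Fin m → ℂ) := ρ.comp e.toMonoidHom
    haveI hρX : ρX.IsIrreducible := by
      have hi : Cfsg.IsIrrCharacter (N.subgroupOf X) ρX.character :=
        IsIrrCharacter.comp_mulEquiv (isIrrCharacter_character ρ) e
      obtain ⟨k, σ, hσ, hσc⟩ := hi
      haveI := hσ
      obtain ⟨φ⟩ := nonempty_equiv_of_character_eq _ _ σ ρX hσc
      exact isIrreducible_of_equiv φ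
    have hinvX : ∀ g : X, conjN (N.subgroupOf X) g ρX.character = ρX.character := fun g =>
      funext fun x => congrFun (hinv' (g : G)) (e x)
    obtain ⟨R, hR⟩ : ∃ R : Representation ℂ X (Fin m → ℂ), ∀ x : N.subgroupOf X, R (x : X) = ρX x := by
      rcases h p S with hcop | hcyc
      · have hc : (Nat.card (N.subgroupOf X)).Coprime (N.subgroupOf X).index := by
          rw [Nat.card_congr e.toEquiv]
          let f : X ⧸ N.subgroupOf X →* G ⧸ N := QuotientGroup.map _ _ X.subtype fun x hx => hx
          have hf : Function.Injective f := by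
            rw [injective_iff_map_eq_one]
            intro z
            induction z using QuotientGroup.induction_on with
            | _ x =>
              intro hz
              exact (QuotientGroup.eq_one_iff x).2 ((QuotientGroup.eq_one_iff (x : G)).1 hz)
          have hrange : f.range ≤ (S : Subgroup (G ⧸ N)) := by
            rintro _ ⟨z, rfl⟩
            induction z using QuotientGroup.induction_on with
            | _ x => exact x.2
          obtain ⟨k, hk⟩ := IsPGroup.iff_card.1 S.isPGroup'
          have hdvd : (N.subgroupOf X).index ∣ p ^ k := by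
            rw [← hk, Subgroup.index, Nat.card_congr (MonoidHom.ofInjective hf).toEquiv]
            exact Subgroup.card_dvd_of_le hrange
          exact ((hp.coprime_iff_not_dvd.2 hcop).pow_left k).symm.coprime_dvd_right hdvd
        obtain ⟨η, hη, hres⟩ := exists_extension_of_coprime_index (N.subgroupOf X)
          (isIrrCharacter_character ρX) hinvX hc
        obtain ⟨R, hR, -⟩ := exists_rep_extending _ ρX (N.subgroupOf X).subtype (isCharacter_of_irr hη) hres
        exact ⟨R, hR⟩
      · haveI := hcyc
        refine exists_extension_of_hasSplit _ ρX hinvX (hasSplit_one_of_cyclic _ ρX ?_)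
        let f : X ⧸ N.subgroupOf X →* (S : Subgroup (G ⧸ N)) :=
          QuotientGroup.lift _ (((QuotientGroup.mk' N).comp X.subtype).codRestrict
            (S : Subgroup (G ⧸ N)) fun x => x.2) fun x hx =>
            Subtype.ext ((QuotientGroup.eq_one_iff _).2 hx)
        refine isCyclic_of_injective f ?_
        rw [injective_iff_map_eq_one]
        intro z
        induction z using QuotientGroup.induction_on with
        | _ x =>
          intro hz
          exact (QuotientGroup.eq_one_iff x).2 ((QuotientGroup.eq_one_iff (x : G)).1 (congrArg Subtype.val hz))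
    refine hasSplit_of_subgroup N ρ hinv' X hNX R fun n => ?_
    exact hR (e.symm n)
  obtain ⟨R, hR⟩ := exists_extension_of_hasSplit N ρ hinv' hsplit
  obtain ⟨h1, h2⟩ := exists_irr_ext_of_rep N ρ R hR
  exact ⟨R.character, h1, fun n => by rw [h2 n, hρθ]⟩

/-- An extendible character with a degree above it forces an abelian inertia quotient. -/
theorem abelian_inertia_of_ext (hnd : NDAD G) (N : Subgroup G) [N.Normal] {θ : N → ℂ}
    (hθ : Cfsg.IsIrrCharacter N θ) {T : Subgroup G} (hT : T = inertia N θ) {ψ : T → ℂ}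
    (hψ : Cfsg.IsIrrCharacter T ψ)
    (hres : ∀ (n : N) (h : (n : G) ∈ T), ψ ⟨n, h⟩ = θ n)
    (hd : 1 < T.index * deg θ) :
    (∃ χ : G → ℂ, Cfsg.IsIrrCharacter G χ ∧ deg χ = T.index * deg θ) ∧
      ∀ a ∈ T, ∀ b ∈ T, ⁅a, b⁆ ∈ N := by
  classical
  haveI := Fintype.ofFinite G
  haveI := Fintype.ofFinite T
  haveI := Fintype.ofFinite N
  have hθc := isClassFunction_isChar (isCharacter_of_irr hθ)
  have hNT : N ≤ T := hT ▸ le_inertia hθc
  let e := Subgroup.subgroupOfEquivOfLe hNT
  haveI : Fintype (N.subgroupOf T) := Fintype.ofFinite _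
  have hψN : Cfsg.IsIrrCharacter (N.subgroupOf T) (fun x : N.subgroupOf T => ψ x) := by
    rw [show (fun x : N.subgroupOf T => ψ x) = fun x => θ (e x) from funext fun x => hres (e x) (x : T).2]
    exact IsIrrCharacter.comp_mulEquiv hθ e
  have key : ∀ β : T → ℂ, Cfsg.IsIrrCharacter T β → (∀ x : N.subgroupOf T, β x = β 1) →
      ∃ χ : G → ℂ, Cfsg.IsIrrCharacter G χ ∧ deg χ = T.index * (deg β * deg θ) := by
    intro β hβ hβN
    obtain ⟨hirr, -⟩ := gallagher_trivial (N.subgroupOf T) hψ hψN hβ hβ hβN hβN
    have hc : Cfsg.classInner (fun n : N => (β * ψ) ⟨n, hNT n.2⟩) θ ≠ 0 := by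
      rw [show (fun n : N => (β * ψ) ⟨n, hNT n.2⟩) = β 1 • θ from funext fun n => by
        show β _ * ψ _ = β 1 * θ n
        rw [hres n (hNT n.2), show β ⟨n, hNT n.2⟩ = β 1 from hβN ⟨⟨n, hNT n.2⟩, n.2⟩],
        classInner_smul_left, classInner_self_irr hθ, mul_one]
      exact IsIrrCharacter.apply_one_ne_zero hβ
    obtain ⟨χ, hχ, hχc⟩ : ∃ χ : G → ℂ, Cfsg.IsIrrCharacter G χ ∧
        Cfsg.classInner (fun t : T => χ t) (β * ψ) ≠ 0 := by
      by_contra hh
      push Not at hh
      have h0 := eq_zero_of_classInner_eq_zero (isClassFunction_indFun (G := G) T (β * ψ)) fun χ => by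
        rw [frobenius_reciprocity T _ (isClassFunction_irr χ), ← classInner_conj_symm, hh χ χ.2, map_zero]
      have h1 := congrFun h0 1
      rw [indFun_one, Pi.zero_apply, mul_eq_zero, Nat.cast_eq_zero] at h1
      exact h1.elim T.index_ne_zero_of_finite (IsIrrCharacter.apply_one_ne_zero hirr)
    obtain ⟨h1, -, -⟩ := clifford_correspondence hθ T hT hNT hχ hirr hχc hc
    refine ⟨χ, hχ, Nat.cast_injective (R := ℂ) ?_⟩
    rw [← IsCharacter.apply_one_eq_deg (isCharacter_of_irr hχ), ← h1, indFun_one]
    push_cast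
    rw [← IsCharacter.apply_one_eq_deg (isCharacter_of_irr hβ),
      ← IsCharacter.apply_one_eq_deg (isCharacter_of_irr hθ)]
    show (T.index : ℂ) * (β 1 * ψ 1) = _
    rw [← hres 1 (hNT (1 : N).2)]
    rfl
  have hone : deg (fun _ : T => (1 : ℂ)) = 1 := by simp [deg]
  obtain ⟨χ, hχ, hχd⟩ := key _ isIrrCharacter_one fun _ => rfl
  rw [hone, one_mul] at hχd
  refine ⟨⟨χ, hχ, hχd⟩, fun a ha b hb => ?_⟩
  have hlin := commutator_mem_of_linear (N.subgroupOf T) (fun β hβ => ?_) ⟨a, ha⟩ ⟨b, hb⟩
  · exact Subgroup.mem_subgroupOf.1 hlin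
  · obtain ⟨χ', hχ', hd'⟩ := key β β.2 fun x => hβ x x.2
    have h := hnd χ χ' hχ hχ' (by rw [hχd]; exact hd)
      ⟨deg (β : T → ℂ), by rw [hd', hχd]; ring⟩
    rw [hd', hχd, mul_left_comm] at h
    exact Nat.eq_of_mul_eq_mul_right (by omega : 0 < T.index * deg θ) (h.trans (one_mul _).symm)

/-- Extension to the inertia group, in the form used below. -/
theorem abelian_inertia (hnd : NDAD G) (N : Subgroup G) [N.Normal] {θ : N → ℂ}
    (hθ : Cfsg.IsIrrCharacter N θ)
    (hsyl : ∀ (p : ℕ) [Fact p.Prime] (S : Subgroup (G ⧸ N)), IsPGroup p S →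
      S ≤ (inertia N θ).map (QuotientGroup.mk' N) → ¬ p ∣ Nat.card N ∨ IsCyclic S)
    (hd : 1 < (inertia N θ).index * deg θ) :
    (∃ χ : G → ℂ, Cfsg.IsIrrCharacter G χ ∧ deg χ = (inertia N θ).index * deg θ) ∧
      ∀ a ∈ inertia N θ, ∀ b ∈ inertia N θ, ⁅a, b⁆ ∈ N := by
  classical
  haveI := Fintype.ofFinite N
  set T := inertia N θ
  have hNT : N ≤ T := le_inertia (isClassFunction_isChar (isCharacter_of_irr hθ))
  let e := Subgroup.subgroupOfEquivOfLe hNT
  haveI : Fintype (N.subgroupOf T) := Fintype.ofFinite _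
  obtain ⟨ψ, hψ, hres⟩ := exists_extension_sylow (N.subgroupOf T)
    (θ := fun x => θ (e x)) (IsIrrCharacter.comp_mulEquiv hθ e)
    (fun g => funext fun x => congrFun (mem_inertia.1 g.2) (e x)) (fun p _ S => by
      let f : T ⧸ N.subgroupOf T →* G ⧸ N := QuotientGroup.map _ _ T.subtype fun x hx => hx
      have hf : Function.Injective f := by
        rw [injective_iff_map_eq_one]
        intro z
        induction z using QuotientGroup.induction_on with
        | _ x =>
          intro hz
          exact (QuotientGroup.eq_one_iff x).2 ((QuotientGroup.eq_one_iff (x : G)).1 hz)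
      rw [Nat.card_congr e.toEquiv]
      refine (hsyl p ((S : Subgroup _).map f) (S.isPGroup'.map f) ?_).imp id fun hc => ?_
      · rintro _ ⟨z, -, rfl⟩
        induction z using QuotientGroup.induction_on with
        | _ x => exact ⟨x, x.2, rfl⟩
      · exact ((Subgroup.equivMapOfInjective (S : Subgroup _) f hf).isCyclic).2 hc)
  exact abelian_inertia_of_ext hnd N hθ rfl hψ (fun n hn => hres ⟨⟨n, hn⟩, n.2⟩) hd

end Cfsg.Lib.NDAD
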