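import Cfsg.Agent.Chars.NDAD.B1
import Cfsg.Agent.Chars.NDAD.B2
import Mathlib.Combinatorics.SimpleGraph.Connectivity.Connected
import Mathlib.Data.Set.Card

/-!
# Solvable groups without divisibility among the degrees
-/

set_option autoImplicit false
set_option linter.unusedSectionVars false
set_option linter.style.haveILetI false

namespace Cfsg.Lib.NDAD

open Cfsg.Lib.Chars
open scoped commutatorElement

universe u

variable {G : Type u} [Group G] [Finite G]

/-- The shape of the degrees of a solvable group without divisibility among them. -/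
theorem shape_of_solvable [Group.IsSolvable G]
    (hnd : ∀ a ∈ Cfsg.charDegrees G, ∀ b ∈ Cfsg.charDegrees G, 1 < a → a < b → ¬ a ∣ b) : Shape G := by
  haveI := Fintype.ofFinite G
  rcases reduce (ndad_of_charDegrees hnd) with ⟨m, hm⟩ | ⟨q, f, N, M, d⟩
  · exact ⟨Or.inl ⟨m, m, fun χ hχ => (hm χ hχ).imp id Or.inl⟩,
      derivedSeries_eq_bot_of_le (derived_two m hm) (by norm_num)⟩
  · by_cases hab : ∀ a ∈ N, ∀ b ∈ N, ⁅a, b⁆ ∈ M
    · exact d.B2 hab
    · push Not at hab
      exact d.B1 hab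

theorem one_mem_charDegrees : 1 ∈ Cfsg.charDegrees G := by
  have h := deg_mem_charDegrees (isIrrCharacter_one (G := G))
  rwa [show deg (fun _ : G => (1 : ℂ)) = 1 by simp [deg]] at h

theorem mem_of_charDegrees {e : ℕ} (he : e ∈ Cfsg.charDegrees G) :
    ∃ χ : G → ℂ, Cfsg.IsIrrCharacter G χ ∧ deg χ = e := by
  obtain ⟨χ, hχ⟩ := he
  exact ⟨χ, χ.2, by rw [← charDegree_eq_deg χ.2]; exact hχ⟩

theorem subset_pair_or_quad (h : Shape G) :
    (∃ a b : ℕ, ∀ e ∈ Cfsg.charDegrees G, e = 1 ∨ e = a ∨ e = b) ∨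
    ∃ q f d₂ d₃ : ℕ, (∀ e ∈ Cfsg.charDegrees G, e = 1 ∨ e = f ∨ e = d₂ ∨ e = d₃) ∧
      q.Prime ∧ q ∣ d₂ ∧ (∃ r : ℕ, r.Prime ∧ r ∣ f ∧ r ∣ d₂) ∧ ∀ r : ℕ, r.Prime → r ∣ d₃ → r ∣ f ∨ r = q := by
  rcases h.degs with ⟨a, b, hd⟩ | ⟨q, f, d₂, d₃, hd, h1, h2, h3, h4⟩
  · refine Or.inl ⟨a, b, fun e he => ?_⟩
    obtain ⟨χ, hχ, rfl⟩ := mem_of_charDegrees he
    exact hd χ hχ
  · refine Or.inr ⟨q, f, d₂, d₃, fun e he => ?_, h1, h2, h3, h4⟩
    obtain ⟨χ, hχ, rfl⟩ := mem_of_charDegrees he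
    exact hd χ hχ

theorem card_charDegrees_le_four (h : Shape G) : Nat.card ↥(Cfsg.charDegrees G) ≤ 4 := by
  have key : ∀ x y z : ℕ, (∀ e ∈ Cfsg.charDegrees G, e = 1 ∨ e = x ∨ e = y ∨ e = z) →
      Nat.card ↥(Cfsg.charDegrees G) ≤ 4 := by
    intro x y z hd
    rw [Nat.card_coe_set_eq]
    refine (Set.ncard_le_ncard (t := ({1, x, y, z} : Set ℕ)) (fun e he => by simpa using hd e he)
      (Set.toFinite _)).trans ?_
    calc Set.ncard ({1, x, y, z} : Set ℕ) ≤ Set.ncard ({x, y, z} : Set ℕ) + 1 := Set.ncard_insert_le _ _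
      _ ≤ Set.ncard ({y, z} : Set ℕ) + 1 + 1 := Nat.add_le_add_right (Set.ncard_insert_le _ _) 1
      _ ≤ Set.ncard ({z} : Set ℕ) + 1 + 1 + 1 :=
          Nat.add_le_add_right (Nat.add_le_add_right (Set.ncard_insert_le _ _) 1) 1
      _ = 4 := by rw [Set.ncard_singleton]
  rcases subset_pair_or_quad h with ⟨a, b, hd⟩ | ⟨q, f, d₂, d₃, hd, -⟩
  · exact key a b b fun e he => (hd e he).imp id fun h => h.imp id Or.inl
  · exact key f d₂ d₃ hd

theorem card_components_le_one_of_reachable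
    (h : ∀ u v : Cfsg.degreePrimes G, ((Cfsg.degreeGraph G).induce (Cfsg.degreePrimes G)).Reachable u v) :
    Nat.card ((Cfsg.degreeGraph G).induce (Cfsg.degreePrimes G)).ConnectedComponent ≤ 1 := by
  haveI : Subsingleton ((Cfsg.degreeGraph G).induce (Cfsg.degreePrimes G)).ConnectedComponent :=
    SimpleGraph.Preconnected.subsingleton_connectedComponent h
  exact Finite.card_le_one_iff_subsingleton.2 inferInstance

theorem reachable_of_dvd {p p' e : ℕ} (hp : p ∈ Cfsg.degreePrimes G) (hp' : p' ∈ Cfsg.degreePrimes G)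
    (he : e ∈ Cfsg.charDegrees G) (h : p ∣ e) (h' : p' ∣ e) :
    ((Cfsg.degreeGraph G).induce (Cfsg.degreePrimes G)).Reachable ⟨p, hp⟩ ⟨p', hp'⟩ := by
  by_cases hpp : p = p'
  · subst hpp
    exact SimpleGraph.Reachable.refl _
  · refine SimpleGraph.Adj.reachable ?_
    show (Cfsg.degreeGraph G).Adj p p'
    exact ⟨hpp, hp.1, hp'.1, e, he, ((Nat.coprime_primes hp.1 hp'.1).2 hpp).mul_dvd_of_dvd_of_dvd h h'⟩

theorem card_eq_three_of_two_components (h : Shape G)
    (htwo : Nat.card ((Cfsg.degreeGraph G).induce (Cfsg.degreePrimes G)).ConnectedComponent = 2) :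
    Nat.card ↥(Cfsg.charDegrees G) = 3 := by
  have hno : ¬ ∀ u v : Cfsg.degreePrimes G,
      ((Cfsg.degreeGraph G).induce (Cfsg.degreePrimes G)).Reachable u v := fun hr => by
    have := card_components_le_one_of_reachable hr
    omega
  have htri : ∀ a b : ℕ, (∀ e ∈ Cfsg.charDegrees G, e = 1 ∨ e = a ∨ e = b) →
      Nat.card ↥(Cfsg.charDegrees G) = 3 := by
    intro a b hd
    by_cases hall : a ∈ Cfsg.charDegrees G ∧ b ∈ Cfsg.charDegrees G ∧ a ≠ 1 ∧ b ≠ 1 ∧ a ≠ b
    · obtain ⟨ha, hb, ha1, hb1, hab⟩ := hall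
      have heq : Cfsg.charDegrees G = ({1, a, b} : Set ℕ) := Set.Subset.antisymm
        (fun e he => by simpa using hd e he) (by
          rintro e (rfl | rfl | rfl)
          · exact one_mem_charDegrees
          · exact ha
          · exact hb)
      rw [Nat.card_coe_set_eq, heq]
      exact Set.ncard_eq_three.2 ⟨1, a, b, Ne.symm ha1, Ne.symm hb1, hab, rfl⟩
    · refine absurd (fun u v => ?_) hno
      obtain ⟨⟨p, hp⟩, ⟨p', hp'⟩⟩ := u, v
      obtain ⟨e, he, hpe⟩ := hp.2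
      obtain ⟨e', he', hpe'⟩ := hp'.2
      have he1 : e ≠ 1 := fun h1 => hp.1.not_dvd_one (h1 ▸ hpe)
      have he1' : e' ≠ 1 := fun h1 => hp'.1.not_dvd_one (h1 ▸ hpe')
      refine reachable_of_dvd hp hp' he hpe ?_
      rcases (hd e he).resolve_left he1 with rfl | rfl <;>
        rcases (hd e' he').resolve_left he1' with rfl | rfl
      · exact hpe'
      · by_cases hee : e = e'
        · exact hee ▸ hpe'
        · exact absurd ⟨he, he', he1, he1', hee⟩ hall
      · by_cases hee : e' = e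
        · exact hee ▸ hpe'
        · exact absurd ⟨he', he, he1', he1, hee⟩ hall
      · exact hpe'
  rcases subset_pair_or_quad h with ⟨a, b, hd⟩ | ⟨q, f, d₂, d₃, hd, hq, hq2, ⟨r, hr, hrf, hr2⟩, h3⟩
  · exact htri a b hd
  · by_cases hf : f ∈ Cfsg.charDegrees G
    swap
    · exact htri d₂ d₃ fun e he => (hd e he).imp id fun h => h.resolve_left fun h' => hf (h' ▸ he)
    by_cases h2 : d₂ ∈ Cfsg.charDegrees G
    swap
    · refine htri f d₃ fun e he => (hd e he).imp id fun h => h.imp id fun h' => ?_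
      exact h'.resolve_left fun h'' => h2 (h'' ▸ he)
    by_cases h3' : d₃ ∈ Cfsg.charDegrees G
    swap
    · refine htri f d₂ fun e he => (hd e he).imp id fun h => h.imp id fun h' => ?_
      exact h'.resolve_right fun h'' => h3' (h'' ▸ he)
    refine absurd (fun u v => ?_) hno
    have hqP : q ∈ Cfsg.degreePrimes G := ⟨hq, d₂, h2, hq2⟩
    have hrP : r ∈ Cfsg.degreePrimes G := ⟨hr, f, hf, hrf⟩
    have key : ∀ w : Cfsg.degreePrimes G,
        ((Cfsg.degreeGraph G).induce (Cfsg.degreePrimes G)).Reachable w ⟨q, hqP⟩ := by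
      rintro ⟨p, hp⟩
      have hpf : p ∣ f → ((Cfsg.degreeGraph G).induce (Cfsg.degreePrimes G)).Reachable ⟨p, hp⟩ ⟨q, hqP⟩ :=
        fun hpf => (reachable_of_dvd hp hrP hf hpf hrf).trans (reachable_of_dvd hrP hqP h2 hr2 hq2)
      obtain ⟨e, he, hpe⟩ := hp.2
      rcases hd e he with rfl | rfl | rfl | rfl
      · exact absurd hpe hp.1.not_dvd_one
      · exact hpf hpe
      · exact reachable_of_dvd hp hqP h2 hpe hq2
      · rcases h3 p hp.1 hpe with hp3 | hp3
        · exact hpf hp3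
        · subst hp3
          exact SimpleGraph.Reachable.refl _
    exact (key u).trans (key v).symm

end Cfsg.Lib.NDAD
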