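import Cfsg.Agent.Chars.NDAD.HBase

/-!
# The complement acts on the commutator part as required
-/

set_option autoImplicit false
set_option linter.unusedSectionVars false
set_option linter.style.haveILetI false

namespace Cfsg.Lib.NDAD

open Cfsg.Lib.Chars
open scoped commutatorElement

universe u

variable {H : Type u} [Group H] [Finite H] {F : Type u} [CommGroup F] [Finite F]
variable {Q : Subgroup H} [Q.Normal] {ι : F →* H} {q f : ℕ} {P : Subgroup H} [P.Normal]

namespace PSet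

variable (S : PSet Q ι q f P)
include S

theorem qP : IsPGroup q P := S.hd.qQ.to_le S.le_Q

theorem exists_ne_one : ∃ s : F, s ≠ 1 := by
  haveI : Nontrivial F := Finite.one_lt_card_iff_nontrivial.1 (S.hd.cardF ▸ S.hd.one_lt)
  exact exists_ne 1

/-- The restriction of a linear character of `Q` is regular or trivial. -/
theorem restrict_regular (ν : Q →* ℂˣ) {s : F} (hs : s ≠ 1)
    (hfix : ∀ x : P, ν (Subgroup.inclusion S.le_Q (conjAct ι P s x)) = ν (Subgroup.inclusion S.le_Q x)) :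
    ν.comp (Subgroup.inclusion S.le_Q) = 1 := by
  have hsfix : s ∈ fixSub (conjAct ι Q) (fun x => (ν x : ℂ)) := fun x => by
    obtain ⟨p, hp, c, hc, h⟩ := S.decomp x.2
    have e : x = Subgroup.inclusion S.le_Q ⟨p, hp⟩ * ⟨c, hc.1⟩ := Subtype.ext h.symm
    show ((ν (conjAct ι Q s x) : ℂˣ) : ℂ) = ((ν x : ℂˣ) : ℂ)
    rw [e, map_mul, map_mul,
      show conjAct ι Q s (Subgroup.inclusion S.le_Q ⟨p, hp⟩) = Subgroup.inclusion S.le_Q (conjAct ι P s ⟨p, hp⟩) from
        Subtype.ext (by simp [conjAct_coe]),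
      show conjAct ι Q s ⟨c, hc.1⟩ = ⟨c, hc.1⟩ from
        Subtype.ext (by rw [conjAct_coe, comm_of_mem_fixC hc, mul_inv_cancel_right]),
      map_mul, hfix]
  refine S.hom_fixed_trivial _ fun t x => Units.ext ?_
  rcases S.hd.linear_stab ν with h | h
  · have ht : t ∈ fixSub (conjAct ι Q) (fun y => (ν y : ℂ)) := h ▸ Subgroup.mem_top t
    refine Eq.trans ?_ (ht (Subgroup.inclusion S.le_Q x))
    exact congrArg (fun y => ((ν y : ℂˣ) : ℂ)) (Subtype.ext (by simp [conjAct_coe]))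
  · exact absurd (Subgroup.mem_bot.1 (h ▸ hsfix)) hs

theorem exists_moved : ∃ ν : Q →* ℂˣ, ν.comp (Subgroup.inclusion S.le_Q) ≠ 1 := by
  obtain ⟨l, hl⟩ := S.hd.moved
  refine ⟨l, fun h => ?_⟩
  obtain ⟨s, hs⟩ := S.exists_ne_one
  have hmem : s ∈ fixSub (conjAct ι Q) (fun x => (l x : ℂ)) := fun x => by
    obtain ⟨p, hp, c, hc, he⟩ := S.decomp x.2
    have e : x = Subgroup.inclusion S.le_Q ⟨p, hp⟩ * ⟨c, hc.1⟩ := Subtype.ext he.symm
    have h0 : ∀ y : P, l (Subgroup.inclusion S.le_Q y) = 1 := fun y => DFunLike.congr_fun h y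
    show ((l (conjAct ι Q s x) : ℂˣ) : ℂ) = ((l x : ℂˣ) : ℂ)
    rw [e, map_mul, map_mul,
      show conjAct ι Q s (Subgroup.inclusion S.le_Q ⟨p, hp⟩) = Subgroup.inclusion S.le_Q (conjAct ι P s ⟨p, hp⟩) from
        Subtype.ext (by simp [conjAct_coe]),
      show conjAct ι Q s ⟨c, hc.1⟩ = ⟨c, hc.1⟩ from
        Subtype.ext (by rw [conjAct_coe, comm_of_mem_fixC hc, mul_inv_cancel_right]),
      map_mul, h0, h0]
  rw [fixSub_conjAct, hl, S.hd.comap_eq_bot] at hmem
  exact hs (Subgroup.mem_bot.1 hmem)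

/-- Every linear character of the commutator part is invariant. -/
theorem linear_invariant (μ : P →* ℂˣ) : Q ≤ inertia P (fun x => (μ x : ℂ)) := by
  by_contra hno
  obtain ⟨ν, hν⟩ := S.exists_moved
  set w := ν.comp (Subgroup.inclusion S.le_Q) with hw
  have hwinv : Q ≤ inertia P (fun x => (w x : ℂ)) := fun u hu => mem_inertia.2 (funext fun x => by
    show ((ν _ : ℂˣ) : ℂ) = ((ν _ : ℂˣ) : ℂ)
    rw [show Subgroup.inclusion S.le_Q ⟨u * x * u⁻¹, (inferInstance : P.Normal).conj_mem x x.2 u⟩ =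
      (⟨u, hu⟩ : Q) * Subgroup.inclusion S.le_Q x * (⟨u, hu⟩ : Q)⁻¹ from Subtype.ext rfl, hom_conj])
  have hno2 : ¬ Q ≤ inertia P (fun x => ((μ * w) x : ℂ)) := fun h => hno fun u hu => mem_inertia.2 (funext fun x => by
    have h1 := congrFun (mem_inertia.1 (h hu)) x
    have h2 := congrFun (mem_inertia.1 (hwinv hu)) x
    simp only [conjN, MonoidHom.mul_apply, Units.val_mul] at h1 h2 ⊢
    rw [h2] at h1
    exact mul_right_cancel₀ (Units.ne_zero _) h1)
  have hex : ∀ m : P →* ℂˣ, ¬ Q ≤ inertia P (fun x => (m x : ℂ)) →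
      ∃ s, s ≠ 1 ∧ ∀ x, m (conjAct ι P s x) = m x := by
    intro m hm
    have h1 : fixSub (conjAct ι P) (fun x => (m x : ℂ)) ≠ ⊥ := fun hb =>
      hm (S.eq_top_of_stab (isIrrCharacter_linear m) hb).2
    obtain ⟨s, hs, hs1⟩ := (Subgroup.bot_or_exists_ne_one _).resolve_left h1
    exact ⟨s, hs1, fun x => Units.ext (hs x)⟩
  obtain ⟨s, hs1, hs⟩ := hex μ hno
  obtain ⟨t, ht1, ht⟩ := hex (μ * w) hno2
  let δ : Q →* ℂˣ := ν.comp (conjAct ι Q s).toMonoidHom / ν
  have hδP : ∀ x : P, δ (Subgroup.inclusion S.le_Q x) = w (conjAct ι P s x) / w x := fun x => by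
    show ν _ / ν _ = ν _ / ν _
    congr 2
  have hδ := S.restrict_regular δ ht1 fun x => by
    rw [hδP, hδP, div_eq_div_iff_mul_eq_mul]
    have hB := ht x
    have hB' := ht (conjAct ι P s x)
    rw [← MulAut.mul_apply, ← map_mul, mul_comm t s, map_mul, MulAut.mul_apply, MonoidHom.mul_apply,
      MonoidHom.mul_apply, hs, hs] at hB'
    rw [MonoidHom.mul_apply, MonoidHom.mul_apply] at hB
    have h := congrArg (· * w x) hB'
    simp only [mul_assoc] at h
    rw [mul_comm (w (conjAct ι P s x)) (w x), ← mul_assoc (μ x), ← hB, mul_assoc] at h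
    rw [mul_left_cancel h, mul_comm]
  refine hν (S.restrict_regular ν hs1 fun x => ?_)
  have h1 : δ (Subgroup.inclusion S.le_Q x) = 1 := DFunLike.congr_fun hδ x
  rw [hδP, div_eq_one] at h1
  exact h1

/-- A homomorphism fixed by one element of the complement is trivial. -/
theorem hom_trivial_of_one (μ : P →* ℂˣ) {s : F} (hs : s ≠ 1) (hfix : ∀ x, μ (conjAct ι P s x) = μ x) :
    μ = 1 := by
  classical
  letI := Fintype.ofFinite F
  -- the kernel contains the fixed points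
  have hkill : ∀ x : P, (x : H) ∈ fixC Q ι → μ x = 1 := by
    intro x hx
    let N : P →* ℂˣ := ∏ t : F, μ.comp (conjAct ι P t).toMonoidHom
    have hN := S.hom_fixed_trivial N fun t y => by
      show N _ = N y
      simp only [N, MonoidHom.finsetProd_apply, MonoidHom.comp_apply]
      exact Fintype.prod_equiv (Equiv.mulRight t) _ _ fun r => by
        rw [Equiv.coe_mulRight, map_mul]
        rfl
    have h1 : μ x ^ Fintype.card F = 1 := by
      have h2 : N x = 1 := DFunLike.congr_fun hN x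
      simp only [N, MonoidHom.finsetProd_apply, MonoidHom.comp_apply] at h2
      have h3 := (Finset.prod_congr rfl (g := fun _ => μ x)
        (fun r _ => congrArg μ (S.fixed_of_mem_fixC hx r))).symm.trans h2
      rwa [Finset.prod_const, Finset.card_univ] at h3
    haveI := Fact.mk S.hd.hq
    obtain ⟨n, hn⟩ := IsPGroup.iff_card.1 S.qP
    exact eq_one_of_pow_pow ((Nat.card_eq_fintype_card (α := F) ▸ S.hd.cop).pow_right n) h1
      (by rw [← map_pow, ← hn, pow_card_eq_one', map_one])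
  -- extension
  let dec : ∀ u : Q, ∃ p : P, ∃ c ∈ fixC Q ι, (p : H) * c = u := fun u => by
    obtain ⟨p, hp, c, hc, h⟩ := S.decomp u.2
    exact ⟨⟨p, hp⟩, c, hc, h⟩
  have hwd : ∀ (u : Q) (p : P), ∀ c ∈ fixC Q ι, (p : H) * c = u → μ (dec u).choose = μ p := by
    intro u p c hc h
    obtain ⟨c', hc', h'⟩ := (dec u).choose_spec
    have h2 : ((p⁻¹ * (dec u).choose : P) : H) = c * c'⁻¹ := by
      rw [Subgroup.coe_mul, Subgroup.coe_inv, eq_mul_inv_iff_mul_eq, mul_assoc, h', ← h, inv_mul_cancel_left]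
    have h1 := hkill (p⁻¹ * (dec u).choose) (h2 ▸ (fixC Q ι).mul_mem hc ((fixC Q ι).inv_mem hc'))
    rw [map_mul, map_inv, inv_mul_eq_one] at h1
    exact h1.symm
  let ν : Q →* ℂˣ :=
    { toFun := fun u => μ (dec u).choose
      map_one' := (hwd 1 1 1 (one_mem _) (by simp)).trans (map_one μ)
      map_mul' := fun u v => by
        obtain ⟨c, hc, hu⟩ := (dec u).choose_spec
        obtain ⟨c', hc', hv⟩ := (dec v).choose_spec
        let p' : P := ⟨c * (dec v).choose * c⁻¹, (inferInstance : P.Normal).conj_mem _ (dec v).choose.2 c⟩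
        rw [hwd (u * v) ((dec u).choose * p') (c * c') ((fixC Q ι).mul_mem hc hc') (by
          show ((dec u).choose : H) * (c * (dec v).choose * c⁻¹) * (c * c') = (u : H) * v
          rw [show ((dec u).choose : H) * (c * (dec v).choose * c⁻¹) * (c * c') =
            ((dec u).choose : H) * c * ((dec v).choose * c') by group]
          exact congrArg₂ (· * ·) hu hv), map_mul]
        exact congrArg _ (Units.ext (congrFun (mem_inertia.1 (S.linear_invariant μ hc.1)) _)) }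
  have hνP : ∀ x : P, ν (Subgroup.inclusion S.le_Q x) = μ x := fun x =>
    hwd _ x 1 (one_mem _) (by simp)
  have h := S.restrict_regular ν hs fun x => by rw [hνP, hνP, hfix]
  ext x
  rw [← hνP]
  exact congrArg Units.val (DFunLike.congr_fun h x)

theorem fpf {s : F} (hs : s ≠ 1) (x : P) (hx : x⁻¹ * conjAct ι P s x ∈ lc P 1) : x ∈ lc P 1 := by
  refine mem_next_of_fixed (act := conjAct ι P) (k := 0) (fun l _ hfix => ?_) (mem_lc_zero x) hx
  let β : P →* ℂˣ :=
    { toFun := fun y => ev l y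
      map_one' := ev_one l
      map_mul' := fun a b => ev_mul l (mem_lc_zero a) (mem_lc_zero b) }
  have hβ := S.hom_trivial_of_one β hs fun y => by
    show ev l (conjAct ι P s y) = ev l y
    rw [← ev_pull (conjAct ι P) 0 s l (mem_lc_zero y), hfix]
  ext y
  rw [← ev_coe]
  exact congrArg Units.val (DFunLike.congr_fun hβ (y : P))

theorem stab {φ : P → ℂ} (hφ : Cfsg.IsIrrCharacter P φ) (hd : deg φ ≠ 1) :
    ∃ s : F, s ≠ 1 ∧ Fixes (conjAct ι P) s φ := by
  have h1 : fixSub (conjAct ι P) φ ≠ ⊥ := fun hb => hd (S.eq_top_of_stab hφ hb).1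
  obtain ⟨s, hs, hs1⟩ := (Subgroup.bot_or_exists_ne_one _).resolve_left h1
  exact ⟨s, hs1, hs⟩

/-- The fixed points centralise the commutator part. -/
theorem commute_fixC {c : H} (hc : c ∈ fixC Q ι) {x : H} (hx : x ∈ P) : c * x = x * c := by
  haveI := Fact.mk S.hd.hq
  haveI : Group.IsNilpotent P := S.qP.isNilpotent
  let e : MulAut P := MulAut.conjNormal c
  have hec : ∀ y : P, ((e y : P) : H) = c * y * c⁻¹ := fun y => MulAut.conjNormal_apply _ _
  have hcomm : ∀ (s : F) (y : P), e (conjAct ι P s y) = conjAct ι P s (e y) := fun s y => Subtype.ext (by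
    have h1 := comm_of_mem_fixC hc s
    rw [hec, conjAct_coe, conjAct_coe, hec,
      show c * (ι s * y * (ι s)⁻¹) * c⁻¹ = (c * ι s) * y * (c * ι s)⁻¹ by group, ← h1]
    group)
  have hstep : ∀ k, ∀ y : P, e y * y⁻¹ ∈ lc P (k + 1) := by
    intro k
    induction k with
    | zero =>
      intro y
      refine mem_next (k := 0) (mem_lc_zero _) fun l _ => ?_
      let β : P →* ℂˣ :=
        { toFun := fun z => ev l z
          map_one' := ev_one l
          map_mul' := fun a b => ev_mul l (mem_lc_zero a) (mem_lc_zero b) }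
      show β (e y * y⁻¹) = 1
      rw [map_mul, map_inv, mul_inv_eq_one]
      refine Units.ext ?_
      have h1 := congrFun (mem_inertia.1 (S.linear_invariant β hc.1)) y
      exact (congrArg (fun z => ((β z : ℂˣ) : ℂ)) (Subtype.ext (hec y))).trans h1
    | succ k ih =>
      intro y
      refine mem_next (ih y) fun l hl => ?_
      by_cases hne : l = 1
      · rw [hne, ev_one_left]
      let β : P →* ℂˣ :=
        { toFun := fun z => ev l (e z * z⁻¹)
          map_one' := by rw [map_one, inv_one, mul_one, ev_one]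
          map_mul' := fun a b => by
            have hb := ih b
            have ha := ih a
            have hb' : a * (e b * b⁻¹) * a⁻¹ ∈ lc P (k + 1) := (inferInstance : (lc P (k + 1)).Normal).conj_mem _ hb a
            rw [map_mul, show e a * e b * (a * b)⁻¹ = e a * a⁻¹ * (a * (e b * b⁻¹) * a⁻¹) by group,
              ev_mul l ha hb', ev_conj hl hb] }
      obtain ⟨φ, hφ, hφl⟩ : ∃ φ : P → ℂ, Cfsg.IsIrrCharacter P φ ∧
          ∀ z ∈ lc P (k + 1), φ z = φ 1 * (ev l z : ℂ) := by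
        obtain ⟨φ, hφ, h⟩ := exists_scalar_over (lc P (k + 1)) (lam_conj hl)
        exact ⟨φ, hφ, fun z hz => by rw [h ⟨z, hz⟩, ev_mem l hz]⟩
      have hnl : deg φ ≠ 1 := by
        intro hd1
        have h1 : φ 1 = 1 := by rw [IsCharacter.apply_one_eq_deg (isCharacter_of_irr hφ), hd1, Nat.cast_one]
        obtain ⟨g, hg⟩ := exists_hom_of_deg_one (isCharacter_of_irr hφ) h1
        refine hne (MonoidHom.ext fun z => ?_)
        have hle1 : lc P 1 ≤ g.ker := Subgroup.commutator_le.2 fun a _ b _ => hom_comm g a b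
        have hle : lc P (k + 1) ≤ g.ker := (lc_anti (by omega)).trans hle1
        have h2 := hφl z z.2
        rw [h1, one_mul, ev_coe, congrFun hg (z : P), MonoidHom.mem_ker.1 (hle z.2)] at h2
        exact (Units.ext h2).symm
      obtain ⟨s, hs1, hs⟩ := S.stab hφ hnl
      have hfix : ∀ z ∈ lc P (k + 1), ev l (conjAct ι P s z) = ev l z := fun z hz => Units.ext (by
        have h1 := hs z
        rw [hφl z hz, hφl _ (map_mem_lc _ hz)] at h1
        exact mul_left_cancel₀ (IsIrrCharacter.apply_one_ne_zero hφ) h1)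
      have hβ := S.hom_trivial_of_one β hs1 fun z => by
        show ev l (e (conjAct ι P s z) * (conjAct ι P s z)⁻¹) = ev l (e z * z⁻¹)
        rw [hcomm, ← map_inv, ← map_mul, hfix _ (ih z)]
      exact DFunLike.congr_fun hβ y
  obtain ⟨n, hn⟩ := Subgroup.nilpotent_iff_lowerCentralSeries.1 (inferInstance : Group.IsNilpotent P)
  have h1 : e ⟨x, hx⟩ * (⟨x, hx⟩ : P)⁻¹ ∈ lc P n := lc_anti (Nat.le_succ n) (hstep n ⟨x, hx⟩)
  rw [show lc P n = ⊥ from hn, Subgroup.mem_bot] at h1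
  have h2 := congrArg Subtype.val (mul_inv_eq_one.1 h1)
  rw [hec] at h2
  exact mul_inv_eq_iff_eq_mul.1 h2

/-- The map into `Q` from the commutator part. -/
theorem pair_comm (a : P) (b : fixC Q ι) :
    Subgroup.inclusion S.le_Q a * Subgroup.inclusion inf_le_left b =
      Subgroup.inclusion inf_le_left b * Subgroup.inclusion S.le_Q a :=
  Subtype.ext (S.commute_fixC b.2 a.2).symm

theorem pair_surj (x : Q) : ∃ (a : P) (b : fixC Q ι),
    Subgroup.inclusion S.le_Q a * Subgroup.inclusion inf_le_left b = x := by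
  obtain ⟨p, hp, c, hc, h⟩ := S.decomp x.2
  exact ⟨⟨p, hp⟩, ⟨c, hc⟩, Subtype.ext h⟩

theorem fixSub_prod {χ : Q → ℂ} {φ : P → ℂ} {γ : fixC Q ι → ℂ} (hγ : Cfsg.IsIrrCharacter (fixC Q ι) γ)
    (h : ∀ a b, χ (Subgroup.inclusion S.le_Q a * Subgroup.inclusion inf_le_left b) = φ a * γ b) :
    fixSub (conjAct ι Q) χ = fixSub (conjAct ι P) φ := by
  have e : ∀ (s : F) (a : P) (b : fixC Q ι),
      conjAct ι Q s (Subgroup.inclusion S.le_Q a * Subgroup.inclusion inf_le_left b) =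
        Subgroup.inclusion S.le_Q (conjAct ι P s a) * Subgroup.inclusion inf_le_left b := fun s a b => Subtype.ext (by
    rw [conjAct_coe]
    show ι s * ((a : H) * b) * (ι s)⁻¹ = (conjAct ι P s a : P) * (b : H)
    rw [conjAct_coe, ← mul_assoc, mul_assoc (ι s * a), show (b : H) * (ι s)⁻¹ = (ι s)⁻¹ * b by
      rw [← map_inv]; exact (comm_of_mem_fixC b.2 s⁻¹).symm, ← mul_assoc])
  ext s
  constructor
  · intro hs a
    have h1 := hs (Subgroup.inclusion S.le_Q a * Subgroup.inclusion inf_le_left (1 : fixC Q ι))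
    rw [e, h, h] at h1
    exact mul_right_cancel₀ (IsIrrCharacter.apply_one_ne_zero hγ) h1
  · intro hs x
    obtain ⟨a, b, rfl⟩ := S.pair_surj x
    rw [e, h, h, hs a]

theorem exists_char {φ : P → ℂ} {γ : fixC Q ι → ℂ} (hφ : Cfsg.IsIrrCharacter P φ)
    (hγ : Cfsg.IsIrrCharacter (fixC Q ι) γ)
    (hker : ∀ (a : P) (b : fixC Q ι), (a : H) * b = 1 → φ a * γ b = φ 1 * γ 1) :
    ∃ χ : H → ℂ, Cfsg.IsIrrCharacter H χ ∧
      deg χ = (fixSub (conjAct ι P) φ).index * (deg φ * deg γ) := by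
  obtain ⟨χ', hχ', hv, hdeg⟩ := exists_prod_char _ _ S.pair_comm S.pair_surj hφ hγ
    (fun a b h => hker a b (congrArg Subtype.val h))
  obtain ⟨χ, hχ, h⟩ := S.hd.exists_deg hχ'
  exact ⟨χ, hχ, by rw [h, S.fixSub_prod hγ hv, hdeg]⟩

theorem exists_gamma {ψ : P → ℂ} (hψ : Cfsg.IsIrrCharacter P ψ) :
    ∃ γ : fixC Q ι → ℂ, Cfsg.IsIrrCharacter (fixC Q ι) γ ∧
      ∀ (a : P) (b : fixC Q ι), (a : H) * b = 1 → ψ a * γ b = ψ 1 * γ 1 := by
  classical
  obtain ⟨l, hl⟩ := exists_central_hom hψ ((fixC Q ι).subgroupOf P) fun z hz x => Subtype.ext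
    (S.commute_fixC hz x.2).symm
  let Z : Subgroup (fixC Q ι) := P.subgroupOf (fixC Q ι)
  let t : Z →* (fixC Q ι).subgroupOf P :=
    { toFun := fun z => ⟨⟨((z : fixC Q ι) : H), z.2⟩, (z : fixC Q ι).2⟩
      map_one' := rfl
      map_mul' := fun _ _ => rfl }
  obtain ⟨γ, hγ, hz⟩ := exists_scalar_over Z (l := l.comp t) fun g z => congrArg _ (Subtype.ext (Subtype.ext (by
    show (g : H) * ((z : fixC Q ι) : H) * (g : H)⁻¹ = ((z : fixC Q ι) : H)
    rw [S.commute_fixC g.2 (Subgroup.mem_subgroupOf.1 z.2), mul_inv_cancel_right])))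
  refine ⟨γ, hγ, fun a b hab => ?_⟩
  have hbP : (b : H) ∈ P := by rw [eq_inv_of_mul_eq_one_right hab]; exact inv_mem a.2
  have ha : (a : H) ∈ fixC Q ι := by rw [eq_inv_of_mul_eq_one_left hab]; exact inv_mem b.2
  have h1 : ψ a = ψ 1 * (l ⟨a, ha⟩ : ℂ) := hl ⟨a, ha⟩
  have h2 : γ b = γ 1 * (l (t ⟨b, hbP⟩) : ℂ) := hz ⟨b, hbP⟩
  have h3 : l ⟨a, ha⟩ * l (t ⟨b, hbP⟩) = 1 := by
    rw [← map_mul, ← map_one l]
    exact congrArg l (Subtype.ext (Subtype.ext hab))
  rw [h1, h2, show ψ 1 * (l ⟨a, ha⟩ : ℂ) * (γ 1 * (l (t ⟨b, hbP⟩) : ℂ)) =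
    ψ 1 * γ 1 * ((l ⟨a, ha⟩ * l (t ⟨b, hbP⟩) : ℂˣ) : ℂ) by rw [Units.val_mul]; ring, h3, Units.val_one, mul_one]

theorem deg_eq_of_mul_eq {φ ψ : P → ℂ} (hφ : Cfsg.IsIrrCharacter P φ) (hψ : Cfsg.IsIrrCharacter P ψ)
    {U V : Subgroup F} (h : U.index * deg φ = V.index * deg ψ) : U.index = V.index ∧ deg φ = deg ψ := by
  haveI := Fact.mk S.hd.hq
  obtain ⟨n, hn⟩ := IsPGroup.iff_card.1 S.qP
  obtain ⟨a, -, ha⟩ := (Nat.dvd_prime_pow S.hd.hq).1 (hn ▸ IsIrrCharacter.deg_dvd hφ)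
  obtain ⟨b, -, hb⟩ := (Nat.dvd_prime_pow S.hd.hq).1 (hn ▸ IsIrrCharacter.deg_dvd hψ)
  rw [ha, hb] at h ⊢
  have h1 : U.index = V.index := Nat.dvd_antisymm
    (Nat.Coprime.dvd_of_dvd_mul_right ((S.hd.cop.coprime_dvd_left U.index_dvd_card).pow_right b) ⟨_, h.symm⟩)
    (Nat.Coprime.dvd_of_dvd_mul_right ((S.hd.cop.coprime_dvd_left V.index_dvd_card).pow_right a) ⟨_, h⟩)
  rw [h1] at h
  exact ⟨h1, Nat.eq_of_mul_eq_mul_left (Nat.pos_of_ne_zero V.index_ne_zero_of_finite) h⟩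

theorem pdata : PData (conjAct ι P) q where
  hq := S.hd.hq
  pP := S.qP
  cop := S.hd.cop
  nontriv := S.exists_ne_one
  fpf := fun _ hs x hx => S.fpf hs x hx
  stab := fun _ hφ hd => S.stab hφ hd
  clean := by
    intro φ ψ hφ hψ hφd hψd htriv hdvd
    obtain ⟨χ₁, hχ₁, h₁⟩ := S.exists_char hφ (isIrrCharacter_one (G := fixC Q ι)) fun a b hab => by
      have ha : (a : H) ∈ fixC Q ι := by rw [eq_inv_of_mul_eq_one_left hab]; exact inv_mem b.2
      rw [htriv a fun s => S.fixed_of_mem_fixC ha s]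
    rw [show deg (fun _ : fixC Q ι => (1 : ℂ)) = 1 by simp [deg], mul_one] at h₁
    obtain ⟨γ, hγ, hker⟩ := S.exists_gamma hψ
    obtain ⟨χ₂, hχ₂, h₂⟩ := S.exists_char hψ hγ hker
    have hne : deg χ₁ ≠ 1 := by
      rw [h₁]; intro e
      exact hφd (Nat.eq_one_of_mul_eq_one_left e)
    have heq := S.hd.nd.eq_of_dvd hχ₁ hχ₂ hne (by
      rw [h₁, h₂, ← mul_assoc]; exact hdvd.mul_right _)
    rw [h₁, h₂] at heq
    refine S.deg_eq_of_mul_eq hφ hψ (Nat.dvd_antisymm hdvd ?_)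
    rw [← heq, ← mul_assoc]
    exact dvd_mul_right _ _
  fix2 := by
    intro φ ψ hφ hψ hφd hdd hagree htop
    obtain ⟨γ, hγ, hker⟩ := S.exists_gamma hφ
    obtain ⟨χ₁, hχ₁, h₁⟩ := S.exists_char hφ hγ hker
    obtain ⟨χ₂, hχ₂, h₂⟩ := S.exists_char hψ hγ fun a b hab => by
      have ha : (a : H) ∈ fixC Q ι := by rw [eq_inv_of_mul_eq_one_left hab]; exact inv_mem b.2
      have h := hagree a fun s => by rw [S.fixed_of_mem_fixC ha s, inv_mul_cancel]; exact one_mem _
      refine mul_left_cancel₀ (IsIrrCharacter.apply_one_ne_zero hφ) ?_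
      calc φ 1 * (ψ a * γ b) = ψ a * φ 1 * γ b := by ring
        _ = φ a * ψ 1 * γ b := by rw [h]
        _ = ψ 1 * (φ a * γ b) := by ring
        _ = φ 1 * (ψ 1 * γ 1) := by rw [hker a b hab]; ring
    rw [htop, Subgroup.index_top, one_mul] at h₁
    rw [hdd] at h₂
    have heq := S.hd.nd.eq_of_dvd hχ₁ hχ₂ (by
      rw [h₁]; intro e; exact hφd (Nat.eq_one_of_mul_eq_one_right e)) (by rw [h₁, h₂]; exact dvd_mul_left _ _)
    rw [h₁, h₂] at heq
    exact Subgroup.index_eq_one.1 (Nat.eq_of_mul_eq_mul_right (h₁ ▸ deg_pos hχ₁) (heq.trans (one_mul _).symm))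

/-- The commutator part is not abelian. -/
theorem lc_one_ne_bot : lc P 1 ≠ ⊥ := by
  intro hb
  have hzero : ∀ z : H, z ∈ P → z ∈ fixC Q ι → z = 1 := by
    intro z hzP hz
    obtain ⟨s, hs⟩ := S.exists_ne_one
    have h1 : (⟨z, hzP⟩ : P) ∈ lc P 1 := S.fpf hs ⟨z, hzP⟩ (by
      rw [S.fixed_of_mem_fixC (x := ⟨z, hzP⟩) hz s, inv_mul_cancel]; exact one_mem _)
    rw [hb, Subgroup.mem_bot] at h1
    exact congrArg Subtype.val h1
  obtain ⟨x, hx, y, hy, hne⟩ := S.nab
  obtain ⟨p, hp, c, hc, rfl⟩ := S.decomp hx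
  obtain ⟨p', hp', c', hc', rfl⟩ := S.decomp hy
  refine hne ?_
  have hpp : p * p' = p' * p := by
    have h1 : ⁅(⟨p, hp⟩ : P), ⟨p', hp'⟩⁆ ∈ lc P 1 := comm_mem_lc (i := 0) (j := 0) le_rfl (mem_lc_zero _) (mem_lc_zero _)
    rw [hb, Subgroup.mem_bot, commutatorElement_eq_one_iff_mul_comm] at h1
    exact congrArg Subtype.val h1
  have hcc : c * c' = c' * c := by
    rw [← commutatorElement_eq_one_iff_mul_comm]
    refine hzero _ (S.comm_le c hc.1 c' hc'.1) ?_
    rw [commutatorElement_def]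
    exact (fixC Q ι).mul_mem ((fixC Q ι).mul_mem ((fixC Q ι).mul_mem hc hc') ((fixC Q ι).inv_mem hc)) ((fixC Q ι).inv_mem hc')
  calc p * c * (p' * c') = p * (c * p') * c' := by group
    _ = p * (p' * c) * c' := by rw [S.commute_fixC hc hp']
    _ = (p * p') * (c * c') := by group
    _ = p' * p * (c' * c) := by rw [hpp, hcc]
    _ = p' * (p * c') * c := by group
    _ = p' * (c' * p) * c := by rw [S.commute_fixC hc' hp]
    _ = _ := by group

end PSet

end Cfsg.Lib.NDAD
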