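import Cfsg.Agent.Chars.NDAD.PMain
import Cfsg.Agent.Chars.NDAD.CentralProd
import Cfsg.Agent.Coprime.Action

/-!
# A `q`-group extended by a cyclic group of coprime order, without divisibility among the degrees
-/

set_option autoImplicit false
set_option linter.unusedSectionVars false
set_option linter.style.haveILetI false

namespace Cfsg.Lib.NDAD

open Cfsg.Lib.Chars
open scoped commutatorElement

universe u

variable {H : Type u} [Group H] [Finite H] {F : Type u} [CommGroup F] [Finite F]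

/-- The action by conjugation through a homomorphism. -/
def conjAct (ι : F →* H) (N : Subgroup H) [N.Normal] : F →* MulAut N :=
  (MulAut.conjNormal : H →* MulAut N).comp ι

theorem conjAct_coe (ι : F →* H) (N : Subgroup H) [N.Normal] (s : F) (x : N) :
    ((conjAct ι N s x : N) : H) = ι s * x * (ι s)⁻¹ := MulAut.conjNormal_apply _ _

theorem fixSub_conjAct (ι : F →* H) (N : Subgroup H) [N.Normal] (φ : N → ℂ) :
    fixSub (conjAct ι N) φ = (inertia N φ).comap ι := by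
  ext s
  rw [mem_fixSub, Subgroup.mem_comap, mem_inertia]
  constructor
  · intro hs
    funext x
    exact (congrArg φ (Subtype.ext (conjAct_coe ι N s x).symm)).trans (hs x)
  · intro hs x
    exact (congrArg φ (Subtype.ext (conjAct_coe ι N s x))).trans (congrFun hs x)

/-- The setting of the quotient of order a `q`-power times `f`. -/
structure HData (Q : Subgroup H) [Q.Normal] (ι : F →* H) (q f : ℕ) : Prop where
  nd : NDAD H
  pab : ∀ (p : ℕ) (K : Subgroup H) (_ : K.Normal), p.Prime → IsPGroup p (H ⧸ K) → commutator H ≤ K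
  hq : q.Prime
  one_lt : 1 < f
  qf : ¬ q ∣ f
  qQ : IsPGroup q Q
  cardF : Nat.card F = f
  cyc : IsCyclic F
  inj : Function.Injective ι
  inf : Q ⊓ ι.range = ⊥
  sup : Q ⊔ ι.range = ⊤
  moved : ∃ l : Q →* ℂˣ, inertia Q (fun x => (l x : ℂ)) = Q

namespace HData

variable {Q : Subgroup H} [Q.Normal] {ι : F →* H} {q f : ℕ} (hd : HData Q ι q f)
include hd

theorem comap_eq_bot : Q.comap ι = ⊥ := by
  rw [eq_bot_iff]
  intro s hs
  rw [Subgroup.mem_bot]
  refine hd.inj ?_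
  rw [map_one, ← Subgroup.mem_bot, ← hd.inf]
  exact ⟨hs, s, rfl⟩

theorem decomp (g : H) : ∃ u ∈ Q, ∃ s : F, u * ι s = g := by
  obtain ⟨u, hu, r, ⟨s, rfl⟩, h⟩ := Subgroup.mem_sup_of_normal_left.1 (hd.sup ▸ Subgroup.mem_top g)
  exact ⟨u, hu, s, h⟩

theorem index_of_le {X : Subgroup H} (hX : Q ≤ X) : X.index = (X.comap ι).index := by
  let π := QuotientGroup.mk' Q
  have hs : Function.Surjective (π.comp ι) := fun z => by
    obtain ⟨g, rfl⟩ := QuotientGroup.mk'_surjective Q z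
    obtain ⟨u, hu, s, rfl⟩ := hd.decomp g
    refine ⟨s, ?_⟩
    show π (ι s) = π (u * ι s)
    rw [map_mul, show π u = 1 from (QuotientGroup.eq_one_iff u).2 hu, one_mul]
  have hker : π.ker ≤ X := by rw [QuotientGroup.ker_mk']; exact hX
  rw [← Subgroup.index_map_eq X (QuotientGroup.mk'_surjective Q) hker,
    ← Subgroup.index_comap_of_surjective (X.map π) hs, ← Subgroup.comap_comap, Subgroup.comap_map_eq_self hker]

theorem index_Q : Q.index = f := by
  rw [hd.index_of_le le_rfl, hd.comap_eq_bot, Subgroup.index_bot, hd.cardF]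

theorem cyc_quot : IsCyclic (H ⧸ Q) := by
  haveI := hd.cyc
  refine isCyclic_of_surjective ((QuotientGroup.mk' Q).comp ι) fun z => ?_
  obtain ⟨g, rfl⟩ := QuotientGroup.mk'_surjective Q z
  obtain ⟨u, hu, s, rfl⟩ := hd.decomp g
  refine ⟨s, ?_⟩
  show QuotientGroup.mk' Q (ι s) = QuotientGroup.mk' Q (u * ι s)
  rw [map_mul, show QuotientGroup.mk' Q u = 1 from (QuotientGroup.eq_one_iff u).2 hu, one_mul]

theorem cop : (Nat.card F).Coprime q := by
  rw [hd.cardF]
  exact (hd.hq.coprime_iff_not_dvd.2 hd.qf).symm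

theorem inertia_index {φ : Q → ℂ} (hφ : Cfsg.IsIrrCharacter Q φ) :
    (inertia Q φ).index = (fixSub (conjAct ι Q) φ).index := by
  rw [fixSub_conjAct, hd.index_of_le (le_inertia (isClassFunction_isChar (isCharacter_of_irr hφ)))]

theorem deg_above {χ : H → ℂ} (hχ : Cfsg.IsIrrCharacter H χ) :
    ∃ φ : Q → ℂ, Cfsg.IsIrrCharacter Q φ ∧ deg χ = (fixSub (conjAct ι Q) φ).index * deg φ := by
  classical
  haveI := Fintype.ofFinite H
  haveI := Fintype.ofFinite Q
  obtain ⟨φ, hφ, hc⟩ := exists_constituent Q (isCharacter_of_irr hχ) (IsIrrCharacter.apply_one_ne_zero hχ)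
  exact ⟨φ, hφ, by rw [deg_eq_of_cyclic Q hd.cyc_quot hχ hφ hc, hd.inertia_index hφ]⟩

theorem exists_deg {φ : Q → ℂ} (hφ : Cfsg.IsIrrCharacter Q φ) :
    ∃ χ : H → ℂ, Cfsg.IsIrrCharacter H χ ∧ deg χ = (fixSub (conjAct ι Q) φ).index * deg φ := by
  classical
  haveI := Fintype.ofFinite H
  haveI := Fintype.ofFinite Q
  obtain ⟨χ, hχ, hc⟩ := exists_over Q hφ
  exact ⟨χ, hχ, by rw [deg_eq_of_cyclic Q hd.cyc_quot hχ hφ hc, hd.inertia_index hφ]⟩

theorem exists_f : ∃ χ : H → ℂ, Cfsg.IsIrrCharacter H χ ∧ deg χ = f := by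
  obtain ⟨l, hl⟩ := hd.moved
  obtain ⟨χ, hχ, h⟩ := hd.exists_deg (isIrrCharacter_linear l)
  refine ⟨χ, hχ, ?_⟩
  rw [h, fixSub_conjAct, hl, hd.comap_eq_bot, Subgroup.index_bot, hd.cardF]
  simp [deg]

/-- A degree which is a multiple of `f`. -/
theorem eq_f {χ : H → ℂ} (hχ : Cfsg.IsIrrCharacter H χ) (hdvd : f ∣ deg χ) : deg χ = f := by
  obtain ⟨χ₀, hχ₀, h⟩ := hd.exists_f
  rw [← h] at hdvd ⊢
  exact hd.nd.eq_of_dvd hχ₀ hχ (by rw [h]; exact hd.one_lt.ne') hdvd

/-- A linear character is fixed or regular. -/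
theorem linear_stab (l : Q →* ℂˣ) :
    fixSub (conjAct ι Q) (fun x => (l x : ℂ)) = ⊤ ∨ fixSub (conjAct ι Q) (fun x => (l x : ℂ)) = ⊥ := by
  obtain ⟨χ, hχ, h⟩ := hd.exists_deg (isIrrCharacter_linear l)
  rw [show deg (fun x : Q => (l x : ℂ)) = 1 by simp [deg], mul_one] at h
  set S := fixSub (conjAct ι Q) fun x => (l x : ℂ)
  by_cases h1 : deg χ = 1
  · exact Or.inl (Subgroup.index_eq_one.1 (h ▸ h1))
  right
  obtain ⟨χ₀, hχ₀, h₀⟩ := hd.exists_f
  have h2 := hd.nd.eq_of_dvd hχ hχ₀ h1 (by rw [h, h₀, ← hd.cardF]; exact S.index_dvd_card)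
  rw [h₀, h] at h2
  have h3 := S.card_mul_index
  rw [← h2, hd.cardF] at h3
  exact Subgroup.card_eq_one.1 (Nat.eq_of_mul_eq_mul_right (show 0 < f from lt_trans one_pos hd.one_lt)
    (h3.trans (one_mul f).symm))

theorem nonlinear_stab {φ : Q → ℂ} (hφ : Cfsg.IsIrrCharacter Q φ) (h1 : deg φ ≠ 1) :
    fixSub (conjAct ι Q) φ ≠ ⊥ := by
  intro hb
  obtain ⟨χ, hχ, h⟩ := hd.exists_deg hφ
  rw [hb, Subgroup.index_bot, hd.cardF] at h
  have h2 := hd.eq_f hχ ⟨_, h⟩
  rw [h] at h2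
  exact h1 (Nat.eq_of_mul_eq_mul_left (show 0 < f from lt_trans one_pos hd.one_lt) (h2.trans (mul_one f).symm))

end HData

/-- The fixed points of the complement. -/
abbrev fixC (Q : Subgroup H) (ι : F →* H) : Subgroup H := Q ⊓ Subgroup.centralizer (ι.range : Set H)

theorem comm_of_mem_fixC {Q : Subgroup H} {ι : F →* H} {c : H} (hc : c ∈ fixC Q ι) (s : F) :
    ι s * c = c * ι s := Subgroup.mem_centralizer_iff.1 hc.2 (ι s) ⟨s, rfl⟩

/-- The setting with the commutator subgroup of the complement. -/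
structure PSet (Q : Subgroup H) [Q.Normal] (ι : F →* H) (q f : ℕ) (P : Subgroup H) : Prop where
  hd : HData Q ι q f
  eqP : P = ⁅Q, ι.range⁆
  nab : ∃ x ∈ Q, ∃ y ∈ Q, x * y ≠ y * x

namespace PSet

variable {Q : Subgroup H} [Q.Normal] {ι : F →* H} {q f : ℕ} {P : Subgroup H}

theorem normal_commutator (hd : HData Q ι q f) : (⁅Q, ι.range⁆ : Subgroup H).Normal := by
  rw [← Subgroup.normalizer_eq_top_iff, eq_top_iff, ← hd.sup]
  exact sup_le (Cfsg.Lib.Coprime.le_normalizer_commutator_left _ _)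
    (Cfsg.Lib.Coprime.le_normalizer_commutator_right _ _)

variable [P.Normal] (S : PSet Q ι q f P)
include S

theorem le_Q : P ≤ Q := by
  rw [S.eqP]; exact Subgroup.commutator_le_left _ _

theorem cop_sub : (Nat.card ι.range).Coprime (Nat.card Q) := by
  haveI := Fact.mk S.hd.hq
  obtain ⟨n, hn⟩ := IsPGroup.iff_card.1 S.hd.qQ
  rw [hn]
  exact (S.hd.cop.coprime_dvd_left (Subgroup.card_range_dvd ι)).pow_right n

theorem sol : Group.IsSolvable Q := by
  haveI := Fact.mk S.hd.hq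
  haveI : Group.IsNilpotent Q := S.hd.qQ.isNilpotent
  infer_instance

theorem range_le_normalizer : ι.range ≤ Subgroup.normalizer (Q : Set H) := by
  rw [Subgroup.normalizer_eq_top_iff.2 inferInstance]; exact le_top

theorem sup_fixC : P ⊔ fixC Q ι = Q := by
  rw [S.eqP]
  exact Cfsg.Lib.Coprime.commutator_sup_centralizer S.range_le_normalizer S.cop_sub (Or.inr S.sol)

theorem decomp {x : H} (hx : x ∈ Q) : ∃ p ∈ P, ∃ c ∈ fixC Q ι, p * c = x :=
  Subgroup.mem_sup_of_normal_left.1 (by rw [S.sup_fixC]; exact hx)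

theorem comm_le : ∀ a ∈ Q, ∀ b ∈ Q, ⁅a, b⁆ ∈ P := by
  have hd := S.hd
  let K := P ⊔ ι.range
  haveI hK : K.Normal := ⟨fun k hk g => by
    obtain ⟨p, hp, _, ⟨t, rfl⟩, rfl⟩ := Subgroup.mem_sup_of_normal_left.1 hk
    obtain ⟨u, hu, s, rfl⟩ := hd.decomp g
    have e1 : ι s * ι t = ι t * ι s := by rw [← map_mul, mul_comm, map_mul]
    rw [show u * ι s * (p * ι t) * (u * ι s)⁻¹ = (u * ι s * p * (u * ι s)⁻¹) * (u * (ι s * ι t * (ι s)⁻¹) * u⁻¹) by group,
      e1, mul_inv_cancel_right, show u * ι t * u⁻¹ = ⁅u, ι t⁆ * ι t by rw [commutatorElement_def, inv_mul_cancel_right]]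
    refine mul_mem (Subgroup.mem_sup_left ((inferInstance : P.Normal).conj_mem p hp _))
      (mul_mem (Subgroup.mem_sup_left ?_) (Subgroup.mem_sup_right ⟨t, rfl⟩))
    rw [S.eqP]
    exact Subgroup.commutator_mem_commutator hu ⟨t, rfl⟩⟩
  have hsurj : Function.Surjective ((QuotientGroup.mk' K).comp Q.subtype) := fun z => by
    obtain ⟨g, rfl⟩ := QuotientGroup.mk'_surjective K z
    obtain ⟨u, hu, s, rfl⟩ := hd.decomp g
    refine ⟨⟨u, hu⟩, ?_⟩
    show QuotientGroup.mk' K u = QuotientGroup.mk' K (u * ι s)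
    rw [map_mul, show QuotientGroup.mk' K (ι s) = 1 from
      (QuotientGroup.eq_one_iff _).2 (Subgroup.mem_sup_right ⟨s, rfl⟩), mul_one]
  have hle := hd.pab q K hK hd.hq (hd.qQ.of_surjective _ hsurj)
  intro a ha b hb
  obtain ⟨p, hp, _, ⟨t, rfl⟩, he⟩ := Subgroup.mem_sup_of_normal_left.1
    (hle (Subgroup.commutator_mem_commutator (Subgroup.mem_top a) (Subgroup.mem_top b)))
  have h1 : ι t ∈ Q ⊓ ι.range := ⟨by
    have h2 : p⁻¹ * ⁅a, b⁆ ∈ Q := mul_mem (inv_mem (S.le_Q hp))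
      (by rw [commutatorElement_def]; exact mul_mem (mul_mem (mul_mem ha hb) (inv_mem ha)) (inv_mem hb))
    rwa [← he, inv_mul_cancel_left] at h2, t, rfl⟩
  rw [hd.inf, Subgroup.mem_bot] at h1
  rwa [← he, h1, mul_one]

theorem mem_fixC_of_fixed {x : P} (hx : ∀ s, conjAct ι P s x = x) : (x : H) ∈ fixC Q ι := by
  refine ⟨S.le_Q x.2, Subgroup.mem_centralizer_iff.2 ?_⟩
  rintro _ ⟨s, rfl⟩
  have h1 := congrArg Subtype.val (hx s)
  rw [conjAct_coe] at h1
  exact mul_inv_eq_iff_eq_mul.1 h1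

theorem fixed_of_mem_fixC {x : P} (hx : (x : H) ∈ fixC Q ι) (s : F) : conjAct ι P s x = x :=
  Subtype.ext (by rw [conjAct_coe, comm_of_mem_fixC hx, mul_inv_cancel_right])

/-- A homomorphism fixed by the complement is trivial. -/
theorem hom_fixed_trivial (β : P →* ℂˣ) (hβ : ∀ s x, β (conjAct ι P s x) = β x) : β = 1 := by
  have hle : P ≤ β.ker.map P.subtype := by
    have h1 := Cfsg.Lib.Coprime.commutator_commutator_eq S.range_le_normalizer S.cop_sub (Or.inr S.sol)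
    rw [← S.eqP] at h1
    refine le_trans (le_of_eq h1.symm) (Subgroup.commutator_le.2 ?_)
    rintro p hp _ ⟨s, rfl⟩
    refine ⟨⟨p, hp⟩ * conjAct ι P s ⟨p, hp⟩⁻¹, ?_, ?_⟩
    · rw [SetLike.mem_coe, MonoidHom.mem_ker, map_mul, hβ, map_inv, mul_inv_cancel]
    · rw [Subgroup.coe_subtype, Subgroup.coe_mul, conjAct_coe, Subgroup.coe_inv, commutatorElement_def]
      group
  ext x
  obtain ⟨y, hy, hxy⟩ := hle x.2
  rw [show x = y from (Subtype.ext hxy).symm, MonoidHom.one_apply, MonoidHom.mem_ker.1 hy]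

theorem eq_top_of_stab {φ : P → ℂ} (hφ : Cfsg.IsIrrCharacter P φ) (hno : fixSub (conjAct ι P) φ = ⊥) :
    deg φ = 1 ∧ Q ≤ inertia P φ := by
  classical
  haveI := Fintype.ofFinite H
  set X := inertia P φ with hXdef
  have hPX : P ≤ X := le_inertia (isClassFunction_isChar (isCharacter_of_irr hφ))
  rw [fixSub_conjAct, ← hXdef] at hno
  have hXQ : X ≤ Q := by
    intro x hx
    obtain ⟨u, hu, s, rfl⟩ := S.hd.decomp x
    obtain ⟨p, hp, c, hc, rfl⟩ := S.decomp hu
    let π := QuotientGroup.mk' P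
    set n := Nat.card Q
    have hπ : π ((p * c * ι s) ^ n) = π (ι s ^ n) := by
      rw [map_pow, map_mul, map_mul, show π p = 1 from (QuotientGroup.eq_one_iff p).2 hp, one_mul, ← map_mul,
        ← map_pow, (show Commute c (ι s) from (comm_of_mem_fixC hc s).symm).mul_pow,
        show c ^ n = 1 from congrArg Subtype.val (pow_card_eq_one' (x := (⟨c, hc.1⟩ : Q))), one_mul]
    have hs : s ^ n ∈ X.comap ι := by
      rw [Subgroup.mem_comap, map_pow]
      have h1 := QuotientGroup.eq.1 hπ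
      have h2 := mul_mem (pow_mem hx n) (hPX h1)
      rwa [mul_inv_cancel_left] at h2
    rw [hno, Subgroup.mem_bot] at hs
    have hcop : n.Coprime (Nat.card F) := by
      haveI := Fact.mk S.hd.hq
      obtain ⟨k, hk⟩ := IsPGroup.iff_card.1 S.hd.qQ
      show (Nat.card Q).Coprime _
      rw [hk]
      exact (S.hd.cop.symm).pow_left k
    rw [eq_one_of_pow_pow hcop hs pow_card_eq_one', map_one, mul_one]
    exact mul_mem (S.le_Q hp) hc.1
  obtain ⟨χ, hχ, hdvd⟩ := exists_over_deg P hφ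
  have hf : f ∣ X.index := S.hd.index_Q ▸ Subgroup.index_dvd_of_le hXQ
  have h1 := S.hd.eq_f hχ ((hf.mul_right _).trans hdvd)
  rw [h1] at hdvd
  have h2 : f * deg φ ∣ f * 1 := by
    rw [mul_one]; exact (mul_dvd_mul_right hf _).trans hdvd
  have hd1 : deg φ = 1 := Nat.dvd_one.1 (Nat.dvd_of_mul_dvd_mul_left (lt_trans one_pos S.hd.one_lt) h2)
  refine ⟨hd1, ?_⟩
  rw [hd1, mul_one] at hdvd
  have hidx : X.index = f := Nat.dvd_antisymm hdvd hf
  have heq : X = Q := Subgroup.eq_of_le_of_card_ge hXQ (le_of_eq (Nat.eq_of_mul_eq_mul_right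
    (lt_trans one_pos S.hd.one_lt) (show Nat.card Q * f = Nat.card X * f by
      rw [← hidx, X.card_mul_index, hidx, ← S.hd.index_Q, Q.card_mul_index])))
  exact heq.ge

end PSet

end Cfsg.Lib.NDAD
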