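import Cfsg.Agent.Chars.NDAD.HAction

/-!
# The quotient of order a `q`-power times `f`: degrees, abelian subgroups and the derived series
-/

set_option autoImplicit false
set_option linter.unusedSectionVars false
set_option linter.style.haveILetI false

namespace Cfsg.Lib.NDAD

open Cfsg.Lib.Chars
open scoped commutatorElement

universe u

variable {H : Type u} [Group H] [Finite H] {F : Type u} [CommGroup F] [Finite F]

/-- What is used about the quotient. -/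
structure HConcl (Q : Subgroup H) (ι : F →* H) (q f : ℕ) (P : Subgroup H) : Prop where
  degs : (∃ m : ℕ, ∀ χ : H → ℂ, Cfsg.IsIrrCharacter H χ → deg χ = 1 ∨ deg χ = f ∨ deg χ = m) ∨
    ∃ d₂ d₃ : ℕ, (∀ χ : H → ℂ, Cfsg.IsIrrCharacter H χ → deg χ = 1 ∨ deg χ = f ∨ deg χ = d₂ ∨ deg χ = d₃) ∧
      q ∣ d₂ ∧ (∃ r : ℕ, r.Prime ∧ r ∣ f ∧ r ∣ d₂) ∧ ∀ r : ℕ, r.Prime → r ∣ d₃ → r ∣ f ∨ r = q
  bad : ∀ A : Subgroup H, A ≤ Q → (∀ a ∈ A, ∀ b ∈ A, a * b = b * a) → ∀ T : Subgroup F, T ≠ ⊥ →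
    (∀ a ∈ A, ∀ s ∈ T, ι s * a = a * ι s) →
    (∃ χ : H → ℂ, Cfsg.IsIrrCharacter H χ ∧ 1 < deg χ ∧ deg χ ∣ A.relIndex Q * T.index ∧
      deg χ < A.relIndex Q * T.index) ∨
    (A ⊓ P = ⊥ ∧ ∃ x ∈ P, ∃ y ∈ P, x ^ q = 1 ∧ y ^ q = 1 ∧ Commute x y ∧ y ≠ 1 ∧ x ∉ Subgroup.zpowers y)
  derived : ∃ L : Subgroup H, L ≤ Q ∧ (∀ a ∈ L, ∀ b ∈ L, a * b = b * a) ∧ derivedSeries H 2 ≤ L

theorem commute_sup {A B : Subgroup H} (hA : ∀ a ∈ A, ∀ b ∈ A, a * b = b * a) (hB : ∀ a ∈ B, ∀ b ∈ B, a * b = b * a)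
    (hAB : ∀ a ∈ A, ∀ b ∈ B, a * b = b * a) : ∀ a ∈ A ⊔ B, ∀ b ∈ A ⊔ B, a * b = b * a := by
  have key : ∀ {X Y : Subgroup H}, (∀ x ∈ X, ∀ y ∈ Y, x * y = y * x) → X ≤ Subgroup.centralizer (Y : Set H) :=
    fun h x hx => Subgroup.mem_centralizer_iff.2 fun y hy => (h x hx y hy).symm
  have h1 : A ⊔ B ≤ Subgroup.centralizer (A : Set H) :=
    sup_le (key hA) (key fun b hb a ha => (hAB a ha b hb).symm)
  have h2 : A ⊔ B ≤ Subgroup.centralizer (B : Set H) := sup_le (key hAB) (key hB)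
  have h3 : A ⊔ B ≤ Subgroup.centralizer ((A ⊔ B : Subgroup H) : Set H) :=
    sup_le (Subgroup.le_centralizer_iff.1 h1) (Subgroup.le_centralizer_iff.1 h2)
  exact fun a ha b hb => (Subgroup.mem_centralizer_iff.1 (h3 ha) b hb).symm

theorem relIndex_pos (A B : Subgroup H) : 0 < A.relIndex B :=
  Nat.pos_of_ne_zero (A.subgroupOf B).index_ne_zero_of_finite

variable {Q : Subgroup H} [Q.Normal] {ι : F →* H} {q f : ℕ} {P : Subgroup H} [P.Normal]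

namespace PSet

variable (S : PSet Q ι q f P)
include S

theorem mem_lc_one_of_fixed {x : P} {s : F} (hs : s ≠ 1) (hx : conjAct ι P s x = x) : x ∈ lc P 1 :=
  S.fpf hs x (by rw [hx, inv_mul_cancel]; exact one_mem _)

theorem comm_le_lc_one {a b : H} (ha : a ∈ Q) (hb : b ∈ Q) : ⁅a, b⁆ ∈ (lc P 1).map P.subtype := by
  obtain ⟨p, hp, c, hc, rfl⟩ := S.decomp ha
  obtain ⟨p', hp', c', hc', rfl⟩ := S.decomp hb
  have h1 : (⁅(⟨p, hp⟩ : P), ⟨p', hp'⟩⁆ : P) ∈ lc P 1 :=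
    comm_mem_lc (i := 0) (j := 0) le_rfl (mem_lc_zero _) (mem_lc_zero _)
  have hcP := S.comm_le c hc.1 c' hc'.1
  have h2 : (⟨⁅c, c'⁆, hcP⟩ : P) ∈ lc P 1 := by
    obtain ⟨s, hs⟩ := S.exists_ne_one
    refine S.mem_lc_one_of_fixed hs (S.fixed_of_mem_fixC ?_ s)
    show ⁅c, c'⁆ ∈ fixC Q ι
    rw [commutatorElement_def]
    exact (fixC Q ι).mul_mem ((fixC Q ι).mul_mem ((fixC Q ι).mul_mem hc hc') ((fixC Q ι).inv_mem hc)) ((fixC Q ι).inv_mem hc')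
  refine ⟨⁅(⟨p, hp⟩ : P), ⟨p', hp'⟩⁆ * ⟨⁅c, c'⁆, hcP⟩, mul_mem h1 h2, ?_⟩
  show ⁅p, p'⁆ * ⁅c, c'⁆ = ⁅p * c, p' * c'⁆
  have e1 : c * p' = p' * c := S.commute_fixC hc hp'
  have e2 : c * p⁻¹ = p⁻¹ * c := S.commute_fixC hc (inv_mem hp)
  have e3 : c' * p⁻¹ = p⁻¹ * c' := S.commute_fixC hc' (inv_mem hp)
  have e4 : c' * p'⁻¹ = p'⁻¹ * c' := S.commute_fixC hc' (inv_mem hp')
  have e5 : c * p'⁻¹ = p'⁻¹ * c := S.commute_fixC hc (inv_mem hp')
  have e6 : c⁻¹ * p⁻¹ = p⁻¹ * c⁻¹ := S.commute_fixC ((fixC Q ι).inv_mem hc) (inv_mem hp)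
  have e7 : c⁻¹ * p'⁻¹ = p'⁻¹ * c⁻¹ := S.commute_fixC ((fixC Q ι).inv_mem hc) (inv_mem hp')
  have e8 : c'⁻¹ * p'⁻¹ = p'⁻¹ * c'⁻¹ := S.commute_fixC ((fixC Q ι).inv_mem hc') (inv_mem hp')
  rw [commutatorElement_def, commutatorElement_def, commutatorElement_def, mul_inv_rev, mul_inv_rev]
  calc p * p' * p⁻¹ * p'⁻¹ * (c * c' * c⁻¹ * c'⁻¹)
      = p * p' * p⁻¹ * (p'⁻¹ * c) * c' * c⁻¹ * c'⁻¹ := by group
    _ = p * p' * (p⁻¹ * c) * (p'⁻¹ * c') * c⁻¹ * c'⁻¹ := by rw [← e5]; group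
    _ = p * (p' * c) * (p⁻¹ * c') * (p'⁻¹ * c⁻¹) * c'⁻¹ := by rw [← e2, ← e4]; group
    _ = p * c * p' * c' * p⁻¹ * c⁻¹ * (p'⁻¹ * c'⁻¹) := by rw [← e1, ← e3, ← e7]; group
    _ = p * c * p' * c' * (p⁻¹ * c⁻¹) * (c'⁻¹ * p'⁻¹) := by rw [← e8]; group
    _ = p * c * (p' * c') * (c⁻¹ * p⁻¹) * (c'⁻¹ * p'⁻¹) := by rw [← e6]; group

theorem derived_of (hab : lc P 3 = ⊥) :
    ∃ L : Subgroup H, L ≤ Q ∧ (∀ a ∈ L, ∀ b ∈ L, a * b = b * a) ∧ derivedSeries H 2 ≤ L := by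
  refine ⟨(lc P 1).map P.subtype, ?_, ?_, ?_⟩
  · rintro _ ⟨x, -, rfl⟩
    exact S.le_Q x.2
  · rintro _ ⟨x, hx, rfl⟩ _ ⟨y, hy, rfl⟩
    show (x : H) * y = y * x
    rw [← Subgroup.coe_mul, ← Subgroup.coe_mul]
    refine congrArg _ ?_
    rw [← commutatorElement_eq_one_iff_mul_comm, ← Subgroup.mem_bot, ← hab]
    exact comm_mem_lc (i := 1) (j := 1) le_rfl hx hy
  · have hQ : derivedSeries H 1 ≤ Q := by
      rw [derivedSeries_one]
      refine Subgroup.commutator_le.2 fun a _ b _ => ?_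
      haveI := S.hd.cyc_quot
      letI := IsCyclic.commGroup (α := H ⧸ Q)
      rw [← QuotientGroup.eq_one_iff, ← QuotientGroup.mk'_apply, map_commutatorElement,
        commutatorElement_eq_one_iff_mul_comm]
      exact mul_comm _ _
    rw [derivedSeries_succ]
    exact Subgroup.commutator_le.2 fun a ha b hb => S.comm_le_lc_one (hQ ha) (hQ hb)

theorem deg_pow {K : Subgroup H} (hK : K ≤ Q) {φ : K → ℂ} (hφ : Cfsg.IsIrrCharacter K φ) :
    ∃ a, deg φ = q ^ a := by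
  haveI := Fact.mk S.hd.hq
  obtain ⟨n, hn⟩ := IsPGroup.iff_card.1 (S.hd.qQ.to_le hK)
  obtain ⟨a, -, ha⟩ := (Nat.dvd_prime_pow S.hd.hq).1 (hn ▸ IsIrrCharacter.deg_dvd hφ)
  exact ⟨a, ha⟩

theorem deg_cases {χ : H → ℂ} (hχ : Cfsg.IsIrrCharacter H χ) :
    deg χ = 1 ∨ deg χ = f ∨ ∃ (φ : P → ℂ) (γ : fixC Q ι → ℂ), Cfsg.IsIrrCharacter P φ ∧
      Cfsg.IsIrrCharacter (fixC Q ι) γ ∧ deg φ ≠ 1 ∧ deg χ = (fixSub (conjAct ι P) φ).index * (deg φ * deg γ) := by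
  obtain ⟨χ', hχ', hd⟩ := S.hd.deg_above hχ
  obtain ⟨φ, γ, hφ, hγ, hv, hdeg⟩ := exists_factor_prod _ _ S.pair_comm S.pair_surj hχ'
  rw [S.fixSub_prod hγ hv, hdeg] at hd
  by_cases hlin : deg φ = 1
  swap
  · exact Or.inr (Or.inr ⟨φ, γ, hφ, hγ, hlin, hd⟩)
  obtain ⟨μ, rfl⟩ := exists_hom_of_deg_one (isCharacter_of_irr hφ)
    (by rw [IsCharacter.apply_one_eq_deg (isCharacter_of_irr hφ), hlin, Nat.cast_one])
  by_cases hμ : μ = 1
  · left
    subst hμ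
    have hγ1 : deg γ = 1 := by
      haveI : (kerSubgroup γ (isCharacter_of_irr hγ)).Normal := kerSubgroup_normal _
      have hker : ∀ b : fixC Q ι, (b : H) ∈ P → γ b = γ 1 := fun b hb => by
        have h1 := hv ⟨(b : H)⁻¹, inv_mem hb⟩ b
        have h2 := hv 1 1
        rw [map_one, map_one, mul_one] at h2
        rw [show Subgroup.inclusion S.le_Q ⟨(b : H)⁻¹, inv_mem hb⟩ * Subgroup.inclusion inf_le_left b = 1 from
          Subtype.ext (inv_mul_cancel (b : H)), h2] at h1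
        simpa using h1.symm
      have h1 := deg_sq_mul_card_le hγ ⊤ fun g _ =>
        conj_mul_self hγ (K := kerSubgroup γ (isCharacter_of_irr hγ)) (fun k hk => hk)
          (mem_centralMod.2 fun y => hker ⁅g, y⁆ (S.comm_le g g.2.1 y y.2.1))
      rw [Subgroup.card_top] at h1
      have h2 : deg γ ^ 2 ≤ 1 := Nat.le_of_mul_le_mul_right (h1.trans (one_mul _).ge) Nat.card_pos
      have h3 := deg_pos hγ
      nlinarith
    have htop : fixSub (conjAct ι P) (fun g => (((1 : P →* ℂˣ) g : ℂˣ) : ℂ)) = ⊤ :=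
      eq_top_iff.2 fun s _ x => rfl
    rw [hd, hlin, hγ1, htop, Subgroup.index_top]
  · right; left
    have hbot : fixSub (conjAct ι P) (fun g => (μ g : ℂ)) = ⊥ := by
      rw [eq_bot_iff]
      intro s hs
      rw [Subgroup.mem_bot]
      by_contra hs1
      exact hμ (S.hom_trivial_of_one μ hs1 fun x => Units.ext (hs x))
    rw [hbot, Subgroup.index_bot, S.hd.cardF] at hd
    exact S.hd.eq_f hχ ⟨_, hd⟩

theorem caseI (hI : FixedCase (conjAct ι P)) : HConcl Q ι q f P := by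
  have hq := S.hd.hq
  obtain ⟨l, hl, hne⟩ := S.pdata.exists_lam_ne_one S.lc_one_ne_bot
  obtain ⟨φ₀, hφ₀, -, hφ₀d, -, -, -⟩ := S.pdata.over_one hl hne
  obtain ⟨γ₀, hγ₀, hker⟩ := S.exists_gamma hφ₀
  obtain ⟨χ', hχ', hv, hdeg'⟩ := exists_prod_char _ _ S.pair_comm S.pair_surj hφ₀ hγ₀
    (fun a b h => hker a b (congrArg Subtype.val h))
  obtain ⟨χ₀, hχ₀, hd₀⟩ := S.hd.exists_deg hχ'
  rw [S.fixSub_prod hγ₀ hv, (hI.degs φ₀ hφ₀ hφ₀d).2, Subgroup.index_top, one_mul] at hd₀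
  obtain ⟨m, hm⟩ := S.deg_pow le_rfl hχ'
  have hne₀ : deg χ₀ ≠ 1 := by
    rw [hd₀, hdeg']; intro e; exact hφ₀d (Nat.eq_one_of_mul_eq_one_right e)
  refine ⟨Or.inl ⟨deg χ₀, fun χ hχ => ?_⟩, fun A hA hab T hT hcent => Or.inl ?_, ?_⟩
  · rcases S.deg_cases hχ with h | h | ⟨φ, γ, hφ, hγ, hd1, h⟩
    · exact Or.inl h
    · exact Or.inr (Or.inl h)
    · refine Or.inr (Or.inr ?_)
      rw [(hI.degs φ hφ hd1).2, Subgroup.index_top, one_mul] at h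
      obtain ⟨a, ha⟩ := S.deg_pow S.le_Q hφ
      obtain ⟨b, hb⟩ := S.deg_pow inf_le_left hγ
      rw [ha, hb, ← pow_add] at h
      have hne1 : deg χ ≠ 1 := by
        rw [h]; intro e
        rw [pow_add] at e
        exact hd1 (ha.trans (Nat.eq_one_of_mul_eq_one_right e))
      rcases le_total (a + b) m with hle | hle
      · exact (S.hd.nd.eq_of_dvd hχ hχ₀ hne1 (by rw [h, hd₀, hm]; exact pow_dvd_pow q hle)).symm
      · exact S.hd.nd.eq_of_dvd hχ₀ hχ hne₀ (by rw [h, hd₀, hm]; exact pow_dvd_pow q hle)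
  · obtain ⟨s, hs, hs1⟩ := (Subgroup.bot_or_exists_ne_one T).resolve_left hT
    have hAC : A ≤ fixC Q ι := fun a ha => by
      obtain ⟨p, hp, c, hc, rfl⟩ := S.decomp (hA ha)
      have h1 := hcent _ ha s hs
      have hfx : conjAct ι P s ⟨p, hp⟩ = ⟨p, hp⟩ := Subtype.ext (by
        rw [conjAct_coe, mul_inv_eq_iff_eq_mul]
        refine mul_right_cancel (b := c) ?_
        show ι s * p * c = p * ι s * c
        rw [mul_assoc, mul_assoc p, comm_of_mem_fixC hc, h1, mul_assoc])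
      have hp1 := S.mem_lc_one_of_fixed hs1 hfx
      exact (fixC Q ι).mul_mem (S.mem_fixC_of_fixed fun t => hI.fixed _ hp1 t) hc
    obtain ⟨x, hx⟩ : ∃ x : P, x ∉ lc P 1 := by
      by_contra hc
      push Not at hc
      exact S.lc_one_ne_bot (le_bot_iff.1 ((lc_anti (Nat.zero_le 1)).trans
        (S.pdata.lc_eq_bot_of_stable (k := 0) fun a _ => hc a).le))
    have hxA : (x : H) ∉ A := fun h => by
      obtain ⟨s, hs⟩ := S.exists_ne_one
      exact hx (S.mem_lc_one_of_fixed hs (S.fixed_of_mem_fixC (hAC h) s))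
    set A' := A ⊔ Subgroup.zpowers (x : H) with hA'def
    have hA'Q : A' ≤ Q := sup_le hA (Subgroup.zpowers_le.2 (S.le_Q x.2))
    have hA'ab := commute_sup hab (B := Subgroup.zpowers (x : H))
      (fun a ha b hb => by
        obtain ⟨i, rfl⟩ := ha; obtain ⟨j, rfl⟩ := hb
        exact (Commute.refl (x : H)).zpow_zpow i j)
      (fun a ha b hb => S.commute_fixC (hAC ha) (Subgroup.zpowers_le.2 x.2 hb))
    have hle : deg χ' ≤ A'.relIndex Q :=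
      deg_le_index_of_abelian hχ' (A'.subgroupOf Q) fun a ha b hb => Subtype.ext (hA'ab a ha b hb)
    have hlt : A'.relIndex Q < A.relIndex Q := by
      rw [← Subgroup.relIndex_mul_relIndex A A' Q le_sup_left hA'Q]
      refine lt_mul_of_one_lt_left (relIndex_pos _ _) ?_
      refine lt_of_le_of_ne (relIndex_pos _ _) fun e => hxA ?_
      exact Subgroup.relIndex_eq_one.1 e.symm (Subgroup.mem_sup_right (Subgroup.mem_zpowers _))
    have hk : deg χ₀ < A.relIndex Q := hd₀ ▸ hle.trans_lt hlt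
    refine ⟨χ₀, hχ₀, lt_of_le_of_ne (deg_pos hχ₀) (Ne.symm hne₀), Dvd.dvd.mul_right ?_ _,
      lt_of_lt_of_le hk (Nat.le_mul_of_pos_right _ (Nat.pos_of_ne_zero T.index_ne_zero_of_finite))⟩
    haveI := Fact.mk hq
    obtain ⟨n, hn⟩ := IsPGroup.iff_card.1 S.hd.qQ
    obtain ⟨j, -, hj⟩ := (Nat.dvd_prime_pow hq).1 (hn ▸ (A.subgroupOf Q).index_dvd_card)
    rw [hd₀, hm] at hk ⊢
    change A.relIndex Q = q ^ j at hj
    rw [hj] at hk ⊢
    exact pow_dvd_pow q ((Nat.pow_lt_pow_iff_right hq.one_lt).1 hk).le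
  · exact S.derived_of (le_bot_iff.1 ((lc_anti (by omega)).trans hI.two.le))

theorem relIndex_sup_fixC (hdis : ∀ x : P, (x : H) ∈ fixC Q ι → x = 1) (K : Subgroup P) :
    (K.map P.subtype ⊔ fixC Q ι).relIndex Q = K.index := by
  have hcard : ∀ K : Subgroup P,
      Nat.card ↥(K.map P.subtype ⊔ fixC Q ι) = Nat.card K * Nat.card (fixC Q ι) := by
    intro K
    have hn : fixC Q ι ≤ Subgroup.normalizer ((K.map P.subtype : Subgroup H) : Set H) := fun c hc => by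
      refine Cfsg.Lib.Coprime.mem_normalizer_of_conj_mem ?_ ?_
      · rintro _ ⟨y, hy, rfl⟩
        exact ⟨y, hy, by rw [Subgroup.coe_subtype, S.commute_fixC hc y.2, mul_inv_cancel_right]⟩
      · rintro _ ⟨y, hy, rfl⟩
        exact ⟨y, hy, by
          rw [Subgroup.coe_subtype, mul_assoc, ← S.commute_fixC hc y.2, inv_mul_cancel_left]⟩
    rw [Cfsg.Lib.Coprime.card_sup_of_inf_eq_bot hn, Subgroup.card_map_of_injective P.subtype_injective]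
    rw [eq_bot_iff]
    rintro _ ⟨⟨y, hy, rfl⟩, hc⟩
    rw [Subgroup.mem_bot, hdis y hc]
    rfl
  have htop : (⊤ : Subgroup P).map P.subtype ⊔ fixC Q ι = Q := by
    rw [← MonoidHom.range_eq_map, P.range_subtype, S.sup_fixC]
  have h1 : (K.map P.subtype ⊔ fixC Q ι).relIndex Q * Nat.card ↥(K.map P.subtype ⊔ fixC Q ι) = Nat.card Q := by
    have hle : K.map P.subtype ⊔ fixC Q ι ≤ Q := sup_le (by rintro _ ⟨y, -, rfl⟩; exact S.le_Q y.2) inf_le_left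
    have h2 := ((K.map P.subtype ⊔ fixC Q ι).subgroupOf Q).index_mul_card
    rwa [Nat.card_congr (Subgroup.subgroupOfEquivOfLe hle).toEquiv] at h2
  rw [hcard, show Nat.card Q = Nat.card ↥((⊤ : Subgroup P).map P.subtype ⊔ fixC Q ι) by rw [htop], hcard,
    Subgroup.card_top, ← K.index_mul_card, mul_assoc K.index] at h1
  exact Nat.eq_of_mul_eq_mul_right (Nat.mul_pos Nat.card_pos Nat.card_pos) h1

theorem caseII {F₀ F₁ : Subgroup F} (hII : FreeCase (conjAct ι P) q F₀ F₁) : HConcl Q ι q f P := by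
  classical
  have hdis : ∀ x : P, (x : H) ∈ fixC Q ι → x = 1 := fun x hx => hII.fixed x (S.fixed_of_mem_fixC hx)
  have hγ1 : ∀ γ : fixC Q ι → ℂ, Cfsg.IsIrrCharacter (fixC Q ι) γ → deg γ = 1 := fun γ hγ => by
    have h1 := irr_deg_one_of_comm (fun a b : fixC Q ι => by
      rw [← commutatorElement_eq_one_iff_mul_comm]
      exact Subtype.ext (congrArg Subtype.val (hdis ⟨_, S.comm_le a a.2.1 b b.2.1⟩ (⁅a, b⁆ : fixC Q ι).2) :)) hγ
    rw [IsCharacter.apply_one_eq_deg (isCharacter_of_irr hγ)] at h1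
    exact_mod_cast h1
  obtain ⟨φ₀, hφ₀, hφ₀d, hφ₀f, hφ₀i⟩ := hII.exists₀
  have hmk : ∀ φ : P → ℂ, Cfsg.IsIrrCharacter P φ → ∃ χ : H → ℂ, Cfsg.IsIrrCharacter H χ ∧
      deg χ = (fixSub (conjAct ι P) φ).index * deg φ := fun φ hφ => by
    obtain ⟨γ, hγ, hker⟩ := S.exists_gamma hφ
    obtain ⟨χ, hχ, h⟩ := S.exists_char hφ hγ hker
    exact ⟨χ, hχ, by rw [h, hγ1 γ hγ, mul_one]⟩
  have hbad : ∀ (T : Subgroup F) (φ : P → ℂ) (G₀ : Subgroup F) (K : Subgroup P) (A : Subgroup H),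
      Cfsg.IsIrrCharacter P φ → deg φ ≠ 1 → fixSub (conjAct ι P) φ = G₀ → deg φ ^ 2 = K.index → T ≤ G₀ →
      A ≤ Q → A ≤ K.map P.subtype ⊔ fixC Q ι →
      ∃ χ : H → ℂ, Cfsg.IsIrrCharacter H χ ∧ 1 < deg χ ∧ deg χ ∣ A.relIndex Q * T.index ∧
        deg χ < A.relIndex Q * T.index := by
    intro T φ G₀ K A hφ hφd hfix hidx hTG hAQ hAK
    obtain ⟨χ, hχ, h⟩ := hmk φ hφ
    rw [hfix] at h
    have h1 : deg φ ^ 2 ∣ A.relIndex Q := by
      rw [hidx, ← S.relIndex_sup_fixC hdis K]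
      exact Subgroup.relIndex_dvd_of_le_left Q hAK
    have hT : G₀.index ∣ T.index := Subgroup.index_dvd_of_le hTG
    have hφ2 : 1 < deg φ := lt_of_le_of_ne (deg_pos hφ) (Ne.symm hφd)
    have hI0 : 0 < G₀.index := Nat.pos_of_ne_zero G₀.index_ne_zero_of_finite
    refine ⟨χ, hχ, ?_, ?_, ?_⟩
    · rw [h]; exact lt_of_lt_of_le hφ2 (Nat.le_mul_of_pos_left _ hI0)
    · rw [h, mul_comm (A.relIndex Q)]
      exact mul_dvd_mul hT ((dvd_pow_self _ two_ne_zero).trans h1)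
    · rw [h, mul_comm (A.relIndex Q)]
      have hk0 : 0 < A.relIndex Q := relIndex_pos _ _
      calc G₀.index * deg φ < G₀.index * deg φ ^ 2 :=
            Nat.mul_lt_mul_of_pos_left (by rw [pow_two]; exact lt_mul_of_one_lt_left (by omega) hφ2) hI0
        _ ≤ T.index * A.relIndex Q :=
            Nat.mul_le_mul (Nat.le_of_dvd (Nat.pos_of_ne_zero T.index_ne_zero_of_finite) hT) (Nat.le_of_dvd hk0 h1)
  have hsplit : ∀ A : Subgroup H, A ≤ Q → ∀ (s : F) (k : ℕ), (∀ a ∈ A, ι s * a = a * ι s) →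
      (∀ x : P, conjAct ι P s x = x → x ∈ lc P k) → A ≤ (lc P k).map P.subtype ⊔ fixC Q ι := by
    intro A hA s k hc hk a ha
    obtain ⟨p, hp, c, hcC, rfl⟩ := S.decomp (hA ha)
    refine Subgroup.mul_mem_sup ⟨⟨p, hp⟩, hk _ (Subtype.ext ?_), rfl⟩ hcC
    rw [conjAct_coe, mul_inv_eq_iff_eq_mul]
    refine mul_right_cancel (b := c) ?_
    show ι s * p * c = p * ι s * c
    rw [mul_assoc, mul_assoc p, comm_of_mem_fixC hcC, hc _ ha, mul_assoc]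
  refine ⟨Or.inr ?_, fun A hA hab T hT hcent => ?_, S.derived_of hII.three⟩
  · obtain ⟨a, ha⟩ := S.deg_pow S.le_Q hφ₀
    have hprime : ∀ (φ : P → ℂ), Cfsg.IsIrrCharacter P φ → ∀ r : ℕ, r.Prime →
        r ∣ (fixSub (conjAct ι P) φ).index * deg φ → r ∣ f ∨ r = q := fun φ hφ r hr hdvd => by
      rcases hr.dvd_mul.1 hdvd with h | h
      · exact Or.inl (h.trans (S.hd.cardF ▸ (fixSub (conjAct ι P) φ).index_dvd_card))
      · obtain ⟨b, hb⟩ := S.deg_pow S.le_Q hφ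
        exact Or.inr ((Nat.prime_dvd_prime_iff_eq hr S.hd.hq).1 (hr.dvd_of_dvd_pow (hb ▸ h)))
    obtain ⟨d₃, hd₃, hd₃p⟩ : ∃ d₃ : ℕ, (lc P 2 ≠ ⊥ → ∀ φ : P → ℂ, Cfsg.IsIrrCharacter P φ →
        fixSub (conjAct ι P) φ = F₁ → deg φ ^ 2 = (lc P 2).index → F₁.index * deg φ = d₃) ∧
        ∀ r : ℕ, r.Prime → r ∣ d₃ → r ∣ f ∨ r = q := by
      by_cases h2 : lc P 2 = ⊥
      · exact ⟨1, fun h => absurd h2 h, fun r hr h => absurd (Nat.dvd_one.1 h) hr.one_lt.ne'⟩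
      · obtain ⟨φ₁, hφ₁, -, hf₁, hi₁⟩ := hII.exists₁ h2
        refine ⟨F₁.index * deg φ₁, fun _ φ _ _ hi => ?_, hf₁ ▸ hprime φ₁ hφ₁⟩
        rw [Nat.pow_left_injective two_ne_zero (hi.trans hi₁.symm)]
    refine ⟨F₀.index * deg φ₀, d₃, fun χ hχ => ?_, ?_, ?_, hd₃p⟩
    · rcases S.deg_cases hχ with h | h | ⟨φ, γ, hφ, hγ, hd1, h⟩
      · exact Or.inl h
      · exact Or.inr (Or.inl h)
      · rw [hγ1 γ hγ, mul_one] at h
        rcases hII.degs φ hφ hd1 with ⟨hf, hi⟩ | ⟨h2, hf, hi⟩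
        · refine Or.inr (Or.inr (Or.inl ?_))
          rw [h, hf, Nat.pow_left_injective two_ne_zero (hi.trans hφ₀i.symm)]
        · exact Or.inr (Or.inr (Or.inr (by rw [h, hf, hd₃ h2 φ hφ hf hi])))
    · have ha0 : a ≠ 0 := fun e => hφ₀d (by rw [ha, e, pow_zero])
      rw [ha]
      exact dvd_mul_of_dvd_right (dvd_pow_self q ha0) _
    · have h1 : F₀.index ≠ 1 := fun e => hII.ne_top (Subgroup.index_eq_one.1 e)
      exact ⟨F₀.index.minFac, Nat.minFac_prime h1,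
        (Nat.minFac_dvd _).trans (S.hd.cardF ▸ F₀.index_dvd_card), dvd_mul_of_dvd_left (Nat.minFac_dvd _) _⟩
  · by_cases h0 : T ≤ F₀
    · obtain ⟨s, hs, hs1⟩ := (Subgroup.bot_or_exists_ne_one T).resolve_left hT
      exact Or.inl (hbad T φ₀ F₀ (lc P 1) A hφ₀ hφ₀d hφ₀f hφ₀i h0 hA
        (hsplit A hA s 1 (fun a ha => hcent a ha s hs) fun x hx => S.mem_lc_one_of_fixed hs1 hx))
    by_cases h1 : T ≤ F₁
    · have h2 : lc P 2 ≠ ⊥ := fun e => hT (le_bot_iff.1 (h1.trans (hII.trivial₁ e).le))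
      obtain ⟨φ₁, hφ₁, hd₁, hf₁, hi₁⟩ := hII.exists₁ h2
      obtain ⟨s, hs, hs1⟩ := (Subgroup.bot_or_exists_ne_one T).resolve_left hT
      exact Or.inl (hbad T φ₁ F₁ (lc P 2) A hφ₁ hd₁ hf₁ hi₁ h1 hA
        (hsplit A hA s 2 (fun a ha => hcent a ha s hs) fun x hx => hII.cent₁ s (h1 hs) hs1 x hx))
    obtain ⟨s, hs, hs0⟩ := SetLike.not_le_iff_exists.1 h0
    obtain ⟨t, ht, ht1⟩ := SetLike.not_le_iff_exists.1 h1
    refine Or.inr ⟨?_, ?_⟩
    · rw [eq_bot_iff]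
      intro a ⟨haA, haP⟩
      have hfix : ∀ r ∈ T, conjAct ι P r ⟨a, haP⟩ = ⟨a, haP⟩ := fun r hr =>
        Subtype.ext (by rw [conjAct_coe, hcent a haA r hr, mul_inv_cancel_right])
      rw [Subgroup.mem_bot]
      exact congrArg Subtype.val (hII.cent s t hs0 ht1 ⟨a, haP⟩ (hfix s hs) (hfix t ht))
    · obtain ⟨x, y, hx, hy, hxy, hy1, hxy'⟩ := hII.pair
      refine ⟨x, x.2, y, y.2, congrArg Subtype.val hx, congrArg Subtype.val hy, congrArg Subtype.val hxy,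
        fun e => hy1 (Subtype.ext e), fun hm => hxy' ?_⟩
      obtain ⟨i, hi⟩ := hm
      exact ⟨i, Subtype.ext hi⟩

theorem main : HConcl Q ι q f P := by
  rcases S.pdata.main S.lc_one_ne_bot with hI | ⟨F₀, F₁, hII⟩
  · exact S.caseI hI
  · exact S.caseII hII

end PSet

end Cfsg.Lib.NDAD
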