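import Cfsg.Agent.Chars.NDAD.Twist
import Mathlib.GroupTheory.Nilpotent

/-!
# Linear characters of the factors of the lower central series and their commutator pairings
-/

set_option autoImplicit false
set_option linter.unusedSectionVars false
set_option linter.style.haveILetI false

namespace Cfsg.Lib.NDAD

open Cfsg.Lib.Chars
open scoped commutatorElement

universe u v

variable {P : Type u} [Group P]

/-- The lower central series, starting with the whole group at `0`. -/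
abbrev lc (P : Type u) [Group P] (k : ℕ) : Subgroup P := (⊤ : Subgroup P).lowerCentralSeries k

theorem lc_succ (k : ℕ) : lc P (k + 1) = ⁅lc P k, (⊤ : Subgroup P)⁆ := rfl

theorem lc_one : lc P 1 = commutator P := rfl

theorem lc_anti {a b : ℕ} (h : a ≤ b) : lc P b ≤ lc P a := (⊤ : Subgroup P).lowerCentralSeries_antitone h

theorem three_le {A B C N : Subgroup P} [N.Normal] (h1 : ⁅⁅B, C⁆, A⁆ ≤ N) (h2 : ⁅⁅C, A⁆, B⁆ ≤ N) :
    ⁅⁅A, B⁆, C⁆ ≤ N := by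
  have hmap : ∀ K : Subgroup P, K.map (QuotientGroup.mk' N) = ⊥ ↔ K ≤ N := fun K => by
    rw [Subgroup.map_eq_bot_iff, QuotientGroup.ker_mk']
  rw [← hmap, Subgroup.map_commutator, Subgroup.map_commutator] at h1 h2 ⊢
  exact Subgroup.commutator_commutator_eq_bot_of_rotate h1 h2

theorem lc_comm_le : ∀ i j : ℕ, ⁅lc P i, lc P j⁆ ≤ lc P (i + j + 1) := by
  intro i
  induction i with
  | zero =>
    intro j
    rw [zero_add, lc_succ, Subgroup.commutator_comm]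
    exact le_of_eq rfl
  | succ i ih =>
    intro j
    rw [lc_succ]
    refine three_le ?_ ?_
    · calc ⁅⁅(⊤ : Subgroup P), lc P j⁆, lc P i⁆ ≤ ⁅lc P i, lc P (j + 1)⁆ := by
            rw [Subgroup.commutator_comm (⊤ : Subgroup P), Subgroup.commutator_comm (lc P i)]
            exact le_rfl
        _ ≤ lc P (i + (j + 1) + 1) := ih (j + 1)
        _ = lc P (i + 1 + j + 1) := by congr 1; omega
    · calc ⁅⁅lc P j, lc P i⁆, (⊤ : Subgroup P)⁆ ≤ ⁅lc P (i + j + 1), (⊤ : Subgroup P)⁆ :=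
            Subgroup.commutator_mono ((Subgroup.commutator_comm _ _).le.trans (ih j)) le_rfl
        _ = lc P (i + 1 + j + 1) := by rw [← lc_succ]; congr 1; omega

theorem comm_mem_lc {i j k : ℕ} (hk : k ≤ i + j + 1) {x y : P} (hx : x ∈ lc P i) (hy : y ∈ lc P j) :
    ⁅x, y⁆ ∈ lc P k :=
  lc_anti hk (lc_comm_le i j (Subgroup.commutator_mem_commutator hx hy))

theorem mem_lc_zero (x : P) : x ∈ lc P 0 := Subgroup.mem_top x

theorem map_mem_lc (e : MulAut P) {k : ℕ} {x : P} (hx : x ∈ lc P k) : e x ∈ lc P k := by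
  have h := Subgroup.characteristic_iff_map_eq.1 (inferInstance : (lc P k).Characteristic) e
  rw [← h]
  exact ⟨x, hx, rfl⟩

/-- The linear characters of the factor at level `k`. -/
abbrev Lam (P : Type u) [Group P] (k : ℕ) : Subgroup (lc P k →* ℂˣ) := linK (lc P k) (lc P (k + 1))

/-- Evaluation, extended by one. -/
noncomputable def ev {k : ℕ} (l : lc P k →* ℂˣ) (x : P) : ℂˣ :=
  open Classical in if h : x ∈ lc P k then l ⟨x, h⟩ else 1

theorem ev_mem {k : ℕ} (l : lc P k →* ℂˣ) {x : P} (h : x ∈ lc P k) : ev l x = l ⟨x, h⟩ := dif_pos h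

theorem ev_coe {k : ℕ} (l : lc P k →* ℂˣ) (x : lc P k) : ev l x = l x := ev_mem l x.2

theorem ev_one {k : ℕ} (l : lc P k →* ℂˣ) : ev l 1 = 1 := by
  rw [ev_mem l (one_mem _)]; exact map_one l

theorem ev_mul {k : ℕ} (l : lc P k →* ℂˣ) {x y : P} (hx : x ∈ lc P k) (hy : y ∈ lc P k) :
    ev l (x * y) = ev l x * ev l y := by
  rw [ev_mem l hx, ev_mem l hy, ev_mem l (mul_mem hx hy), ← map_mul]; rfl

theorem ev_inv {k : ℕ} (l : lc P k →* ℂˣ) {x : P} (hx : x ∈ lc P k) : ev l x⁻¹ = (ev l x)⁻¹ := by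
  rw [ev_mem l hx, ev_mem l (inv_mem hx), ← map_inv]; rfl

theorem ev_next {k : ℕ} {l : lc P k →* ℂˣ} (hl : l ∈ Lam P k) {x : P} (hx : x ∈ lc P (k + 1)) :
    ev l x = 1 := by
  rw [ev_mem l (lc_anti (Nat.le_succ k) hx)]
  exact hl _ hx

theorem ev_conj {k : ℕ} {l : lc P k →* ℂˣ} (hl : l ∈ Lam P k) {x : P} (hx : x ∈ lc P k) (g : P) :
    ev l (g * x * g⁻¹) = ev l x := by
  have h : ⁅g, x⁆ ∈ lc P (k + 1) := comm_mem_lc (i := 0) (j := k) (by omega) (mem_lc_zero g) hx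
  rw [show g * x * g⁻¹ = ⁅g, x⁆ * x by rw [commutatorElement_def, inv_mul_cancel_right],
    ev_mul l (lc_anti (Nat.le_succ k) h) hx, ev_next hl h, one_mul]

theorem lam_conj {k : ℕ} {l : lc P k →* ℂˣ} (hl : l ∈ Lam P k) (g : P) (x : lc P k) :
    l ⟨g * x * g⁻¹, (inferInstance : (lc P k).Normal).conj_mem x x.2 g⟩ = l x := by
  rw [← ev_coe, ← ev_coe]; exact ev_conj hl x.2 g

theorem ev_mul_left {k : ℕ} (l l' : lc P k →* ℂˣ) (x : P) : ev (l * l') x = ev l x * ev l' x := by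
  unfold ev
  split <;> simp

theorem ev_one_left {k : ℕ} (x : P) : ev (1 : lc P k →* ℂˣ) x = 1 := by
  unfold ev
  split <;> simp

theorem ev_comm_mul_right {i j k : ℕ} (hk : k ≤ i + j + 1) {l : lc P k →* ℂˣ} (hl : l ∈ Lam P k)
    {x y y' : P} (hx : x ∈ lc P i) (hy : y ∈ lc P j) (hy' : y' ∈ lc P j) :
    ev l ⁅x, y * y'⁆ = ev l ⁅x, y⁆ * ev l ⁅x, y'⁆ := by
  have h1 := comm_mem_lc hk hx hy
  have h2 := comm_mem_lc hk hx hy'
  rw [show ⁅x, y * y'⁆ = ⁅x, y⁆ * (y * ⁅x, y'⁆ * y⁻¹) by simp only [commutatorElement_def]; group,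
    ev_mul l h1 ((inferInstance : (lc P k).Normal).conj_mem _ h2 y), ev_conj hl h2]

theorem ev_comm_mul_left {i j k : ℕ} (hk : k ≤ i + j + 1) {l : lc P k →* ℂˣ} (hl : l ∈ Lam P k)
    {x x' y : P} (hx : x ∈ lc P i) (hx' : x' ∈ lc P i) (hy : y ∈ lc P j) :
    ev l ⁅x * x', y⁆ = ev l ⁅x, y⁆ * ev l ⁅x', y⁆ := by
  have h1 := comm_mem_lc hk hx hy
  have h2 := comm_mem_lc hk hx' hy
  rw [show ⁅x * x', y⁆ = (x * ⁅x', y⁆ * x⁻¹) * ⁅x, y⁆ by simp only [commutatorElement_def]; group,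
    ev_mul l ((inferInstance : (lc P k).Normal).conj_mem _ h2 x) h1, ev_conj hl h2, mul_comm]

theorem ev_comm_swap {i j k : ℕ} (hk : k ≤ i + j + 1) (l : lc P k →* ℂˣ)
    {x y : P} (hx : x ∈ lc P i) (hy : y ∈ lc P j) : ev l ⁅y, x⁆ = (ev l ⁅x, y⁆)⁻¹ := by
  rw [← commutatorElement_inv, ev_inv l (comm_mem_lc hk hx hy)]

theorem ev_comm_self {k : ℕ} (l : lc P k →* ℂˣ) (x : P) : ev l ⁅x, x⁆ = 1 := by
  rw [commutatorElement_self, ev_one]

theorem ev_comm_inv_right {i j k : ℕ} (hk : k ≤ i + j + 1) {l : lc P k →* ℂˣ} (hl : l ∈ Lam P k)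
    {x y : P} (hx : x ∈ lc P i) (hy : y ∈ lc P j) : ev l ⁅x, y⁻¹⁆ = (ev l ⁅x, y⁆)⁻¹ := by
  rw [eq_inv_iff_mul_eq_one, ← ev_comm_mul_right hk hl hx (inv_mem hy) hy, inv_mul_cancel,
    commutatorElement_one_right, ev_one]

theorem ev_comm_inv_left {i j k : ℕ} (hk : k ≤ i + j + 1) {l : lc P k →* ℂˣ} (hl : l ∈ Lam P k)
    {x y : P} (hx : x ∈ lc P i) (hy : y ∈ lc P j) : ev l ⁅x⁻¹, y⁆ = (ev l ⁅x, y⁆)⁻¹ := by
  rw [eq_inv_iff_mul_eq_one, ← ev_comm_mul_left hk hl (inv_mem hx) hx hy, inv_mul_cancel,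
    commutatorElement_one_left, ev_one]

/-- The commutator pairing with values at level `k`. -/
theorem isPairing_ev {i j k : ℕ} (hk : k ≤ i + j + 1) {l : lc P k →* ℂˣ} (hl : l ∈ Lam P k) :
    IsPairing (fun (x : lc P i) (y : lc P j) => ev l ⁅(x : P), (y : P)⁆) :=
  ⟨fun x x' y => ev_comm_mul_left hk hl x.2 x'.2 y.2, fun x y y' => ev_comm_mul_right hk hl x.2 y.2 y'.2⟩

/-- The Hall-Witt identity. -/
theorem hall_witt' (a b c : P) :
    b * ⁅⁅a, b⁻¹⁆⁻¹, c⁆ * b⁻¹ * (c * ⁅⁅b, c⁻¹⁆⁻¹, a⁆ * c⁻¹) * (a * ⁅⁅c, a⁻¹⁆⁻¹, b⁆ * a⁻¹) = 1 := by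
  simp only [commutatorElement_def]
  group

/-- The Jacobi identity for the commutator pairings. -/
theorem ev_jacobi {i j h k : ℕ} (hk : k = i + j + h + 2) {l : lc P k →* ℂˣ} (hl : l ∈ Lam P k)
    {a b c : P} (ha : a ∈ lc P i) (hb : b ∈ lc P j) (hc : c ∈ lc P h) :
    ev l ⁅⁅a, b⁆, c⁆ * ev l ⁅⁅b, c⁆, a⁆ * ev l ⁅⁅c, a⁆, b⁆ = 1 := by
  have key : ∀ {i j h : ℕ} {a b c : P}, k = i + j + h + 2 → a ∈ lc P i → b ∈ lc P j → c ∈ lc P h →
      ∀ g : P, ev l (g * ⁅⁅a, b⁻¹⁆⁻¹, c⁆ * g⁻¹) = ev l ⁅⁅a, b⁆, c⁆ ∧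
        g * ⁅⁅a, b⁻¹⁆⁻¹, c⁆ * g⁻¹ ∈ lc P k := by
    intro i j h a b c hk ha hb hc g
    have hab : ⁅a, b⁆ ∈ lc P (i + j + 1) := comm_mem_lc le_rfl ha hb
    have hab' : ⁅a, b⁻¹⁆⁻¹ ∈ lc P (i + j + 1) := inv_mem (comm_mem_lc le_rfl ha (inv_mem hb))
    have hle : k ≤ i + j + 1 + h + 1 := by omega
    have h1 : ⁅⁅a, b⁻¹⁆⁻¹, c⁆ ∈ lc P k := comm_mem_lc hle hab' hc
    refine ⟨?_, (inferInstance : (lc P k).Normal).conj_mem _ h1 g⟩
    rw [ev_conj hl h1]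
    -- `⁅a, b⁻¹⁆⁻¹` is congruent to `⁅a, b⁆` modulo the next term
    have hd : ⁅a, b⁻¹⁆⁻¹ * ⁅a, b⁆⁻¹ ∈ lc P (i + j + 2) := by
      have e : ⁅a, b⁻¹⁆⁻¹ * ⁅a, b⁆⁻¹ = ⁅b⁻¹, ⁅a, b⁆⁆ := by simp only [commutatorElement_def]; group
      rw [e]
      exact comm_mem_lc (i := 0) (j := i + j + 1) (by omega) (mem_lc_zero _) hab
    have hzero : ev l ⁅⁅a, b⁻¹⁆⁻¹ * ⁅a, b⁆⁻¹, c⁆ = 1 :=
      ev_next hl (comm_mem_lc (i := i + j + 2) (j := h) (by omega) hd hc)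
    calc ev l ⁅⁅a, b⁻¹⁆⁻¹, c⁆ = ev l ⁅⁅a, b⁻¹⁆⁻¹ * ⁅a, b⁆⁻¹ * ⁅a, b⁆, c⁆ := by rw [inv_mul_cancel_right]
      _ = ev l ⁅⁅a, b⁻¹⁆⁻¹ * ⁅a, b⁆⁻¹, c⁆ * ev l ⁅⁅a, b⁆, c⁆ :=
          ev_comm_mul_left hle hl (lc_anti (by omega) hd) hab hc
      _ = _ := by rw [hzero, one_mul]
  obtain ⟨e1, m1⟩ := key hk ha hb hc b
  obtain ⟨e2, m2⟩ := key (by omega) hb hc ha c
  obtain ⟨e3, m3⟩ := key (by omega) hc ha hb a
  rw [← e1, ← e2, ← e3, ← ev_mul l m1 m2, ← ev_mul l (mul_mem m1 m2) m3, hall_witt', ev_one]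

/-- A character of a factor killing all the commutators is trivial. -/
theorem lam_eq_one {k : ℕ} {l : lc P (k + 1) →* ℂˣ}
    (h : ∀ x ∈ lc P k, ∀ y : P, ev l ⁅x, y⁆ = 1) : l = 1 := by
  have hle : lc P (k + 1) ≤ l.ker.map (lc P (k + 1)).subtype := by
    show ⁅lc P k, (⊤ : Subgroup P)⁆ ≤ _
    rw [Subgroup.commutator_le]
    intro x hx y _
    have hm : ⁅x, y⁆ ∈ lc P (k + 1) := comm_mem_lc (i := k) (j := 0) (by omega) hx (mem_lc_zero y)
    exact ⟨⟨_, hm⟩, by rw [SetLike.mem_coe, MonoidHom.mem_ker, ← ev_mem l hm]; exact h x hx y, rfl⟩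
  ext x
  obtain ⟨y, hy, hxy⟩ := hle x.2
  rw [show x = y from (Subtype.ext hxy).symm, MonoidHom.one_apply, MonoidHom.mem_ker.1 hy]

variable {F : Type v} [CommGroup F] (act : F →* MulAut P)

/-- Pulling back a character along an automorphism. -/
def pull (k : ℕ) (s : F) (l : lc P k →* ℂˣ) : lc P k →* ℂˣ :=
  l.comp
    { toFun := fun x => (⟨act s x, map_mem_lc _ x.2⟩ : lc P k)
      map_one' := Subtype.ext (map_one _)
      map_mul' := fun a b => Subtype.ext (map_mul _ _ _) }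

theorem ev_pull (k : ℕ) (s : F) (l : lc P k →* ℂˣ) {x : P} (hx : x ∈ lc P k) :
    ev (pull act k s l) x = ev l (act s x) := by
  rw [ev_mem _ hx, ev_mem l (map_mem_lc _ hx)]; rfl

theorem pull_mem {k : ℕ} (s : F) {l : lc P k →* ℂˣ} (hl : l ∈ Lam P k) : pull act k s l ∈ Lam P k :=
  fun x hx => by
    rw [← ev_coe, ev_pull act k s l x.2]
    exact ev_next hl (map_mem_lc _ hx)

theorem pull_mul_hom (k : ℕ) (s : F) (l l' : lc P k →* ℂˣ) :
    pull act k s (l * l') = pull act k s l * pull act k s l' := rfl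

theorem pull_one (k : ℕ) (l : lc P k →* ℂˣ) : pull act k 1 l = l := by
  ext x
  show ((l ⟨act 1 x, _⟩ : ℂˣ) : ℂ) = _
  congr 2
  exact Subtype.ext (by simp)

theorem pull_mul (k : ℕ) (s t : F) (l : lc P k →* ℂˣ) :
    pull act k (s * t) l = pull act k s (pull act k t l) := by
  ext x
  show ((l _ : ℂˣ) : ℂ) = ((l _ : ℂˣ) : ℂ)
  congr 2
  exact Subtype.ext (by
    show act (s * t) (x : P) = act t (act s x)
    rw [mul_comm, map_mul, MulAut.mul_apply])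

/-- The stabiliser of a character of a factor. -/
def lamStab (k : ℕ) (l : lc P k →* ℂˣ) : Subgroup F where
  carrier := {s | pull act k s l = l}
  one_mem' := pull_one act k l
  mul_mem' := fun {a b} ha hb => by
    show pull act k (a * b) l = l
    rw [pull_mul, hb, ha]
  inv_mem' := fun {a} ha => by
    show pull act k a⁻¹ l = l
    calc pull act k a⁻¹ l = pull act k a⁻¹ (pull act k a l) := by rw [ha]
      _ = l := by rw [← pull_mul, inv_mul_cancel, pull_one]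

theorem mem_lamStab {k : ℕ} {l : lc P k →* ℂˣ} {s : F} : s ∈ lamStab act k l ↔ pull act k s l = l := Iff.rfl

end Cfsg.Lib.NDAD
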