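import Cfsg.Agent.Chars.NDAD.Levels
import Cfsg.Agent.Chars.NDAD.Basic
import Cfsg.Agent.Chars.NDAD.Actions
import Mathlib.GroupTheory.PGroup
import Mathlib.GroupTheory.Sylow

/-!
# A `q`-group with an abelian group of automorphisms, fixed point free on the abelianisation

The abstract setting for the bound on the class of `[Q, F]`.
-/

set_option autoImplicit false
set_option linter.unusedSectionVars false
set_option linter.style.haveILetI false

namespace Cfsg.Lib.NDAD

open Cfsg.Lib.Chars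
open scoped commutatorElement

universe u v

variable {P : Type u} [Group P] {F : Type v} [CommGroup F]

/-- The stabiliser of a function. -/
def fixSub (act : F →* MulAut P) (φ : P → ℂ) : Subgroup F where
  carrier := {s | Fixes act s φ}
  one_mem' := fun x => by simp
  mul_mem' := fun {a b} ha hb x => by
    rw [map_mul, MulAut.mul_apply, ha, hb]
  inv_mem' := fun {a} ha x => by
    conv_rhs => rw [show x = act a ((act a)⁻¹ x) from ((act a).apply_symm_apply x).symm]
    rw [map_inv, ha]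

theorem mem_fixSub {act : F →* MulAut P} {φ : P → ℂ} {s : F} : s ∈ fixSub act φ ↔ Fixes act s φ := Iff.rfl

/-- The abstract setting. -/
structure PData (act : F →* MulAut P) (q : ℕ) : Prop where
  hq : q.Prime
  pP : IsPGroup q P
  cop : (Nat.card F).Coprime q
  nontriv : ∃ s : F, s ≠ 1
  fpf : ∀ s : F, s ≠ 1 → ∀ x : P, x⁻¹ * act s x ∈ lc P 1 → x ∈ lc P 1
  stab : ∀ φ : P → ℂ, Cfsg.IsIrrCharacter P φ → deg φ ≠ 1 → ∃ s : F, s ≠ 1 ∧ Fixes act s φ
  clean : ∀ φ ψ : P → ℂ, Cfsg.IsIrrCharacter P φ → Cfsg.IsIrrCharacter P ψ → deg φ ≠ 1 → deg ψ ≠ 1 →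
    (∀ x, (∀ s, act s x = x) → φ x = φ 1) →
    (fixSub act φ).index * deg φ ∣ (fixSub act ψ).index * deg ψ →
    (fixSub act φ).index = (fixSub act ψ).index ∧ deg φ = deg ψ
  fix2 : ∀ φ ψ : P → ℂ, Cfsg.IsIrrCharacter P φ → Cfsg.IsIrrCharacter P ψ → deg φ ≠ 1 → deg ψ = deg φ →
    (∀ x, (∀ s, x⁻¹ * act s x ∈ lc P 2) → φ x * ψ 1 = ψ x * φ 1) →
    fixSub act φ = ⊤ → fixSub act ψ = ⊤

/-- `s` acts fixed point freely on the factor at level `k`. -/
def FpfLevel (act : F →* MulAut P) (k : ℕ) (s : F) : Prop :=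
  ∀ l ∈ Lam P k, pull act k s l = l → l = 1

variable [Finite P]

/-- A character of a section which is fixed by a fixed point free automorphism is trivial. -/
theorem eq_one_of_fixed_section (e : MulAut P) (X K : Subgroup P) [K.Normal] (hX : ∀ x ∈ X, e x ∈ X)
    (hK : ∀ x ∈ K, e x ∈ K) (hfpf : ∀ x ∈ X, x⁻¹ * e x ∈ K → x ∈ K) (β : X →* ℂˣ)
    (hβK : ∀ x : X, (x : P) ∈ K → β x = 1) (hfix : ∀ x : X, β ⟨e x, hX x x.2⟩ = β x)
    (hcomm : ∀ a ∈ X, ∀ b ∈ X, ⁅a, b⁆ ∈ K) : β = 1 := by
  let K' := K.subgroupOf X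
  let eX : X →* X :=
    { toFun := fun x => ⟨e x, hX x x.2⟩
      map_one' := Subtype.ext (map_one e)
      map_mul' := fun a b => Subtype.ext (map_mul e _ _) }
  let π := QuotientGroup.mk' K'
  have hc : ∀ x y : X, π x * π y = π y * π x := fun x y => by
    rw [← commutatorElement_eq_one_iff_mul_comm, ← map_commutatorElement, QuotientGroup.mk'_apply,
      QuotientGroup.eq_one_iff]
    exact hcomm x x.2 y y.2
  let δ : X ⧸ K' →* X ⧸ K' := QuotientGroup.lift K'
    { toFun := fun x => (π x)⁻¹ * π (eX x)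
      map_one' := by simp
      map_mul' := fun x y => by
        rw [map_mul eX, map_mul π, map_mul π, mul_inv_rev]
        calc (π y)⁻¹ * (π x)⁻¹ * (π (eX x) * π (eX y))
            = (π y)⁻¹ * ((π x)⁻¹ * π (eX x)) * π (eX y) := by group
          _ = ((π x)⁻¹ * π (eX x)) * (π y)⁻¹ * π (eX y) := by
              congr 1
              have h1 := hc (x⁻¹ * eX x) y⁻¹
              simp only [map_mul, map_inv] at h1
              exact h1.symm
          _ = _ := by group }
    (fun x hx => by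
      rw [MonoidHom.mem_ker]
      show (π x)⁻¹ * π (eX x) = 1
      rw [show π x = 1 from (QuotientGroup.eq_one_iff x).2 hx,
        show π (eX x) = 1 from (QuotientGroup.eq_one_iff (eX x)).2 (hK x hx), inv_one, one_mul])
  have hinj : Function.Injective δ := by
    rw [injective_iff_map_eq_one]
    intro z
    induction z using QuotientGroup.induction_on with
    | _ x =>
      intro hz
      change (π x)⁻¹ * π (eX x) = 1 at hz
      rw [← map_inv, ← map_mul, QuotientGroup.mk'_apply, QuotientGroup.eq_one_iff] at hz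
      exact (QuotientGroup.eq_one_iff x).2 (hfpf x x.2 hz)
  ext y
  obtain ⟨z, hz⟩ := (Finite.injective_iff_surjective.1 hinj) (π y)
  revert hz
  induction z using QuotientGroup.induction_on with
  | _ x =>
    intro hz
    change (π x)⁻¹ * π (eX x) = π y at hz
    rw [← map_inv, ← map_mul, QuotientGroup.mk'_apply, QuotientGroup.mk'_apply, QuotientGroup.eq] at hz
    have h1 := hβK ((x⁻¹ * eX x)⁻¹ * y) (Subgroup.mem_subgroupOf.1 hz)
    rw [map_mul, map_inv, map_mul, map_inv, show β (eX x) = β x from hfix x, inv_mul_cancel, inv_one,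
      one_mul] at h1
    rw [h1]; rfl

theorem comm_section (k : ℕ) {a b : P} (ha : a ∈ lc P k) (hb : b ∈ lc P k) : ⁅a, b⁆ ∈ lc P (k + 1) :=
  comm_mem_lc (i := k) (j := k) (by omega) ha hb

/-- An element killed by all characters of its factor lies in the next term. -/
theorem mem_next {k : ℕ} {x : P} (hx : x ∈ lc P k) (h : ∀ l ∈ Lam P k, ev l x = 1) : x ∈ lc P (k + 1) :=
  mem_of_forall_linK (x := ⟨x, hx⟩) (fun _ ha _ hb => comm_section k ha hb) fun l hl => by
    rw [← ev_coe]; exact h l hl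

theorem card_lam (k : ℕ) : Nat.card (Lam P k) * Nat.card (lc P (k + 1)) = Nat.card (lc P k) :=
  card_linK (lc_anti (Nat.le_succ k)) fun _ ha _ hb => comm_section k ha hb

theorem pull_iterate (act : F →* MulAut P) {k : ℕ} {s : F} {x : P} (hfix : act s x = x) (l : lc P k →* ℂˣ)
    (hx : x ∈ lc P k) : ev (pull act k s l) x = ev l x := by
  rw [ev_pull act k s l hx, hfix]

variable [Finite F] {act : F →* MulAut P}

/-- A fixed element of a factor with a fixed point free automorphism is trivial. -/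
theorem mem_next_of_fixed {k : ℕ} {s : F} (hs : FpfLevel act k s) {x : P} (hx : x ∈ lc P k)
    (hfix : x⁻¹ * act s x ∈ lc P (k + 1)) : x ∈ lc P (k + 1) := by
  refine mem_next hx fun l hl => ?_
  let g : Lam P k → Lam P k := fun m => ⟨pull act k s m.1 / m.1, div_mem (pull_mem act s m.2) m.2⟩
  have hg : Function.Injective g := fun a b hab => by
    have h : pull act k s a.1 / a.1 = pull act k s b.1 / b.1 := congrArg Subtype.val hab
    refine Subtype.ext (div_eq_one.1 (hs _ (div_mem a.2 b.2) ?_))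
    show pull act k s a.1 / pull act k s b.1 = a.1 / b.1
    refine MonoidHom.ext fun y => ?_
    have hy := DFunLike.congr_fun h y
    rw [MonoidHom.div_apply, MonoidHom.div_apply] at hy ⊢
    exact div_eq_div_iff_div_eq_div.1 hy
  obtain ⟨m, hm⟩ := (Finite.injective_iff_surjective.1 hg) ⟨l, hl⟩
  have hm' : pull act k s m.1 / m.1 = l := congrArg Subtype.val hm
  rw [← hm', ev_mem _ hx, MonoidHom.div_apply, div_eq_one, ← ev_mem _ hx, ← ev_mem _ hx,
    ev_pull act k s _ hx, show act s x = x * (x⁻¹ * act s x) by group,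
    ev_mul _ hx (lc_anti (Nat.le_succ k) hfix), ev_next m.2 hfix, mul_one]

/-- The action on the characters of a factor. -/
def lamAct (act : F →* MulAut P) (k : ℕ) : F →* MulAut (Lam P k) where
  toFun s :=
    { toFun := fun l => ⟨pull act k s l.1, pull_mem act s l.2⟩
      invFun := fun l => ⟨pull act k s⁻¹ l.1, pull_mem act s⁻¹ l.2⟩
      left_inv := fun l => Subtype.ext (by
        show pull act k s⁻¹ (pull act k s l.1) = l.1
        rw [← pull_mul, inv_mul_cancel, pull_one])
      right_inv := fun l => Subtype.ext (by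
        show pull act k s (pull act k s⁻¹ l.1) = l.1
        rw [← pull_mul, mul_inv_cancel, pull_one])
      map_mul' := fun a b => Subtype.ext rfl }
  map_one' := MulEquiv.ext fun l => Subtype.ext (pull_one act k l.1)
  map_mul' s t := MulEquiv.ext fun l => Subtype.ext (pull_mul act k s t l.1)

theorem lamAct_coe (k : ℕ) (s : F) (l : Lam P k) :
    ((lamAct act k s l : Lam P k) : lc P k →* ℂˣ) = pull act k s l.1 := rfl

theorem stabAct_lamAct (k : ℕ) (l : Lam P k) : stabAct (lamAct act k) l = lamStab act k l.1 := by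
  ext s
  rw [mem_stabAct, mem_lamStab, Subtype.ext_iff, lamAct_coe]

namespace PData

variable {q : ℕ} (h : PData act q)
include h

theorem lc_eq_bot_of_stable {k : ℕ} (hk : lc P k ≤ lc P (k + 1)) : lc P k = ⊥ := by
  haveI := Fact.mk h.hq
  haveI : Group.IsNilpotent P := h.pP.isNilpotent
  have hall : ∀ j, lc P k ≤ lc P (k + j) := by
    intro j
    induction j with
    | zero => exact le_rfl
    | succ j ih =>
      calc lc P k ≤ lc P (k + 1) := hk
        _ = ⁅lc P k, (⊤ : Subgroup P)⁆ := rfl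
        _ ≤ ⁅lc P (k + j), (⊤ : Subgroup P)⁆ := Subgroup.commutator_mono ih le_rfl
        _ = lc P (k + (j + 1)) := rfl
  obtain ⟨n, hn⟩ := Subgroup.nilpotent_iff_lowerCentralSeries.1 (inferInstance : Group.IsNilpotent P)
  rw [eq_bot_iff, ← hn]
  exact (hall n).trans (lc_anti (Nat.le_add_left n k))

theorem lc_bot_of_lam {k : ℕ} (hk : ∀ l ∈ Lam P k, l = 1) : lc P k = ⊥ :=
  h.lc_eq_bot_of_stable fun x hx => mem_next hx fun l hl => by rw [hk l hl, ev_one_left]

theorem card_lam_pow (k : ℕ) : ∃ j, Nat.card (Lam P k) = q ^ j := by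
  haveI := Fact.mk h.hq
  obtain ⟨n, hn⟩ := IsPGroup.iff_card.1 h.pP
  obtain ⟨j, -, hj⟩ := (Nat.dvd_prime_pow h.hq).1
    (show Nat.card (Lam P k) ∣ q ^ n from hn ▸ ((dvd_mul_right _ _).trans (dvd_of_eq (card_lam k))).trans
      (Subgroup.card_subgroup_dvd_card _))
  exact ⟨j, hj⟩

theorem orderOf_cop (k : ℕ) (s : F) : (orderOf (lamAct act k s)).Coprime (Nat.card (Lam P k)) := by
  obtain ⟨j, hj⟩ := h.card_lam_pow k
  rw [hj]
  exact (h.cop.coprime_dvd_left ((orderOf_map_dvd _ s).trans (orderOf_dvd_natCard s))).pow_right j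

theorem semisimple (k : ℕ) : ∀ (s : F) (v w : Lam P k), lamAct act k s v = v →
    lamAct act k s w = w * v → v = 1 :=
  fun s _ _ hv hw => eq_one_of_shift _ (h.orderOf_cop k s) hv hw

/-- A homomorphism to the units fixed by some nontrivial element is trivial. -/
theorem hom_eq_one_of_fixed {s : F} (hs : s ≠ 1) (β : P →* ℂˣ) (hfix : ∀ x, β (act s x) = β x) : β = 1 := by
  have h1 := eq_one_of_fixed_section (act s) ⊤ (lc P 1) (fun _ _ => Subgroup.mem_top _)
    (fun x hx => map_mem_lc _ hx) (fun x _ hx => h.fpf s hs x hx) (β.comp (⊤ : Subgroup P).subtype)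
    (fun x hx => ?_) (fun x => hfix x) (fun a _ b _ => Subgroup.commutator_mem_commutator (Subgroup.mem_top a) (Subgroup.mem_top b))
  · ext x
    exact congrArg Units.val (DFunLike.congr_fun h1 ⟨x, Subgroup.mem_top x⟩)
  · have hle : commutator P ≤ β.ker := Subgroup.commutator_le.2 fun a _ b _ => hom_comm β a b
    exact hle hx

theorem fpf_zero {s : F} (hs : s ≠ 1) : FpfLevel act 0 s := by
  intro l _ hfix
  let β : P →* ℂˣ :=
    { toFun := fun x => ev l x
      map_one' := ev_one l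
      map_mul' := fun a b => ev_mul l (mem_lc_zero a) (mem_lc_zero b) }
  have hβ := h.hom_eq_one_of_fixed hs β fun x => by
    show ev l (act s x) = ev l x
    rw [← ev_pull act 0 s l (mem_lc_zero x), hfix]
  ext x
  rw [← ev_coe]
  exact congrArg Units.val (DFunLike.congr_fun hβ (x : P))

/-- An element trivial on a factor acts without fixed points on the next one. -/
theorem fpf_succ {k : ℕ} {s : F} (hs : s ≠ 1) (htriv : ∀ x ∈ lc P k, x⁻¹ * act s x ∈ lc P (k + 1)) :
    FpfLevel act (k + 1) s := by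
  intro l hl hfix
  refine lam_eq_one fun x hx y => ?_
  let β : P →* ℂˣ :=
    { toFun := fun y => ev l ⁅x, y⁆
      map_one' := by rw [commutatorElement_one_right, ev_one]
      map_mul' := fun a b => ev_comm_mul_right (i := k) (j := 0) (by omega) hl hx (mem_lc_zero a) (mem_lc_zero b) }
  have hβ := h.hom_eq_one_of_fixed hs β fun y => by
    show ev l ⁅x, act s y⁆ = ev l ⁅x, y⁆
    have hxy : ⁅x, y⁆ ∈ lc P (k + 1) := comm_mem_lc (i := k) (j := 0) (by omega) hx (mem_lc_zero y)
    have e1 : ev l ⁅act s x, act s y⁆ = ev l ⁅x, y⁆ := by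
      rw [← map_commutatorElement, ← ev_pull act (k + 1) s l hxy, hfix]
    rw [← e1, show act s x = x * (x⁻¹ * act s x) by group,
      ev_comm_mul_left (i := k) (j := 0) (by omega) hl hx (lc_anti (Nat.le_succ k) (htriv x hx)) (mem_lc_zero _),
      ev_next hl (comm_mem_lc (i := k + 1) (j := 0) (by omega) (htriv x hx) (mem_lc_zero _)), mul_one]
  exact DFunLike.congr_fun hβ y

theorem trivial_level {k : ℕ} {s : F} (hs : ∀ l ∈ Lam P k, pull act k s l = l) {x : P} (hx : x ∈ lc P k) :
    x⁻¹ * act s x ∈ lc P (k + 1) :=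
  mem_next (mul_mem (inv_mem hx) (map_mem_lc _ hx)) fun l hl => by
    rw [ev_mul l (inv_mem hx) (map_mem_lc _ hx), ev_inv l hx, ← ev_pull act k s l hx, hs l hl, inv_mul_cancel]

/-- `φ` lies over the character `l` of the factor at level `k`. -/
theorem exists_over_lam {k : ℕ} {l : lc P k →* ℂˣ} (hl : l ∈ Lam P k) :
    ∃ φ : P → ℂ, Cfsg.IsIrrCharacter P φ ∧ ∀ x ∈ lc P k, φ x = φ 1 * (ev l x : ℂ) := by
  obtain ⟨φ, hφ, hx⟩ := exists_scalar_over (lc P k) (lam_conj hl)
  exact ⟨φ, hφ, fun x hx' => by rw [hx ⟨x, hx'⟩, ev_mem l hx']⟩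

variable {φ : P → ℂ} (hφ : Cfsg.IsIrrCharacter P φ) {k : ℕ} {l : lc P k →* ℂˣ}
  (hφl : ∀ x ∈ lc P k, φ x = φ 1 * (ev l x : ℂ))
include hφ hφl

theorem trivial_next (hl : l ∈ Lam P k) : ∀ x ∈ lc P (k + 1), φ x = φ 1 := fun x hx => by
  rw [hφl x (lc_anti (Nat.le_succ k) hx), ev_next hl hx, Units.val_one, mul_one]

theorem nonlinear (hk : 1 ≤ k) (hne : l ≠ 1) : deg φ ≠ 1 := by
  intro hd
  have h1 : φ 1 = 1 := by rw [IsCharacter.apply_one_eq_deg (isCharacter_of_irr hφ), hd, Nat.cast_one]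
  obtain ⟨f, hf⟩ := exists_hom_of_deg_one (isCharacter_of_irr hφ) h1
  refine hne (MonoidHom.ext fun x => ?_)
  have hle : lc P k ≤ f.ker := (lc_anti hk).trans (Subgroup.commutator_le.2 fun a _ b _ => hom_comm f a b)
  have h2 := hφl x x.2
  rw [h1, one_mul, ev_coe, congrFun hf (x : P), MonoidHom.mem_ker.1 (hle x.2)] at h2
  exact (Units.ext h2).symm

theorem fixSub_le : fixSub act φ ≤ lamStab act k l := by
  intro s hs
  refine MonoidHom.ext fun x => Units.ext ?_
  have h0 : φ 1 ≠ 0 := IsIrrCharacter.apply_one_ne_zero hφ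
  have h1 := hs (x : P)
  rw [hφl x x.2, hφl _ (map_mem_lc _ x.2), ← ev_pull act k s l x.2, ev_coe, ev_coe] at h1
  exact mul_left_cancel₀ h0 h1

/-- Vanishing on a higher factor when all relevant stabilisers are fixed point free there. -/
theorem vanish (hne : l ≠ 1) {i : ℕ} (hi : i < k)
    (hfpf : ∀ s ∈ lamStab act k l, s ≠ 1 → FpfLevel act i s) {x : P} (hx : x ∈ lc P i) (hx' : x ∉ lc P (i + 1)) :
    φ x = 0 := by
  by_contra hne0
  refine hx' (mem_next hx fun α hα => ?_)
  rw [ev_mem α hx]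
  refine eq_one_of_twist act hφ (lc P i) (Lam P i) (fun β hβ => lam_conj hβ) Set.univ
    (fun s _ y hy => map_mem_lc _ hy) (fun s _ β hβ => ⟨pull act i s β, pull_mem act s hβ, fun _ => rfl⟩)
    (fun β hβ ψ hψ hrel => ?_) hα (x := ⟨x, hx⟩) hne0
  have hψl : ∀ y ∈ lc P k, ψ y = ψ 1 * (ev l y : ℂ) := fun y hy => by
    have h1 := hrel ⟨y, lc_anti hi.le hy⟩
    have h0 : φ 1 ≠ 0 := IsIrrCharacter.apply_one_ne_zero hφ
    rw [hβ ⟨y, lc_anti hi.le hy⟩ (lc_anti (by omega) hy), Units.val_one, one_mul] at h1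
    change ψ y * φ 1 = φ y * ψ 1 at h1
    rw [hφl y hy] at h1
    refine mul_right_cancel₀ h0 (h1.trans ?_)
    ring
  obtain ⟨s, hs, hfix⟩ := h.stab ψ hψ (h.nonlinear hψ hψl (by omega) hne)
  exact ⟨s, Set.mem_univ s, hfix, fun γ hγ hγfix =>
    hfpf s (h.fixSub_le hψ hψl hfix) hs γ hγ (MonoidHom.ext fun y => hγfix y)⟩

/-- The commutator pairing is nondegenerate where the character vanishes. -/
theorem nondeg {i : ℕ} (hik : i + 1 = k) {x : P} (hx : x ∈ lc P i)
    (hvan : x ∉ lc P k → φ x = 0) (hev : ∀ y : P, ev l ⁅x, y⁆ = 1) : x ∈ lc P k := by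
  by_contra hxk
  haveI : (kerSubgroup φ (isCharacter_of_irr hφ)).Normal := kerSubgroup_normal _
  have hc : x ∈ centralMod (kerSubgroup φ (isCharacter_of_irr hφ)) := mem_centralMod.2 fun y => by
    show φ ⁅x, y⁆ = φ 1
    rw [hφl _ (comm_mem_lc (i := i) (j := 0) (by omega) hx (mem_lc_zero y)), hev y, Units.val_one, mul_one]
  have h1 := conj_mul_self hφ (K := kerSubgroup φ (isCharacter_of_irr hφ)) (fun k hk => hk) hc
  rw [hvan hxk, zero_mul] at h1
  have := deg_pos hφ
  exact mul_ne_zero (Nat.cast_ne_zero.2 this.ne') (Nat.cast_ne_zero.2 this.ne') h1.symm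

/-- Full ramification: the degree and the stabiliser. -/
theorem ramified (hl : l ∈ Lam P k) (hvan : ∀ x, x ∉ lc P k → φ x = 0) :
    deg φ ^ 2 = (lc P k).index ∧ fixSub act φ = lamStab act k l := by
  refine ⟨?_, le_antisymm (h.fixSub_le hφ hφl) fun s hs x => ?_⟩
  · have h1 := deg_sq_mul_card_eq hφ (lc P k) (fun x hx => by
      haveI : (kerSubgroup φ (isCharacter_of_irr hφ)).Normal := kerSubgroup_normal _
      refine conj_mul_self hφ (K := kerSubgroup φ (isCharacter_of_irr hφ)) (fun k hk => hk) (mem_centralMod.2 fun y => ?_)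
      exact h.trivial_next hφ hφl hl _ (comm_mem_lc (i := k) (j := 0) (by omega) hx (mem_lc_zero y))) hvan
    exact Nat.eq_of_mul_eq_mul_right Nat.card_pos (h1.trans (lc P k).index_mul_card.symm)
  · by_cases hx : x ∈ lc P k
    · rw [hφl x hx, hφl _ (map_mem_lc _ hx), ← ev_pull act k s l hx, hs]
    · rw [hvan x hx, hvan _ fun hm => hx (by
        have := map_mem_lc (act s)⁻¹ hm
        rwa [← MulAut.mul_apply, inv_mul_cancel, MulAut.one_apply] at this)]

end PData

end Cfsg.Lib.NDAD
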