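import Cfsg.Agent.Chars.NDAD.PTools

/-!
# The first factor: either fixed, or without fixed points and with a common stabiliser
-/

set_option autoImplicit false
set_option linter.unusedSectionVars false
set_option linter.style.haveILetI false

namespace Cfsg.Lib.NDAD

open Cfsg.Lib.Chars
open scoped commutatorElement

universe u v

variable {P : Type u} [Group P] [Finite P] {F : Type v} [CommGroup F] [Finite F] {act : F →* MulAut P} {q : ℕ}

/-- The data of the case without fixed points on the first factor. -/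
structure Free (act : F →* MulAut P) (F₀ : Subgroup F) : Prop where
  ne_bot : F₀ ≠ ⊥
  ne_top : F₀ ≠ ⊤
  stab : ∀ l ∈ Lam P 1, l ≠ 1 → lamStab act 1 l = F₀
  fpf1 : ∀ s, s ∉ F₀ → FpfLevel act 1 s
  fpf2 : ∀ s ∈ F₀, s ≠ 1 → FpfLevel act 2 s
  fixed : ∀ x : P, (∀ s, act s x = x) → x ∈ lc P 3

namespace PData

variable (h : PData act q)
include h

theorem mem_one_of_fixed {x : P} (hx : ∀ s, act s x = x) : x ∈ lc P 1 := by
  obtain ⟨s, hs⟩ := h.nontriv
  exact h.fpf s hs x (by rw [hx s, inv_mul_cancel]; exact one_mem _)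

/-- The first factor is fixed or has no fixed character, and then no fixed element either. -/
theorem fixed_or_free : (∀ l ∈ Lam P 1, ∀ s, pull act 1 s l = l) ∨
    ((∀ l ∈ Lam P 1, (∀ s, pull act 1 s l = l) → l = 1) ∧
      ∀ x ∈ lc P 1, (∀ s, x⁻¹ * act s x ∈ lc P 2) → x ∈ lc P 2) := by
  classical
  letI := Fintype.ofFinite F
  let n : Lam P 1 → Lam P 1 := fun l => ∏ s : F, lamAct act 1 s l
  have hnfix : ∀ l t, lamAct act 1 t (n l) = n l := fun l t => by
    simp only [n, map_prod]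
    exact Fintype.prod_equiv (Equiv.mulLeft t) _ _ fun s => by
      rw [Equiv.coe_mulLeft, map_mul, MulAut.mul_apply]
  have hcop : (Fintype.card F).Coprime q := Nat.card_eq_fintype_card (α := F) ▸ h.cop
  have hq : ∀ l : Lam P 1, l ^ q = 1 := fun l => Subtype.ext (h.lam_pow le_rfl l.2)
  -- evaluation of the norm
  have hev : ∀ (l : Lam P 1) {x : P}, x ∈ lc P 1 → (∀ s, x⁻¹ * act s x ∈ lc P 2) →
      ev (n l).1 x = ev l.1 x ^ Fintype.card F := by
    intro l x hx hfx
    have hone : ∀ s : F, ev (lamAct act 1 s l).1 x = ev l.1 x := fun s => by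
      rw [lamAct_coe, ev_pull act 1 s _ hx, show act s x = x * (x⁻¹ * act s x) by group,
        ev_mul _ hx (lc_anti (Nat.le_succ 1) (hfx s)), ev_next l.2 (hfx s), mul_one]
    let E : Lam P 1 →* ℂˣ :=
      { toFun := fun m => ev m.1 x
        map_one' := ev_one_left x
        map_mul' := fun a b => ev_mul_left a.1 b.1 x }
    show E (n l) = E l ^ _
    simp only [n, map_prod]
    refine (Finset.prod_congr rfl (g := fun _ => E l) fun s _ => hone s).trans ?_
    rw [Finset.prod_const, Finset.card_univ]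
  have key : ∀ l : Lam P 1, n l ≠ 1 → ∀ t, lamAct act 1 t l = l := by
    intro l hn t
    have hne : l ≠ 1 := fun e => hn (by subst e; exact Finset.prod_eq_one fun s _ => map_one _)
    set l' := l ^ Fintype.card F with hl'
    have hne' : l' ≠ 1 := fun e => hne (eq_one_of_pow_pow hcop e (hq l))
    have hne1 : ((n l : Lam P 1) : lc P 1 →* ℂˣ) ≠ 1 := fun e => hn (Subtype.ext e)
    have hne2 : ((l' : Lam P 1) : lc P 1 →* ℂˣ) ≠ 1 := fun e => hne' (Subtype.ext e)
    obtain ⟨φ, hφ, hφl, hφd, hφi, hφf, hφv⟩ := h.over_one (n l).2 hne1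
    obtain ⟨ψ, hψ, hψl, hψd, hψi, hψf, hψv⟩ := h.over_one l'.2 hne2
    have hdd : deg ψ = deg φ := Nat.pow_left_injective two_ne_zero (hψi.trans hφi.symm)
    have htop : fixSub act φ = ⊤ := by
      rw [hφf, eq_top_iff]
      intro s _
      exact congrArg Subtype.val (hnfix l s)
    have h2 := h.fix2 φ ψ hφ hψ hφd hdd (fun x hfx => by
      by_cases hx : x ∈ lc P 1
      · rw [hφl x hx, hψl x hx, hev l hx hfx, hl', Subgroup.coe_pow, ev_pow_left]
        ring
      · rw [hφv x hx, hψv x hx, zero_mul, zero_mul]) htop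
    rw [hψf] at h2
    have ht : lamAct act 1 t l' = l' := Subtype.ext (show t ∈ lamStab act 1 l'.1 from h2 ▸ Subgroup.mem_top t)
    rw [hl', map_pow] at ht
    refine div_eq_one.1 (eq_one_of_pow_pow hcop ?_ (hq _))
    rw [div_pow, ht, div_self']
  have hnsq : ∀ l, (∀ t, lamAct act 1 t l = l) → n l = l ^ Fintype.card F := fun l hl => by
    simp only [n]
    rw [Finset.prod_congr rfl (g := fun _ => l) fun s _ => hl s, Finset.prod_const, Finset.card_univ]
  have hnmul : ∀ a b, n (a * b) = n a * n b := fun a b => by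
    simp only [n, map_mul, Finset.prod_mul_distrib]
  by_cases hall : ∀ l : Lam P 1, ∀ t, lamAct act 1 t l = l
  · exact Or.inl fun l hl s => congrArg Subtype.val (hall ⟨l, hl⟩ s)
  push Not at hall
  obtain ⟨l₂, t₂, hl₂⟩ := hall
  have hn2 : n l₂ = 1 := by_contra fun e => hl₂ (key l₂ e t₂)
  have hfree : ∀ l : Lam P 1, (∀ t, lamAct act 1 t l = l) → l = 1 := by
    intro l hl
    have h1 : n (l * l₂) = 1 := by_contra fun e => hl₂ (by
      have h2 := key _ e t₂
      rw [map_mul, hl t₂] at h2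
      exact mul_left_cancel h2)
    rw [hnmul, hn2, mul_one, hnsq l hl] at h1
    exact eq_one_of_pow_pow hcop h1 (hq l)
  refine Or.inr ⟨fun l hl hfix => congrArg Subtype.val (hfree ⟨l, hl⟩ fun t => Subtype.ext (hfix t)),
    fun x hx hfx => mem_next hx fun l hl => ?_⟩
  have h1 : n ⟨l, hl⟩ = 1 := hfree _ (hnfix _)
  have h2 := hev ⟨l, hl⟩ hx hfx
  rw [h1, Subgroup.coe_one, ev_one_left] at h2
  exact eq_one_of_pow_pow hcop h2.symm (h.ev_pow_q le_rfl hl x)

/-- The fixed case. -/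
theorem caseI (hfix : ∀ l ∈ Lam P 1, ∀ s, pull act 1 s l = l) :
    lc P 2 = ⊥ ∧ ∀ x ∈ lc P 1, ∀ s, act s x = x := by
  have h2 : lc P 2 = ⊥ := by
    refine h.lc_bot_of_lam fun μ hμ => by_contra fun hne => ?_
    obtain ⟨φ, hφ, hφl⟩ := h.exists_over_lam hμ
    obtain ⟨s, hs, hsφ⟩ := h.stab φ hφ (h.nonlinear hφ hφl (by omega) hne)
    exact hne (h.fpf_succ (k := 1) hs (fun x hx => h.trivial_level (fun l hl => hfix l hl s) hx) μ hμ
      (h.fixSub_le hφ hφl hsφ))
  refine ⟨h2, fun x hx s => ?_⟩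
  have h3 := h.trivial_level (fun l hl => hfix l hl s) hx
  rw [h2, Subgroup.mem_bot] at h3
  exact (eq_of_inv_mul_eq_one h3).symm

/-- The free case. -/
theorem caseII (hL : lc P 1 ≠ ⊥) (hfree : ∀ l ∈ Lam P 1, (∀ s, pull act 1 s l = l) → l = 1)
    (hfx : ∀ x ∈ lc P 1, (∀ s, x⁻¹ * act s x ∈ lc P 2) → x ∈ lc P 2) :
    ∃ F₀ : Subgroup F, Free act F₀ := by
  have hf2 : ∀ x : P, (∀ s, act s x = x) → x ∈ lc P 2 := fun x hx =>
    hfx x (h.mem_one_of_fixed hx) fun s => by rw [hx s, inv_mul_cancel]; exact one_mem _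
  have hanti : ∀ v w : Lam P 1, v ≠ 1 → w ≠ 1 → stabAct (lamAct act 1) v ≤ stabAct (lamAct act 1) w →
      stabAct (lamAct act 1) v = stabAct (lamAct act 1) w := by
    intro v w hv hw hle
    rw [stabAct_lamAct, stabAct_lamAct] at hle ⊢
    obtain ⟨φ, hφ, hφl, hφd, hφi, hφf, -⟩ := h.over_one v.2 fun e => hv (Subtype.ext e)
    obtain ⟨ψ, hψ, hψl, hψd, hψi, hψf, -⟩ := h.over_one w.2 fun e => hw (Subtype.ext e)
    have hdd : deg ψ = deg φ := Nat.pow_left_injective two_ne_zero (hψi.trans hφi.symm)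
    obtain ⟨h1, -⟩ := h.clean ψ φ hψ hφ hψd hφd (fun x hx => by
      rw [hψl x (lc_anti (Nat.le_succ 1) (hf2 x hx)), ev_next w.2 (hf2 x hx), Units.val_one, mul_one])
      (by rw [hdd, hφf, hψf]; exact mul_dvd_mul_right (Subgroup.index_dvd_of_le hle) _)
    rw [hφf, hψf] at h1
    refine Subgroup.eq_of_le_of_card_ge hle (le_of_eq ?_)
    refine Nat.eq_of_mul_eq_mul_right (Nat.pos_of_ne_zero (lamStab act 1 v.1).index_ne_zero_of_finite) ?_
    rw [Subgroup.card_mul_index, ← h1, Subgroup.card_mul_index]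
  obtain ⟨l₀, hl₀, hne₀⟩ := h.exists_lam_ne_one hL
  refine ⟨lamStab act 1 l₀, ?_⟩
  have hstab : ∀ l ∈ Lam P 1, l ≠ 1 → lamStab act 1 l = lamStab act 1 l₀ := fun l hl hne => by
    have := common_stabilizer (lamAct act 1) (h.semisimple 1) hanti (v₁ := ⟨l, hl⟩) (v₂ := ⟨l₀, hl₀⟩)
      (fun e => hne (congrArg Subtype.val e)) (fun e => hne₀ (congrArg Subtype.val e))
    rwa [stabAct_lamAct, stabAct_lamAct] at this
  have hfpf2 : ∀ s ∈ lamStab act 1 l₀, s ≠ 1 → FpfLevel act 2 s := fun s hs hs1 =>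
    h.fpf_succ (k := 1) hs1 fun x hx => h.trivial_level (fun l hl => by
      by_cases hl1 : l = 1
      · subst hl1; rfl
      · show s ∈ lamStab act 1 l
        rw [hstab l hl hl1]; exact hs) hx
  have hb := h.lamStab_one_ne_bot hl₀ hne₀
  obtain ⟨s₀, hs₀, hs₀1⟩ := (Subgroup.bot_or_exists_ne_one _).resolve_left hb
  exact
    { ne_bot := hb
      ne_top := fun e => hne₀ (hfree l₀ hl₀ fun s => mem_lamStab act |>.1 (e ▸ Subgroup.mem_top s))
      stab := hstab
      fpf1 := fun s hs l hl hfix => by_contra fun hne => hs (hstab l hl hne ▸ hfix)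
      fpf2 := hfpf2
      fixed := fun x hx => mem_next_of_fixed (hfpf2 s₀ hs₀ hs₀1) (hf2 x hx)
        (by rw [hx s₀, inv_mul_cancel]; exact one_mem _) }

end PData

end Cfsg.Lib.NDAD
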