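import Cfsg.Agent.Chars.NDAD.PLevel1

/-!
# The second factor
-/

set_option autoImplicit false
set_option linter.unusedSectionVars false
set_option linter.style.haveILetI false

namespace Cfsg.Lib.NDAD

open Cfsg.Lib.Chars
open scoped commutatorElement

universe u v

variable {P : Type u} [Group P]

/-- The elements whose commutator with `e` lies in the given term. -/
def comSub (e : P) (k : ℕ) : Subgroup P where
  carrier := {d | ⁅e, d⁆ ∈ lc P k}
  one_mem' := by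
    show ⁅e, (1 : P)⁆ ∈ lc P k
    rw [commutatorElement_one_right]; exact one_mem _
  mul_mem' := fun {a b} ha hb => by
    show ⁅e, a * b⁆ ∈ lc P k
    rw [show ⁅e, a * b⁆ = ⁅e, a⁆ * (a * ⁅e, b⁆ * a⁻¹) by simp only [commutatorElement_def]; group]
    exact mul_mem ha ((inferInstance : (lc P k).Normal).conj_mem _ hb a)
  inv_mem' := fun {a} ha => by
    show ⁅e, a⁻¹⁆ ∈ lc P k
    rw [show ⁅e, a⁻¹⁆ = a⁻¹ * ⁅e, a⁆⁻¹ * a⁻¹⁻¹ by simp only [commutatorElement_def]; group]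
    exact (inferInstance : (lc P k).Normal).conj_mem _ (inv_mem ha) a⁻¹

theorem mem_comSub {e d : P} {k : ℕ} : d ∈ comSub e k ↔ ⁅e, d⁆ ∈ lc P k := Iff.rfl

theorem ev_comm_mul_right' {k : ℕ} {l : lc P k →* ℂˣ} (hl : l ∈ Lam P k) {x y y' : P}
    (h1 : ⁅x, y⁆ ∈ lc P k) (h2 : ⁅x, y'⁆ ∈ lc P k) :
    ev l ⁅x, y * y'⁆ = ev l ⁅x, y⁆ * ev l ⁅x, y'⁆ := by
  rw [show ⁅x, y * y'⁆ = ⁅x, y⁆ * (y * ⁅x, y'⁆ * y⁻¹) by simp only [commutatorElement_def]; group,
    ev_mul l h1 ((inferInstance : (lc P k).Normal).conj_mem _ h2 y), ev_conj hl h2]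

theorem ev_comm_mul_left' {k : ℕ} {l : lc P k →* ℂˣ} (hl : l ∈ Lam P k) {x x' y : P}
    (h1 : ⁅x, y⁆ ∈ lc P k) (h2 : ⁅x', y⁆ ∈ lc P k) :
    ev l ⁅x * x', y⁆ = ev l ⁅x, y⁆ * ev l ⁅x', y⁆ := by
  rw [show ⁅x * x', y⁆ = (x * ⁅x', y⁆ * x⁻¹) * ⁅x, y⁆ by simp only [commutatorElement_def]; group,
    ev_mul l ((inferInstance : (lc P k).Normal).conj_mem _ h2 x) h1, ev_conj hl h2, mul_comm]

variable [Finite P]

theorem card_comSub {k : ℕ} {e : P} (hk : ∀ d : P, ⁅e, d⁆ ∈ lc P k)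
    (hnd : ∀ l ∈ Lam P k, (∀ d : P, ev l ⁅e, d⁆ = 1) → l = 1) :
    Nat.card (comSub e (k + 1)) * Nat.card (Lam P k) = Nat.card P := by
  have h : IsPairing (fun (d : P) (l : Lam P k) => ev l.1 ⁅e, d⁆) :=
    ⟨fun a b l => ev_comm_mul_right' l.2 (hk a) (hk b), fun d l l' => ev_mul_left l.1 l'.1 _⟩
  have e1 : h.annR = ⊥ := by
    rw [eq_bot_iff]
    intro l hl
    exact Subgroup.mem_bot.2 (Subtype.ext (hnd l.1 l.2 hl))
  have e2 : Nat.card h.annL = Nat.card (comSub e (k + 1)) :=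
    Nat.card_congr (Equiv.subtypeEquivRight fun d =>
      ⟨fun hd => mem_next (hk d) fun l hl => hd ⟨l, hl⟩, fun hd l => ev_next l.2 hd⟩)
  have h2 := h.card_ann
  rw [e1, Subgroup.card_bot, one_mul, e2] at h2
  rw [h2, mul_comm]

variable {F : Type v} [CommGroup F] [Finite F] {act : F →* MulAut P} {q : ℕ}

/-- The data of the second factor. -/
structure Two (act : F →* MulAut P) (F₀ F₁ : Subgroup F) : Prop where
  ne_bot : F₁ ≠ ⊥
  inf : F₁ ⊓ F₀ = ⊥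
  stab : ∀ μ ∈ Lam P 2, μ ≠ 1 → lamStab act 2 μ = F₁
  nondeg : ∀ μ ∈ Lam P 2, μ ≠ 1 → ∀ x ∈ lc P 1, (∀ y : P, ev μ ⁅x, y⁆ = 1) → x ∈ lc P 2
  above : ∀ μ ∈ Lam P 2, μ ≠ 1 → ∀ φ : P → ℂ, Cfsg.IsIrrCharacter P φ →
    (∀ x ∈ lc P 2, φ x = φ 1 * (ev μ x : ℂ)) → deg φ ^ 2 = (lc P 2).index ∧ fixSub act φ = F₁ ∧ deg φ ≠ 1

namespace PData

variable (h : PData act q)
include h

theorem two {F₀ : Subgroup F} (hf : Free act F₀) (hL : lc P 2 ≠ ⊥) : ∃ F₁ : Subgroup F, Two act F₀ F₁ := by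
  have hinf : ∀ μ ∈ Lam P 2, μ ≠ 1 → lamStab act 2 μ ⊓ F₀ = ⊥ := fun μ hμ hne => by
    rw [eq_bot_iff]
    intro s hs
    rw [Subgroup.mem_bot]
    by_contra hs1
    exact hne (hf.fpf2 s hs.2 hs1 μ hμ hs.1)
  have hover : ∀ μ ∈ Lam P 2, μ ≠ 1 → ∀ φ : P → ℂ, Cfsg.IsIrrCharacter P φ →
      (∀ x ∈ lc P 2, φ x = φ 1 * (ev μ x : ℂ)) → deg φ ^ 2 = (lc P 2).index ∧
        fixSub act φ = lamStab act 2 μ ∧ deg φ ≠ 1 ∧ ∀ x, x ∉ lc P 2 → φ x = 0 := by
    intro μ hμ hne φ hφ hφl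
    have hv : ∀ x, x ∉ lc P 2 → φ x = 0 := fun x hx => by
      by_cases hx1 : x ∈ lc P 1
      · refine h.vanish hφ hφl hne (i := 1) (by omega) (fun s hs hs1 => hf.fpf1 s fun h0 => hs1 ?_) hx1 hx
        have := hinf μ hμ hne
        exact Subgroup.mem_bot.1 (this ▸ Subgroup.mem_inf.2 ⟨hs, h0⟩)
      · exact h.vanish hφ hφl hne (i := 0) (by omega) (fun s _ hs => h.fpf_zero hs) (mem_lc_zero x) hx1
    exact ⟨(h.ramified hφ hφl hμ hv).1, (h.ramified hφ hφl hμ hv).2, h.nonlinear hφ hφl (by omega) hne, hv⟩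
  have hanti : ∀ v w : Lam P 2, v ≠ 1 → w ≠ 1 → stabAct (lamAct act 2) v ≤ stabAct (lamAct act 2) w →
      stabAct (lamAct act 2) v = stabAct (lamAct act 2) w := by
    intro v w hv hw hle
    rw [stabAct_lamAct, stabAct_lamAct] at hle ⊢
    obtain ⟨φ, hφ, hφl⟩ := h.exists_over_lam v.2
    obtain ⟨ψ, hψ, hψl⟩ := h.exists_over_lam w.2
    obtain ⟨hφi, hφf, hφd, -⟩ := hover v.1 v.2 (fun e => hv (Subtype.ext e)) φ hφ hφl
    obtain ⟨hψi, hψf, hψd, -⟩ := hover w.1 w.2 (fun e => hw (Subtype.ext e)) ψ hψ hψl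
    have hdd : deg ψ = deg φ := Nat.pow_left_injective two_ne_zero (hψi.trans hφi.symm)
    obtain ⟨h1, -⟩ := h.clean ψ φ hψ hφ hψd hφd (fun x hx => by
      rw [hψl x (lc_anti (Nat.le_succ 2) (hf.fixed x hx)), ev_next w.2 (hf.fixed x hx), Units.val_one, mul_one])
      (by rw [hdd, hφf, hψf]; exact mul_dvd_mul_right (Subgroup.index_dvd_of_le hle) _)
    rw [hφf, hψf] at h1
    refine Subgroup.eq_of_le_of_card_ge hle (le_of_eq ?_)
    refine Nat.eq_of_mul_eq_mul_right (Nat.pos_of_ne_zero (lamStab act 2 v.1).index_ne_zero_of_finite) ?_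
    rw [Subgroup.card_mul_index, ← h1, Subgroup.card_mul_index]
  obtain ⟨μ₀, hμ₀, hne₀⟩ := h.exists_lam_ne_one hL
  have hstab : ∀ μ ∈ Lam P 2, μ ≠ 1 → lamStab act 2 μ = lamStab act 2 μ₀ := fun μ hμ hne => by
    have := common_stabilizer (lamAct act 2) (h.semisimple 2) hanti (v₁ := ⟨μ, hμ⟩) (v₂ := ⟨μ₀, hμ₀⟩)
      (fun e => hne (congrArg Subtype.val e)) (fun e => hne₀ (congrArg Subtype.val e))
    rwa [stabAct_lamAct, stabAct_lamAct] at this
  refine ⟨lamStab act 2 μ₀, ?_, hinf μ₀ hμ₀ hne₀, hstab, fun μ hμ hne x hx hev => ?_, fun μ hμ hne φ hφ hφl => ?_⟩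
  · obtain ⟨φ, hφ, hφl⟩ := h.exists_over_lam hμ₀
    obtain ⟨-, hfix, hd, -⟩ := hover μ₀ hμ₀ hne₀ φ hφ hφl
    obtain ⟨s, hs, hsφ⟩ := h.stab φ hφ hd
    intro hb
    rw [hb] at hfix
    exact hs (Subgroup.mem_bot.1 (hfix ▸ (hsφ : s ∈ fixSub act φ)))
  · obtain ⟨φ, hφ, hφl⟩ := h.exists_over_lam hμ
    exact h.nondeg hφ hφl (i := 1) rfl hx ((hover μ hμ hne φ hφ hφl).2.2.2 x) hev
  · obtain ⟨h1, h2, h3, -⟩ := hover μ hμ hne φ hφ hφl
    exact ⟨h1, h2.trans (hstab μ hμ hne), h3⟩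

end PData

/-- The annihilator of the first term for a character of the second factor. -/
abbrev annE {μ : lc P 2 →* ℂˣ} (hμ : μ ∈ Lam P 2) : Subgroup P := rann (i := 1) (k := 2) le_rfl hμ

theorem lc_one_le_annE {μ : lc P 2 →* ℂˣ} (hμ : μ ∈ Lam P 2) : lc P 1 ≤ annE hμ := fun _ hy _ hx =>
  ev_next hμ (comm_mem_lc (i := 1) (j := 1) le_rfl hx hy)

namespace Two

variable {F₀ F₁ : Subgroup F} (t : Two act F₀ F₁)
include t

theorem card_annE {μ : lc P 2 →* ℂˣ} (hμ : μ ∈ Lam P 2) (hne : μ ≠ 1) :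
    Nat.card (annE hμ) = (lc P 1).index * Nat.card (lc P 2) := by
  have h1 := card_rann (i := 1) (k := 2) le_rfl (by omega) hμ fun x hx =>
    ⟨fun h2 y => ev_next hμ (comm_mem_lc (i := 2) (j := 0) le_rfl h2 (mem_lc_zero y)), t.nondeg μ hμ hne x hx⟩
  rw [← Subgroup.index_mul_card (lc P 1), mul_right_comm] at h1
  exact Nat.eq_of_mul_eq_mul_right Nat.card_pos h1

theorem isotropic {μ : lc P 2 →* ℂˣ} (hμ : μ ∈ Lam P 2) (hne : μ ≠ 1) {a b : P} (ha : a ∈ annE hμ)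
    (hb : b ∈ annE hμ) : ⁅a, b⁆ ∈ lc P 2 := by
  refine t.nondeg μ hμ hne _ (comm_mem_lc (i := 0) (j := 0) le_rfl (mem_lc_zero a) (mem_lc_zero b)) fun c => ?_
  have h1 := ev_jacobi (i := 0) (j := 0) (h := 0) rfl hμ (mem_lc_zero a) (mem_lc_zero b) (mem_lc_zero c)
  rwa [ha _ (comm_mem_lc (i := 0) (j := 0) le_rfl (mem_lc_zero b) (mem_lc_zero c)),
    hb _ (comm_mem_lc (i := 0) (j := 0) le_rfl (mem_lc_zero c) (mem_lc_zero a)), mul_one, mul_one] at h1

variable (h : PData act q) (hL : lc P 2 ≠ ⊥)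
include h hL

theorem lc_one_ne_bot : lc P 1 ≠ ⊥ := fun e => hL (le_bot_iff.1 ((lc_anti (by omega)).trans e.le))

theorem sq : (lc P 1).index = Nat.card (Lam P 1) ^ 2 := by
  haveI := Fact.mk h.hq
  have hL1 := t.lc_one_ne_bot h hL
  refine le_antisymm ?_ ?_
  · obtain ⟨μ, hμ, hne⟩ := h.exists_lam_ne_one hL
    obtain ⟨l, hl, hlne⟩ := h.exists_lam_ne_one hL1
    have hp : IsPairing (fun (x : annE hμ) (y : P) => ev l ⁅(x : P), y⁆) :=
      ⟨fun x x' y => ev_comm_mul_left (i := 0) (j := 0) le_rfl hl (mem_lc_zero _) (mem_lc_zero _) (mem_lc_zero y),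
        fun x y y' => ev_comm_mul_right (i := 0) (j := 0) le_rfl hl (mem_lc_zero _) (mem_lc_zero y) (mem_lc_zero y')⟩
    have e1 : Nat.card (annE hμ) ≤ Nat.card hp.annR :=
      Subgroup.card_le_of_le fun y hy x => ev_next hl (t.isotropic hμ hne x.2 hy)
    have e2 : Nat.card hp.annL ≤ Nat.card (lc P 1) :=
      Nat.card_le_card_of_injective (α := hp.annL) (β := lc P 1) (fun x => ⟨(x : annE hμ), h.nondeg1 hl hlne x.2⟩) fun a b e =>
        Subtype.ext (Subtype.ext (congrArg Subtype.val e :))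
    have h2 := (Nat.mul_le_mul_right (Nat.card (annE hμ)) e1).trans
      (hp.card_ann.le.trans (Nat.mul_le_mul_left (Nat.card P) e2))
    rw [t.card_annE hμ hne, ← Subgroup.index_mul_card (lc P 1), ← card_lam (P := P) 1] at h2
    refine Nat.le_of_mul_le_mul_right (c := (lc P 1).index * Nat.card (lc P 2) ^ 2) ?_
      (Nat.mul_pos (Nat.pos_of_ne_zero (lc P 1).index_ne_zero_of_finite) (pow_pos (Nat.card_pos (α := lc P 2)) 2))
    calc (lc P 1).index * ((lc P 1).index * Nat.card (lc P 2) ^ 2)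
        = (lc P 1).index * Nat.card (lc P 2) * ((lc P 1).index * Nat.card (lc P 2)) := by ring
      _ ≤ _ := h2
      _ = _ := by ring
  · exact card_family_sq_le q (fun l => Subtype.ext (h.lam_pow le_rfl l.2)) (lc P 1) (h.pow_mem_one hL1)
      (fun e => hL1 (le_bot_iff.1 ((lc_anti (Nat.zero_le 1)).trans
        (h.lc_eq_bot_of_stable (k := 0) (e ▸ le_top)).le)))
      (fun l x y => ev l.1 ⁅x, y⁆)
      (fun l => ⟨fun x x' y => ev_comm_mul_left (i := 0) (j := 0) le_rfl l.2 (mem_lc_zero x) (mem_lc_zero x') (mem_lc_zero y),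
        fun x y y' => ev_comm_mul_right (i := 0) (j := 0) le_rfl l.2 (mem_lc_zero x) (mem_lc_zero y) (mem_lc_zero y')⟩)
      (fun l l' a b => ev_mul_left l.1 l'.1 _) (fun l a => ev_comm_self l.1 a)
      (fun l k hk b => ev_next l.2 (comm_mem_lc (i := 1) (j := 0) le_rfl hk (mem_lc_zero b)))
      (fun l hl a ha => h.nondeg1 l.2 (fun e => hl (Subtype.ext e)) ha)

theorem card_annE' {μ : lc P 2 →* ℂˣ} (hμ : μ ∈ Lam P 2) (hne : μ ≠ 1) :
    Nat.card (annE hμ) = Nat.card (Lam P 1) * Nat.card (lc P 1) := by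
  rw [t.card_annE hμ hne, t.sq h hL, ← card_lam (P := P) 1]; ring

theorem card_comSub_one {e : P} (he : e ∉ lc P 1) :
    Nat.card (comSub e 2) = Nat.card (Lam P 1) * Nat.card (lc P 1) := by
  have h1 := card_comSub (k := 1) (e := e)
    (fun d => comm_mem_lc (i := 0) (j := 0) le_rfl (mem_lc_zero e) (mem_lc_zero d))
    fun l hl hev => by_contra fun hne => he (h.nondeg1 hl hne hev)
  rw [← Subgroup.index_mul_card (lc P 1), t.sq h hL] at h1
  refine Nat.eq_of_mul_eq_mul_right (Nat.card_pos (α := Lam P 1)) (h1.trans ?_)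
  ring

theorem annE_eq_comSub {μ : lc P 2 →* ℂˣ} (hμ : μ ∈ Lam P 2) (hne : μ ≠ 1) {e : P} (he : e ∈ annE hμ)
    (he1 : e ∉ lc P 1) : annE hμ = comSub e 2 :=
  Subgroup.eq_of_le_of_card_ge (fun _ hd => t.isotropic hμ hne he hd)
    (by rw [t.card_comSub_one h hL he1, t.card_annE' h hL hμ hne])

theorem two_le_z : 2 ≤ Nat.card (Lam P 1) := by
  obtain ⟨l, hl, hne⟩ := h.exists_lam_ne_one (t.lc_one_ne_bot h hL)
  haveI : Nontrivial (Lam P 1) := ⟨⟨l, hl⟩, 1, fun e => hne (congrArg Subtype.val e)⟩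
  exact Finite.one_lt_card

/-- The characters of the second factor with a given annihilator form a small group. -/
theorem card_class {μ₀ : lc P 2 →* ℂˣ} (hμ₀ : μ₀ ∈ Lam P 2) (hne₀ : μ₀ ≠ 1) :
    Nat.card {μ : Lam P 2 // ∀ x ∈ lc P 1, ∀ e ∈ annE hμ₀, ev μ.1 ⁅x, e⁆ = 1} ^ 2 ≤ Nat.card (Lam P 1) := by
  haveI := Fact.mk h.hq
  set E := annE hμ₀ with hE
  haveI hEn : E.Normal := normal_of_lc_one_le (lc_one_le_annE hμ₀)
  let ΛE : Subgroup (Lam P 2) :=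
    { carrier := {μ | ∀ x ∈ lc P 1, ∀ e ∈ E, ev μ.1 ⁅x, e⁆ = 1}
      one_mem' := fun _ _ _ _ => ev_one_left _
      mul_mem' := fun {a b} ha hb x hx e he => by
        rw [Subgroup.coe_mul, ev_mul_left, ha x hx e he, hb x hx e he, one_mul]
      inv_mem' := fun {a} ha x hx e he => by
        have h1 : ev (a⁻¹ : Lam P 2).1 ⁅x, e⁆ * ev a.1 ⁅x, e⁆ = 1 := by
          rw [← ev_mul_left, ← Subgroup.coe_mul, inv_mul_cancel, Subgroup.coe_one, ev_one_left]
        rwa [ha x hx e he, mul_one] at h1 }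
  show Nat.card ΛE ^ 2 ≤ _
  have hiso : ∀ a b : E, ⁅(a : P), (b : P)⁆ ∈ lc P 2 := fun a b => t.isotropic hμ₀ hne₀ a.2 b.2
  haveI : ((lc P 1).subgroupOf E).Normal := inferInstance
  have hEcard : Nat.card E = Nat.card (Lam P 1) * Nat.card (lc P 1) := t.card_annE' h hL hμ₀ hne₀
  have hidx : ((lc P 1).subgroupOf E).index = Nat.card (Lam P 1) := by
    have h1 := ((lc P 1).subgroupOf E).index_mul_card
    rw [Nat.card_congr (Subgroup.subgroupOfEquivOfLe (lc_one_le_annE hμ₀)).toEquiv, hEcard] at h1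
    exact Nat.eq_of_mul_eq_mul_right Nat.card_pos h1
  have hEidx : E.index = Nat.card (Lam P 1) := by
    have h1 := E.index_mul_card
    rw [← Subgroup.index_mul_card (lc P 1), t.sq h hL, hEcard] at h1
    refine Nat.eq_of_mul_eq_mul_right (Nat.mul_pos (Nat.card_pos (α := Lam P 1)) (Nat.card_pos (α := lc P 1))) ?_
    rw [h1]; ring
  rw [← hidx]
  refine card_family_sq_le q (fun μ => Subtype.ext (Subtype.ext (h.lam_pow (by omega) μ.1.2))) _
    (fun x => Subgroup.mem_subgroupOf.2 (by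
      rw [Subgroup.coe_pow]; exact h.pow_mem_one (t.lc_one_ne_bot h hL) _)) (fun e => ?_)
    (fun μ (a b : E) => ev μ.1.1 ⁅(a : P), (b : P)⁆)
    (fun μ => ⟨fun x x' y => ev_comm_mul_left' μ.1.2 (hiso x y) (hiso x' y),
      fun x y y' => ev_comm_mul_right' μ.1.2 (hiso x y) (hiso x y')⟩)
    (fun μ μ' a b => ev_mul_left μ.1.1 μ'.1.1 _) (fun μ a => ev_comm_self μ.1.1 _)
    (fun μ k hk b => μ.2 _ hk _ b.2) (fun μ hμ a ha => ?_)
  · rw [e, Subgroup.index_top] at hidx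
    have := t.two_le_z h hL
    omega
  -- the radical
  have hne : (μ.1.1 : lc P 2 →* ℂˣ) ≠ 1 := fun e => hμ (Subtype.ext (Subtype.ext e))
  let A : Subgroup P :=
    { carrier := {x | x ∈ E ∧ ∀ b ∈ E, ev μ.1.1 ⁅x, b⁆ = 1}
      one_mem' := ⟨one_mem _, fun b _ => by rw [commutatorElement_one_left, ev_one]⟩
      mul_mem' := fun {x y} hx hy => ⟨mul_mem hx.1 hy.1, fun b hb => by
        rw [ev_comm_mul_left' μ.1.2 (hiso ⟨x, hx.1⟩ ⟨b, hb⟩) (hiso ⟨y, hy.1⟩ ⟨b, hb⟩), hx.2 b hb, hy.2 b hb, one_mul]⟩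
      inv_mem' := fun {x} hx => ⟨inv_mem hx.1, fun b hb => by
        have h1 := ev_comm_mul_left' μ.1.2 (hiso ⟨x⁻¹, inv_mem hx.1⟩ ⟨b, hb⟩) (hiso ⟨x, hx.1⟩ ⟨b, hb⟩)
        rw [inv_mul_cancel, commutatorElement_one_left, ev_one, hx.2 b hb, mul_one] at h1
        exact h1.symm⟩ }
  obtain ⟨φ, hφ, hφl⟩ := h.exists_over_lam μ.1.2
  obtain ⟨hdeg, -, -⟩ := t.above μ.1.1 μ.1.2 hne φ hφ hφl
  have hb := deg_sq_mul_card_le_index hφ E A (fun x hx => hx.1) fun x hx b hb => by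
    rw [hφl _ (hiso ⟨x, hx.1⟩ ⟨b, hb⟩), hx.2 b hb, Units.val_one, mul_one]
  rw [hdeg, hEidx, ← Subgroup.index_mul_card (lc P 2)] at hb
  have hle : lc P 1 ≤ A := fun x hx => ⟨lc_one_le_annE hμ₀ hx, fun b hb => μ.2 x hx b hb⟩
  have heq : lc P 1 = A := Subgroup.eq_of_le_of_card_ge hle (by
    refine Nat.le_of_mul_le_mul_left (hb.trans (le_of_eq ?_))
      (Nat.pos_of_ne_zero (lc P 2).index_ne_zero_of_finite)
    rw [← card_lam (P := P) 1]; ring)
  exact Subgroup.mem_subgroupOf.2 (heq ▸ (⟨a.2, fun b hb => ha ⟨b, hb⟩⟩ : (a : P) ∈ A))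

/-- All characters having a common annihilator. -/
theorem card_of_common {e : P} (he : e ∉ lc P 1) (hcom : ∀ (μ : lc P 2 →* ℂˣ) (hμ : μ ∈ Lam P 2), e ∈ annE hμ) :
    Nat.card (Lam P 2) ^ 2 ≤ Nat.card (Lam P 1) := by
  obtain ⟨μ₀, hμ₀, hne₀⟩ := h.exists_lam_ne_one hL
  refine le_trans (le_of_eq ?_) (t.card_class h hL hμ₀ hne₀)
  rw [Nat.card_congr (Equiv.subtypeUnivEquiv fun μ x hx d hd => ?_)]
  by_cases hμ1 : μ = 1
  · rw [hμ1, Subgroup.coe_one, ev_one_left]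
  · have hne : (μ.1 : lc P 2 →* ℂˣ) ≠ 1 := fun e' => hμ1 (Subtype.ext e')
    rw [t.annE_eq_comSub h hL hμ₀ hne₀ (hcom μ₀ hμ₀) he, ← t.annE_eq_comSub h hL μ.2 hne (hcom μ.1 μ.2) he] at hd
    exact hd x hx

/-- The second factor is small. -/
theorem bound : Nat.card (Lam P 2) ^ 2 < Nat.card (Lam P 1) ^ 3 := by
  classical
  letI := Fintype.ofFinite P
  letI := Fintype.ofFinite (Lam P 2)
  set z := Nat.card (Lam P 1) with hz
  set a := Nat.sqrt z
  let E : Lam P 2 → Subgroup P := fun μ => annE μ.2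
  let S : Finset (Lam P 2) := Finset.univ.filter (· ≠ 1)
  let T : Finset (Subgroup P) := S.image E
  let L : Finset P := Finset.univ.filter (· ∈ lc P 1)
  let U : Subgroup P → Finset P := fun X => Finset.univ.filter (· ∈ X) \ L
  have hfil : ∀ X : Subgroup P, (Finset.univ.filter (· ∈ X)).card = Nat.card X := fun X => by
    rw [Nat.card_eq_fintype_card, Fintype.card_subtype]
  have hz2 := t.two_le_z h hL
  have hT : T.card * ((z - 1) * Nat.card (lc P 1)) ≤ (z ^ 2 - 1) * Nat.card (lc P 1) := by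
    have hdisj : ∀ X ∈ T, ∀ Y ∈ T, X ≠ Y → Disjoint (U X) (U Y) := by
      intro X hX Y hY hXY
      obtain ⟨μ, hμ, rfl⟩ := Finset.mem_image.1 hX
      obtain ⟨ν, hν, rfl⟩ := Finset.mem_image.1 hY
      rw [Finset.disjoint_left]
      intro e he he'
      simp only [U, L, Finset.mem_sdiff, Finset.mem_filter, Finset.mem_univ, true_and] at he he'
      refine hXY ?_
      simp only [E]
      rw [t.annE_eq_comSub h hL μ.2 (fun e' => (Finset.mem_filter.1 hμ).2 (Subtype.ext e')) he.1 he.2,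
        t.annE_eq_comSub h hL ν.2 (fun e' => (Finset.mem_filter.1 hν).2 (Subtype.ext e')) he'.1 he'.2]
    have h1 : (T.biUnion U).card ≤ (Finset.univ \ L).card :=
      Finset.card_le_card fun e he => by
        obtain ⟨X, -, hX⟩ := Finset.mem_biUnion.1 he
        exact Finset.mem_sdiff.2 ⟨Finset.mem_univ _, (Finset.mem_sdiff.1 hX).2⟩
    rw [Finset.card_biUnion hdisj, Finset.card_sdiff_of_subset (Finset.subset_univ _), Finset.card_univ,
      Finset.sum_congr rfl (g := fun _ => (z - 1) * Nat.card (lc P 1)) (fun X hX => ?_), Finset.sum_const,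
      smul_eq_mul, ← Nat.card_eq_fintype_card, ← Subgroup.index_mul_card (lc P 1), t.sq h hL,
      show L.card = Nat.card (lc P 1) from hfil _] at h1
    · rw [Nat.sub_mul (z ^ 2) 1, one_mul]
      exact h1
    · obtain ⟨μ, hμ, rfl⟩ := Finset.mem_image.1 hX
      simp only [U, L]
      rw [Finset.card_sdiff_of_subset (fun e he => by
          simp only [Finset.mem_filter, Finset.mem_univ, true_and] at he ⊢
          exact lc_one_le_annE μ.2 he), hfil, hfil,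
        t.card_annE' h hL μ.2 (fun e' => (Finset.mem_filter.1 hμ).2 (Subtype.ext e')), Nat.sub_mul, one_mul]
  have hT' : T.card ≤ z + 1 := by
    refine Nat.le_of_mul_le_mul_right (Nat.le_of_mul_le_mul_right ?_ (Nat.card_pos (α := lc P 1)))
      (by omega : 0 < z - 1)
    rw [mul_assoc]
    refine hT.trans (le_of_eq ?_)
    rw [show z ^ 2 - 1 = (z + 1) * (z - 1) by rw [← Nat.sq_sub_sq z 1, one_pow]]
  have hS : S.card ≤ (a - 1) * T.card := by
    refine Finset.card_le_mul_card_image S (a - 1) fun X hX => ?_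
    obtain ⟨μ₀, hμ₀, rfl⟩ := Finset.mem_image.1 hX
    have hne₀ : (μ₀.1 : lc P 2 →* ℂˣ) ≠ 1 := fun e' => (Finset.mem_filter.1 hμ₀).2 (Subtype.ext e')
    have h1 := t.card_class h hL μ₀.2 hne₀
    rw [Nat.card_eq_fintype_card, Fintype.card_subtype, pow_two, ← Nat.le_sqrt] at h1
    set C := Finset.univ.filter fun μ : Lam P 2 => ∀ x ∈ lc P 1, ∀ e ∈ annE μ₀.2, ev μ.1 ⁅x, e⁆ = 1
    have hsub : S.filter (fun μ => E μ = E μ₀) ⊆ C.erase 1 := fun μ hμ => by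
      obtain ⟨hμS, hμE⟩ := Finset.mem_filter.1 hμ
      refine Finset.mem_erase.2 ⟨(Finset.mem_filter.1 hμS).2, Finset.mem_filter.2 ⟨Finset.mem_univ _, ?_⟩⟩
      intro x hx e he
      rw [show annE μ₀.2 = annE μ.2 from hμE.symm] at he
      exact he x hx
    refine (Finset.card_le_card hsub).trans ?_
    rw [Finset.card_erase_of_mem (Finset.mem_filter.2 ⟨Finset.mem_univ _, fun _ _ _ _ => by
      rw [Subgroup.coe_one, ev_one_left]⟩)]
    exact Nat.sub_le_sub_right h1 1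
  have hw : Nat.card (Lam P 2) = S.card + 1 := by
    rw [Nat.card_eq_fintype_card, ← Finset.card_univ]
    simp only [S, Finset.filter_ne']
    rw [Finset.card_erase_add_one (Finset.mem_univ _)]
  have ha1 : 1 ≤ a := Nat.le_sqrt.2 (by omega)
  have haz : a < z := Nat.sqrt_lt_self (by omega)
  have h2 : S.card ≤ (a - 1) * (z + 1) := hS.trans (Nat.mul_le_mul_left _ hT')
  have h3 : Nat.card (Lam P 2) < z * a := by
    rw [hw]
    obtain ⟨b, hb⟩ : ∃ b, a = b + 1 := ⟨a - 1, by omega⟩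
    rw [hb, Nat.add_sub_cancel] at h2
    rw [hb] at haz ⊢
    nlinarith
  calc Nat.card (Lam P 2) ^ 2 < (z * a) ^ 2 := Nat.pow_lt_pow_left h3 two_ne_zero
    _ = z ^ 2 * (a * a) := by ring
    _ ≤ z ^ 2 * z := Nat.mul_le_mul_left _ (Nat.sqrt_le z)
    _ = z ^ 3 := by ring

end Two

end Cfsg.Lib.NDAD
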