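import Cfsg.Agent.Chars.NDAD.PLevel2

/-!
# The third factor is trivial
-/

set_option autoImplicit false
set_option linter.unusedSectionVars false
set_option linter.style.haveILetI false

namespace Cfsg.Lib.NDAD

open Cfsg.Lib.Chars
open scoped commutatorElement

universe u v

variable {P : Type u} [Group P] [Finite P] {F : Type v} [CommGroup F] [Finite F] {act : F →* MulAut P} {q : ℕ}

theorem deg_dvd_deg_of_le (hq : q.Prime) (hP : IsPGroup q P) {φ ψ : P → ℂ} (hφ : Cfsg.IsIrrCharacter P φ)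
    (hψ : Cfsg.IsIrrCharacter P ψ) (hle : deg φ ≤ deg ψ) : deg φ ∣ deg ψ := by
  haveI := Fact.mk hq
  obtain ⟨n, hn⟩ := IsPGroup.iff_card.1 hP
  obtain ⟨a, -, ha⟩ := (Nat.dvd_prime_pow hq).1 (hn ▸ IsIrrCharacter.deg_dvd hφ)
  obtain ⟨b, -, hb⟩ := (Nat.dvd_prime_pow hq).1 (hn ▸ IsIrrCharacter.deg_dvd hψ)
  rw [ha, hb] at hle ⊢
  exact pow_dvd_pow q ((Nat.pow_le_pow_iff_right hq.one_lt).1 hle)

/-- The data of a character of the third factor. -/
structure Three (act : F →* MulAut P) {l : lc P 3 →* ℂˣ} (hl : l ∈ Lam P 3) : Prop where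
  ne : l ≠ 1
  nondeg : ∀ x ∈ lc P 2, (∀ y : P, ev l ⁅x, y⁆ = 1) → x ∈ lc P 3
  vanish₀ : ∀ φ : P → ℂ, Cfsg.IsIrrCharacter P φ → (∀ x ∈ lc P 3, φ x = φ 1 * (ev l x : ℂ)) →
    ∀ x, x ∉ lc P 1 → φ x = 0
  vanish₂ : ∀ φ : P → ℂ, Cfsg.IsIrrCharacter P φ → (∀ x ∈ lc P 3, φ x = φ 1 * (ev l x : ℂ)) →
    ∀ x ∈ lc P 2, x ∉ lc P 3 → φ x = 0

/-- The annihilator of the second term. -/
abbrev annF {l : lc P 3 →* ℂˣ} (hl : l ∈ Lam P 3) : Subgroup P := rann (i := 2) (k := 3) le_rfl hl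

namespace Three

variable {l : lc P 3 →* ℂˣ} {hl : l ∈ Lam P 3} (T : Three act hl)
include T

theorem card_annF : Nat.card (annF hl) * Nat.card (Lam P 2) = Nat.card P := by
  have h1 := card_rann (i := 2) (k := 3) le_rfl (by omega) hl fun x hx =>
    ⟨fun h2 y => ev_next hl (comm_mem_lc (i := 3) (j := 0) le_rfl h2 (mem_lc_zero y)), T.nondeg x hx⟩
  rw [← card_lam (P := P) 2, ← mul_assoc] at h1
  exact Nat.eq_of_mul_eq_mul_right Nat.card_pos h1

theorem jac {e x : P} (he : e ∈ annF hl) (hx : x ∈ lc P 1) (d : P) :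
    ev l ⁅⁅e, x⁆, d⁆ = (ev l ⁅⁅d, e⁆, x⁆)⁻¹ := by
  have h1 := ev_jacobi (i := 0) (j := 1) (h := 0) rfl hl (mem_lc_zero e) hx (mem_lc_zero d)
  rw [he _ (comm_mem_lc (i := 1) (j := 0) le_rfl hx (mem_lc_zero d)), mul_one] at h1
  exact eq_inv_of_mul_eq_one_left h1

theorem comm_mem_of_left {e x : P} (he : e ∈ annF hl) (hx : x ∈ lc P 1)
    (hrad : ∀ d : P, ev l ⁅⁅d, e⁆, x⁆ = 1) : ⁅e, x⁆ ∈ lc P 3 :=
  T.nondeg _ (comm_mem_lc (i := 0) (j := 1) le_rfl (mem_lc_zero e) hx) fun d => by rw [T.jac he hx, hrad, inv_one]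

end Three

/-- A proof context for the third factor. -/
structure Ctx (act : F →* MulAut P) (q : ℕ) (F₀ F₁ : Subgroup F) : Prop where
  h : PData act q
  hf : Free act F₀
  t : Two act F₀ F₁
  hL : lc P 2 ≠ ⊥

namespace Ctx

variable {F₀ F₁ : Subgroup F} (c : Ctx act q F₀ F₁)
include c

theorem fpf2' {s : F} (hs : s ∉ F₁) : FpfLevel act 2 s :=
  fun μ hμ hfix => by_contra fun hne => hs (c.t.stab μ hμ hne ▸ hfix)

theorem three {l : lc P 3 →* ℂˣ} (hl : l ∈ Lam P 3) (hne : l ≠ 1) : Three act hl := by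
  have hout : ∀ s ∈ lamStab act 3 l, s ≠ 1 → s ∉ F₁ := fun s hs hs1 hs' => by
    refine hne (c.h.fpf_succ (k := 2) hs1 (fun x hx => c.h.trivial_level (fun μ hμ => ?_) hx) l hl hs)
    by_cases hμ1 : μ = 1
    · subst hμ1; rfl
    · show s ∈ lamStab act 2 μ
      rw [c.t.stab μ hμ hμ1]; exact hs'
  have hv2 : ∀ φ : P → ℂ, Cfsg.IsIrrCharacter P φ → (∀ x ∈ lc P 3, φ x = φ 1 * (ev l x : ℂ)) →
      ∀ x ∈ lc P 2, x ∉ lc P 3 → φ x = 0 := fun φ hφ hφl x hx hx3 =>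
    c.h.vanish hφ hφl hne (i := 2) (by omega) (fun s hs hs1 => c.fpf2' (hout s hs hs1)) hx hx3
  obtain ⟨φ, hφ, hφl⟩ := c.h.exists_over_lam hl
  exact ⟨hne, fun x hx hev => c.h.nondeg hφ hφl (i := 2) rfl hx (hv2 φ hφ hφl x hx) hev,
    fun ψ hψ hψl x hx => c.h.vanish hψ hψl hne (i := 0) (by omega) (fun s _ hs => c.h.fpf_zero hs) (mem_lc_zero x) hx,
    hv2⟩

theorem card_P : Nat.card P = Nat.card (Lam P 1) ^ 2 * Nat.card (lc P 1) := by
  rw [← Subgroup.index_mul_card (lc P 1), c.t.sq c.h c.hL]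

theorem two_le_w : 2 ≤ Nat.card (Lam P 2) := by
  obtain ⟨μ, hμ, hne⟩ := c.h.exists_lam_ne_one c.hL
  haveI : Nontrivial (Lam P 2) := ⟨⟨μ, hμ⟩, 1, fun e => hne (congrArg Subtype.val e)⟩
  exact Finite.one_lt_card

/-- The form on the first term determines the character. -/
theorem eq_one_of_omega {l : lc P 3 →* ℂˣ} (hl : l ∈ Lam P 3)
    (hΩ : ∀ x ∈ lc P 1, ∀ y ∈ lc P 1, ev l ⁅x, y⁆ = 1) : l = 1 := by
  by_contra hne
  have T := c.three hl hne
  have hcomm : ∀ e ∈ annF hl, ∀ x ∈ lc P 1, ⁅e, x⁆ ∈ lc P 3 := fun e he x hx =>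
    T.comm_mem_of_left he hx fun d => hΩ _ (comm_mem_lc (i := 0) (j := 0) le_rfl (mem_lc_zero d) (mem_lc_zero e)) x hx
  have hann : ∀ (μ : lc P 2 →* ℂˣ) (hμ : μ ∈ Lam P 2), annF hl ≤ annE hμ := fun μ hμ e he x hx => by
    refine ev_next hμ ?_
    rw [← commutatorElement_inv]
    exact inv_mem (hcomm e he x hx)
  have hcard := T.card_annF
  rw [c.card_P] at hcard
  have hz := c.t.two_le_z c.h c.hL
  have hL1 : 0 < Nat.card (lc P 1) := Nat.card_pos
  by_cases hle : annF hl ≤ lc P 1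
  · have h1 : Nat.card (Lam P 1) ^ 2 ≤ Nat.card (Lam P 2) := by
      refine Nat.le_of_mul_le_mul_right (hcard.ge.trans ?_) hL1
      rw [mul_comm (Nat.card (Lam P 2))]
      exact Nat.mul_le_mul_right _ (Subgroup.card_le_of_le hle)
    have h2 := Nat.pow_le_pow_left h1 2
    rw [← pow_mul] at h2
    exact absurd (h2.trans_lt (c.t.bound c.h c.hL)) (not_lt.2 (Nat.pow_le_pow_right (by omega) (by omega)))
  obtain ⟨e, he, he1⟩ := SetLike.not_le_iff_exists.1 hle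
  have hw := c.t.card_of_common c.h c.hL he1 fun μ hμ => hann μ hμ he
  obtain ⟨μ, hμ, hμne⟩ := c.h.exists_lam_ne_one c.hL
  have h1 := (Subgroup.card_le_of_le (hann μ hμ)).trans (c.t.card_annE' c.h c.hL hμ hμne).le
  have h2 : Nat.card (Lam P 1) ≤ Nat.card (Lam P 2) := by
    refine Nat.le_of_mul_le_mul_left (c := Nat.card (lc P 1)) ?_ hL1
    refine Nat.le_of_mul_le_mul_left (c := Nat.card (Lam P 1)) ?_ (by omega)
    calc Nat.card (Lam P 1) * (Nat.card (lc P 1) * Nat.card (Lam P 1))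
        = Nat.card (annF hl) * Nat.card (Lam P 2) := by rw [hcard]; ring
      _ ≤ _ := (Nat.mul_le_mul_right _ h1).trans (le_of_eq (by ring))
  nlinarith

/-- The elements of `F₀` fix the third factor. -/
theorem fix_three {s : F} (hs : s ∈ F₀) {l : lc P 3 →* ℂˣ} (hl : l ∈ Lam P 3) : pull act 3 s l = l := by
  refine div_eq_one.1 (c.eq_one_of_omega (div_mem (pull_mem act s hl) hl) fun x hx y hy => ?_)
  have hxy : ⁅x, y⁆ ∈ lc P 3 := comm_mem_lc (i := 1) (j := 1) le_rfl hx hy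
  have htr : ∀ u ∈ lc P 1, u⁻¹ * act s u ∈ lc P 2 := fun u hu => c.h.trivial_level (fun m hm => by
    by_cases hm1 : m = 1
    · subst hm1; rfl
    · show s ∈ lamStab act 1 m
      rw [c.hf.stab m hm hm1]; exact hs) hu
  rw [ev_mem _ hxy, MonoidHom.div_apply, div_eq_one, ← ev_mem _ hxy, ← ev_mem _ hxy, ev_pull act 3 s l hxy,
    map_commutatorElement]
  have hsy : act s y ∈ lc P 1 := map_mem_lc _ hy
  conv_lhs => rw [show act s x = x * (x⁻¹ * act s x) by group]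
  rw [ev_comm_mul_left (i := 1) (j := 1) le_rfl hl hx (lc_anti (Nat.le_succ 1) (htr x hx)) hsy,
    ev_next hl (comm_mem_lc (i := 2) (j := 1) le_rfl (htr x hx) hsy), mul_one,
    show act s y = y * (y⁻¹ * act s y) by group,
    ev_comm_mul_right (i := 1) (j := 1) le_rfl hl hx hy (lc_anti (Nat.le_succ 1) (htr y hy)),
    ev_next hl (comm_mem_lc (i := 1) (j := 2) le_rfl hx (htr y hy)), mul_one]

theorem lamStab_stable {l : lc P 3 →* ℂˣ} {s : F} (hfix : pull act 3 s l = l) {i j : ℕ} (hk : 3 ≤ i + j + 1)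
    {u : P} (hu : u ∈ lc P j) (hann : ∀ x ∈ lc P i, ev l ⁅x, u⁆ = 1) : ∀ x ∈ lc P i, ev l ⁅x, act s u⁆ = 1 := by
  intro x hx
  have hx' : (act s)⁻¹ x ∈ lc P i := map_mem_lc _ hx
  have h1 := hann _ hx'
  rwa [← hfix, ev_pull act 3 s l (comm_mem_lc hk hx' hu), map_commutatorElement,
    show act s ((act s)⁻¹ x) = x from (act s).apply_symm_apply x] at h1

/-- A radical bigger than the second term is impossible. -/
theorem no_radical {l : lc P 3 →* ℂˣ} (hl : l ∈ Lam P 3) (hne : l ≠ 1) {x : P} (hx : x ∈ lc P 1)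
    (hrad : ∀ y ∈ lc P 1, ev l ⁅x, y⁆ = 1) : x ∈ lc P 2 := by
  by_contra hx2
  have T := c.three hl hne
  let R : Subgroup P :=
    { carrier := {r | r ∈ lc P 1 ∧ ∀ y ∈ lc P 1, ev l ⁅r, y⁆ = 1}
      one_mem' := ⟨one_mem _, fun y _ => by rw [commutatorElement_one_left, ev_one]⟩
      mul_mem' := fun {a b} ha hb => ⟨mul_mem ha.1 hb.1, fun y hy => by
        rw [ev_comm_mul_left (i := 1) (j := 1) le_rfl hl ha.1 hb.1 hy, ha.2 y hy, hb.2 y hy, one_mul]⟩
      inv_mem' := fun {a} ha => ⟨inv_mem ha.1, fun y hy => by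
        rw [ev_comm_inv_left (i := 1) (j := 1) le_rfl hl ha.1 hy, ha.2 y hy, inv_one]⟩ }
  have h2R : lc P 2 ≤ R := fun r hr => ⟨lc_anti (by omega) hr, fun y hy =>
    ev_next hl (comm_mem_lc (i := 2) (j := 1) le_rfl hr hy)⟩
  haveI hRn : R.Normal := ⟨fun r hr g => by
    rw [show g * r * g⁻¹ = ⁅g, r⁆ * r by rw [commutatorElement_def, inv_mul_cancel_right]]
    exact mul_mem (h2R (comm_mem_lc (i := 0) (j := 1) le_rfl (mem_lc_zero g) hr.1)) hr⟩
  have hswap : ∀ r ∈ R, ∀ y ∈ lc P 1, ev l ⁅y, r⁆ = 1 := fun r hr y hy => by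
    rw [ev_comm_swap (i := 1) (j := 1) le_rfl l hr.1 hy, hr.2 y hy, inv_one]
  have hER : ∀ r ∈ R, ∀ u ∈ annF hl, ⁅r, u⁆ ∈ lc P 3 := fun r hr u hu => by
    rw [← commutatorElement_inv]
    exact inv_mem (T.comm_mem_of_left hu hr.1 fun d =>
      hswap r hr _ (comm_mem_lc (i := 0) (j := 0) le_rfl (mem_lc_zero d) (mem_lc_zero u)))
  obtain ⟨s₀, hs₀, hs₀1⟩ := (Subgroup.bot_or_exists_ne_one _).resolve_left c.hf.ne_bot
  have hfix₀ := c.fix_three hs₀ hl
  have hβ : ∀ r ∈ R, ∀ u ∈ annF hl, ev l ⁅r, u⁆ = 1 := by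
    intro r hr u hu
    let β : annF hl →* ℂˣ :=
      { toFun := fun v => ev l ⁅r, (v : P)⁆
        map_one' := by rw [OneMemClass.coe_one, commutatorElement_one_right, ev_one]
        map_mul' := fun v w => ev_comm_mul_right' hl (hER r hr v v.2) (hER r hr w w.2) }
    have hX : ∀ v ∈ annF hl, act s₀ v ∈ annF hl := fun v hv =>
      c.lamStab_stable hfix₀ (i := 2) (j := 0) le_rfl (mem_lc_zero v) hv
    have h1 := eq_one_of_fixed_section (act s₀) (annF hl) (lc P 1) hX (fun v hv => map_mem_lc _ hv)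
      (fun v _ hv => c.h.fpf s₀ hs₀1 v hv) β (fun v hv => hr.2 _ hv) (fun v => ?_)
      (fun a _ b _ => comm_mem_lc (i := 0) (j := 0) le_rfl (mem_lc_zero a) (mem_lc_zero b))
    · exact DFunLike.congr_fun h1 ⟨u, hu⟩
    show ev l ⁅r, act s₀ (v : P)⁆ = ev l ⁅r, (v : P)⁆
    have ha : r⁻¹ * act s₀ r ∈ lc P 2 := c.h.trivial_level (fun m hm => by
      by_cases hm1 : m = 1
      · subst hm1; rfl
      · show s₀ ∈ lamStab act 1 m
        rw [c.hf.stab m hm hm1]; exact hs₀) hr.1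
    have e1 : ev l ⁅act s₀ r, act s₀ (v : P)⁆ = ev l ⁅r, (v : P)⁆ := by
      rw [← map_commutatorElement, ← ev_pull act 3 s₀ l (hER r hr v v.2), hfix₀]
    rw [← e1, show act s₀ r = r * (r⁻¹ * act s₀ r) by group,
      ev_comm_mul_left' hl (hER r hr _ (hX v v.2)) (comm_mem_lc (i := 2) (j := 0) le_rfl ha (mem_lc_zero _)),
      hX v v.2 _ ha, mul_one]
  by_cases hall : ∀ φ : P → ℂ, Cfsg.IsIrrCharacter P φ → (∀ y ∈ lc P 3, φ y = φ 1 * (ev l y : ℂ)) →
      ∃ s, s ∈ fixSub act φ ∧ s ∉ F₀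
  · obtain ⟨φ, hφ, hφl⟩ := c.h.exists_over_lam hl
    have hstabR : ∀ s ∈ lamStab act 3 l, ∀ r ∈ R, act s r ∈ R := fun s hs r hr =>
      ⟨map_mem_lc _ hr.1, fun y hy => by
        rw [ev_comm_swap (i := 1) (j := 1) le_rfl l hy (map_mem_lc _ hr.1),
          c.lamStab_stable hs (i := 1) (j := 1) le_rfl hr.1 (hswap r hr) y hy, inv_one]⟩
    have hvR : ∀ r ∈ R, r ∉ lc P 3 → φ r = 0 := by
      intro r hr hr3
      by_cases hr2 : r ∈ lc P 2
      · exact T.vanish₂ φ hφ hφl r hr2 hr3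
      by_contra hne0
      refine hr2 (mem_of_forall_linK (L := R) (K := lc P 2) (x := ⟨r, hr⟩)
        (fun a ha b hb => comm_mem_lc (i := 1) (j := 1) (by omega) ha.1 hb.1) fun β hβ' => ?_)
      have hinv : ∀ γ ∈ linK R (lc P 2), ∀ (g : P) (y : R), γ ⟨g * y * g⁻¹, hRn.conj_mem y y.2 g⟩ = γ y := by
        intro γ hγ g y
        have hgy : ⁅g, (y : P)⁆ ∈ lc P 2 := comm_mem_lc (i := 0) (j := 1) le_rfl (mem_lc_zero g) y.2.1
        rw [show (⟨g * y * g⁻¹, hRn.conj_mem y y.2 g⟩ : R) = ⟨⁅g, (y : P)⁆, h2R hgy⟩ * y from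
          Subtype.ext (by simp [commutatorElement_def]), map_mul, hγ ⟨_, h2R hgy⟩ hgy, one_mul]
      refine eq_one_of_twist act hφ R (linK R (lc P 2)) hinv {s | s ∈ lamStab act 3 l ∧ s ∉ F₀}
        (fun s hs y hy => hstabR s hs.1 y hy) (fun s hs γ hγ => ?_) (fun γ hγ ψ hψ hrel => ?_) hβ' hne0
      · exact ⟨γ.comp
          { toFun := fun y : R => (⟨act s y, hstabR s hs.1 y y.2⟩ : R)
            map_one' := Subtype.ext (map_one _)
            map_mul' := fun a b => Subtype.ext (map_mul _ _ _) },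
          fun y hy => hγ _ (map_mem_lc _ hy), fun y => rfl⟩
      · have hψl : ∀ y ∈ lc P 3, ψ y = ψ 1 * (ev l y : ℂ) := fun y hy => by
          have hy2 : y ∈ lc P 2 := lc_anti (by omega) hy
          have h1 := hrel ⟨y, h2R hy2⟩
          rw [hγ ⟨y, h2R hy2⟩ hy2, Units.val_one, one_mul] at h1
          change ψ y * φ 1 = φ y * ψ 1 at h1
          rw [hφl y hy] at h1
          refine mul_right_cancel₀ (IsIrrCharacter.apply_one_ne_zero hφ) (h1.trans ?_)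
          ring
        obtain ⟨s, hs, hs0⟩ := hall ψ hψ hψl
        refine ⟨s, ⟨c.h.fixSub_le hψ hψl hs, hs0⟩, hs, fun δ hδ hδfix => ?_⟩
        exact eq_one_of_fixed_section (act s) R (lc P 2) (hstabR s (c.h.fixSub_le hψ hψl hs))
          (fun y hy => map_mem_lc _ hy) (fun y hy hy' => mem_next_of_fixed (c.hf.fpf1 s hs0) hy.1 hy')
          δ (fun y hy => hδ y hy) (fun y => hδfix y)
          (fun a ha b hb => comm_mem_lc (i := 1) (j := 1) (by omega) ha.1 hb.1)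
    have hb := card_le_of_vanish_centralized hφ R (lc P 3) (annF hl)
      (fun a ha b hb => by
        rw [hφl _ (comm_mem_lc (i := 1) (j := 1) le_rfl ha.1 hb.1), ha.2 b hb.1, Units.val_one, mul_one])
      (fun a ha u hu => by rw [hφl _ (hER a ha u hu), hβ a ha u hu, Units.val_one, mul_one]) hvR
    have hidx : (annF hl).index = Nat.card (Lam P 2) := by
      have h1 := (annF hl).index_mul_card
      rw [← T.card_annF, mul_comm (Nat.card (annF hl))] at h1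
      exact Nat.eq_of_mul_eq_mul_right Nat.card_pos h1
    rw [hidx, card_lam 2] at hb
    have heq : lc P 2 = R := Subgroup.eq_of_le_of_card_ge h2R hb
    exact hx2 (heq ▸ (⟨hx, hrad⟩ : x ∈ R))
  push Not at hall
  obtain ⟨φ, hφ, hφl, hφF⟩ := hall
  have hφd := c.h.nonlinear hφ hφl (by omega) hne
  obtain ⟨l₁, hl₁, hne₁⟩ := c.h.exists_lam_ne_one (c.t.lc_one_ne_bot c.h c.hL)
  obtain ⟨ψ, hψ, hψl, hψd, hψi, hψf, -⟩ := c.h.over_one hl₁ hne₁
  rw [c.hf.stab l₁ hl₁ hne₁] at hψf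
  have hlt : (lc P 1).index < deg φ ^ 2 := by
    let S : Set P := {y | y ∈ lc P 1 ∧ (y ∈ lc P 2 → y ∈ lc P 3)}
    have hS := card_le_of_vanish hφ S fun y hy => by
      by_cases hy1 : y ∈ lc P 1
      · by_cases hy2 : y ∈ lc P 2
        · exact T.vanish₂ φ hφ hφl y hy2 fun hy3 => hy ⟨hy1, fun _ => hy3⟩
        · exact absurd (⟨hy1, fun h => absurd h hy2⟩ : y ∈ S) hy
      · exact T.vanish₀ φ hφ hφl y hy1
    obtain ⟨w, hw2, hw3⟩ : ∃ w, w ∈ lc P 2 ∧ w ∉ lc P 3 := by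
      by_contra hcon
      push Not at hcon
      exact c.hL (c.h.lc_eq_bot_of_stable hcon)
    have hss : Nat.card S < Nat.card (lc P 1) := by
      refine lt_of_lt_of_eq (Set.ncard_lt_ncard (s := S) (t := (lc P 1 : Set P)) ⟨fun y hy => hy.1, fun hh =>
        hw3 ((hh (lc_anti (by omega) hw2 : w ∈ lc P 1)).2 hw2)⟩) ?_
      rfl
    rw [← Subgroup.index_mul_card (lc P 1)] at hS
    by_contra hle
    exact absurd (hS.trans (Nat.mul_le_mul_right _ (not_lt.1 hle)))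
      (not_le.2 (Nat.mul_lt_mul_of_pos_left hss (Nat.pos_of_ne_zero (lc P 1).index_ne_zero_of_finite)))
  rw [← hψi] at hlt
  obtain ⟨-, h2⟩ := c.h.clean ψ φ hψ hφ hψd hφd
    (fun y hy => by
      have hy2 : y ∈ lc P 2 := lc_anti (by omega) (c.hf.fixed y hy)
      rw [hψl y (lc_anti (by omega) hy2), ev_next hl₁ hy2, Units.val_one, mul_one])
    (mul_dvd_mul (by rw [hψf]; exact Subgroup.index_dvd_of_le fun s hs => hφF s hs)
      (deg_dvd_deg_of_le c.h.hq c.h.pP hψ hφ ((Nat.pow_lt_pow_iff_left two_ne_zero).1 hlt).le))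
  rw [h2] at hlt
  exact lt_irrefl _ hlt

theorem comSub_mul_mem {e u a : P} (hu : u ∈ lc P 1) (ha : ⁅e, a⁆ ∈ lc P 2) : ⁅e * u, a⁆ ∈ lc P 2 := by
  rw [show ⁅e * u, a⁆ = (e * ⁅u, a⁆ * e⁻¹) * ⁅e, a⁆ by simp only [commutatorElement_def]; group]
  exact mul_mem ((inferInstance : (lc P 2).Normal).conj_mem _
    (comm_mem_lc (i := 1) (j := 0) le_rfl hu (mem_lc_zero a)) e) ha

/-- The third term is trivial. -/
theorem lc_three : lc P 3 = ⊥ := by
  refine c.h.lc_bot_of_lam fun l hl => by_contra fun hne => ?_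
  have T := c.three hl hne
  have hR := fun x hx hrad => c.no_radical hl hne (x := x) hx hrad
  have hz2 := c.t.two_le_z c.h c.hL
  have hw2 := c.two_le_w
  have hcard := T.card_annF
  rw [c.card_P] at hcard
  have hL1 : 0 < Nat.card (lc P 1) := Nat.card_pos
  -- the second factor is at least as large as the first
  have hzw : Nat.card (Lam P 1) ≤ Nat.card (Lam P 2) := by
    obtain ⟨x, hx, hx2⟩ : ∃ x, x ∈ lc P 1 ∧ x ∉ lc P 2 := by
      by_contra hcon
      push Not at hcon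
      exact c.hL (le_bot_iff.1 ((lc_anti (Nat.le_succ 1)).trans (c.h.lc_eq_bot_of_stable hcon).le))
    let lam : lc P 1 →* ℂˣ :=
      { toFun := fun u => ev l ⁅(u : P), x⁆
        map_one' := by rw [OneMemClass.coe_one, commutatorElement_one_left, ev_one]
        map_mul' := fun u v => ev_comm_mul_left (i := 1) (j := 1) le_rfl hl u.2 v.2 hx }
    have hlam : lam ∈ Lam P 1 := fun u hu => ev_next hl (comm_mem_lc (i := 2) (j := 1) le_rfl hu hx)
    have hker : ∀ e ∈ annF hl, ⁅x, e⁆ ∈ lc P 3 → e ∈ lc P 1 := by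
      intro e he hxe
      refine c.h.nondeg1 hlam (fun h1 => hx2 (hR x hx fun y hy => ?_)) fun d => ?_
      · have h2 : ev l ⁅y, x⁆ = 1 := DFunLike.congr_fun h1 ⟨y, hy⟩
        rw [ev_comm_swap (i := 1) (j := 1) le_rfl l hy hx, h2, inv_one]
      · have hde : ⁅d, e⁆ ∈ lc P 1 := comm_mem_lc (i := 0) (j := 0) le_rfl (mem_lc_zero d) (mem_lc_zero e)
        have h1 := T.jac he hx d
        rw [← commutatorElement_inv x e,
          ev_next hl (comm_mem_lc (i := 3) (j := 0) le_rfl (inv_mem hxe) (mem_lc_zero d))] at h1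
        have h3 : ev l ⁅⁅d, e⁆, x⁆ = 1 := by rw [← inv_inv (ev l ⁅⁅d, e⁆, x⁆), ← h1, inv_one]
        rw [ev_comm_swap (i := 0) (j := 0) (k := 1) le_rfl lam (mem_lc_zero d) (mem_lc_zero e), ev_mem lam hde]
        show (ev l ⁅⁅d, e⁆, x⁆)⁻¹ = 1
        rw [h3, inv_one]
    have hp : IsPairing (fun (e : annF hl) (μ : Lam P 2) => ev μ.1 ⁅x, (e : P)⁆) :=
      ⟨fun e e' μ => ev_comm_mul_right (i := 1) (j := 0) le_rfl μ.2 hx (mem_lc_zero _) (mem_lc_zero _),
        fun e μ μ' => ev_mul_left μ.1 μ'.1 _⟩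
    have e1 : Nat.card hp.annL ≤ Nat.card (lc P 1) :=
      Nat.card_le_card_of_injective (α := hp.annL) (β := lc P 1) (fun e => ⟨(e : annF hl), hker _ e.1.2
        (mem_next (comm_mem_lc (i := 1) (j := 0) le_rfl hx (mem_lc_zero _)) fun μ hμ => e.2 ⟨μ, hμ⟩)⟩)
        fun a b e' => Subtype.ext (Subtype.ext (congrArg Subtype.val e' :))
    have h3 : Nat.card (annF hl) ≤ Nat.card (Lam P 2) * Nat.card (lc P 1) :=
      ((Nat.le_mul_of_pos_left _ Nat.card_pos).trans hp.card_ann.le).trans (Nat.mul_le_mul_left _ e1)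
    have h4 : Nat.card (Lam P 1) ^ 2 * Nat.card (lc P 1) ≤ Nat.card (Lam P 2) ^ 2 * Nat.card (lc P 1) := by
      rw [← hcard]
      exact (Nat.mul_le_mul_right _ h3).trans (le_of_eq (by ring))
    exact (Nat.pow_le_pow_iff_left two_ne_zero).1 (Nat.le_of_mul_le_mul_right h4 hL1)
  have hF : Nat.card (annF hl) ≤ Nat.card (Lam P 1) * Nat.card (lc P 1) := by
    refine Nat.le_of_mul_le_mul_right (c := Nat.card (Lam P 2)) ?_ (by omega)
    rw [hcard, pow_two, mul_assoc, mul_assoc]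
    exact Nat.mul_le_mul_left _ ((Nat.mul_le_mul_right _ hzw).trans_eq (mul_comm _ _))
  have hiso : ∀ e ∈ annF hl, ∀ e' ∈ annF hl, ⁅e, e'⁆ ∈ lc P 2 := by
    intro e he e' he'
    refine hR _ (comm_mem_lc (i := 0) (j := 0) le_rfl (mem_lc_zero e) (mem_lc_zero e')) fun x hx => ?_
    have h1 := ev_jacobi (i := 0) (j := 0) (h := 1) rfl hl (mem_lc_zero e) (mem_lc_zero e') hx
    rwa [he _ (comm_mem_lc (i := 0) (j := 1) le_rfl (mem_lc_zero e') hx),
      he' _ (comm_mem_lc (i := 1) (j := 0) le_rfl hx (mem_lc_zero e)), mul_one, mul_one] at h1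
  by_cases hq2 : q = 2
  · -- squares of the first term lie in the third
    have hsq : ∀ x ∈ lc P 1, x ^ 2 ∈ lc P 3 := by
      intro x hx
      have hx2 : ∀ y ∈ lc P 1, y ^ 2 ∈ lc P 2 := fun y hy => by
        have := c.h.pow_mem_next le_rfl hy
        rwa [hq2] at this
      refine mem_next (hx2 x hx) fun μ hμ => ?_
      by_cases hμ1 : μ = 1
      · rw [hμ1, ev_one_left]
      let g : lc P 1 →* ℂˣ :=
        { toFun := fun u => ev μ ((u : P) ^ 2)
          map_one' := by rw [OneMemClass.coe_one, one_pow, ev_one]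
          map_mul' := fun u v => by
            have hc : ⁅(u : P)⁻¹, (v : P)⁆ ∈ lc P 3 := comm_mem_lc (i := 1) (j := 1) le_rfl (inv_mem u.2) v.2
            rw [Subgroup.coe_mul, show ((u : P) * v) ^ 2 = (u : P) ^ 2 * ⁅(u : P)⁻¹, (v : P)⁆ * (v : P) ^ 2 by
                simp only [commutatorElement_def, pow_two]; group,
              ev_mul μ (mul_mem (hx2 u u.2) (lc_anti (by omega) hc)) (hx2 v v.2),
              ev_mul μ (hx2 u u.2) (lc_anti (by omega) hc), ev_next hμ hc, mul_one] }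
      have hg : g ∈ Lam P 1 := fun u hu => by
        show ev μ ((u : P) ^ 2) = 1
        rw [ev_pow μ hu]
        have := c.h.ev_pow_q (by omega) hμ (u : P)
        rwa [hq2] at this
      obtain ⟨s, hs, hs1⟩ := (Subgroup.bot_or_exists_ne_one _).resolve_left c.t.ne_bot
      have hs0 : s ∉ F₀ := fun h0 => hs1 (Subgroup.mem_bot.1 (c.t.inf ▸ Subgroup.mem_inf.2 ⟨hs, h0⟩))
      have hg1 : g = 1 := c.hf.fpf1 s hs0 g hg (MonoidHom.ext fun u => by
        show ev μ (act s (u : P) ^ 2) = ev μ ((u : P) ^ 2)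
        have hfix : pull act 2 s μ = μ := by
          show s ∈ lamStab act 2 μ
          rw [c.t.stab μ hμ hμ1]; exact hs
        rw [← map_pow, ← ev_pull act 2 s μ (hx2 u u.2), hfix])
      exact DFunLike.congr_fun hg1 ⟨x, hx⟩
    -- all annihilators are equal
    have hexp : ∀ μ ∈ Lam P 2, ∀ e d : P, e ^ 2 ∈ lc P 1 →
        ev μ ⁅e ^ 2, d⁆ = ev μ ⁅e, ⁅e, d⁆⁆ := fun μ hμ e d _ => by
      have hed : ⁅e, d⁆ ∈ lc P 1 := comm_mem_lc (i := 0) (j := 0) le_rfl (mem_lc_zero e) (mem_lc_zero d)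
      rw [show ⁅e ^ 2, d⁆ = ⁅e, ⁅e, d⁆⁆ * ⁅e, d⁆ ^ 2 by simp only [commutatorElement_def, pow_two]; group,
        ev_mul μ (comm_mem_lc (i := 0) (j := 1) le_rfl (mem_lc_zero e) hed) (lc_anti (by omega) (hsq _ hed)),
        ev_next hμ (hsq _ hed), mul_one]
    obtain ⟨μ₀, hμ₀, hne₀⟩ := c.h.exists_lam_ne_one c.hL
    obtain ⟨e, he, he1⟩ : ∃ e, e ∈ annE hμ₀ ∧ e ∉ lc P 1 := by
      by_contra hcon
      push Not at hcon
      have h1 := Subgroup.card_le_of_le (show annE hμ₀ ≤ lc P 1 from hcon)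
      rw [c.t.card_annE' c.h c.hL hμ₀ hne₀] at h1
      nlinarith
    have he2 : e ^ 2 ∈ lc P 1 := hq2 ▸ c.h.pow_mem_one (c.t.lc_one_ne_bot c.h c.hL) e
    have he22 : e ^ 2 ∈ lc P 2 := c.t.nondeg μ₀ hμ₀ hne₀ _ he2 fun d => by
      have hed : ⁅e, d⁆ ∈ lc P 1 := comm_mem_lc (i := 0) (j := 0) le_rfl (mem_lc_zero e) (mem_lc_zero d)
      rw [hexp μ₀ hμ₀ e d he2, ev_comm_swap (i := 1) (j := 0) le_rfl μ₀ hed (mem_lc_zero e), he _ hed, inv_one]
    have hall : ∀ (μ : lc P 2 →* ℂˣ) (hμ : μ ∈ Lam P 2), e ∈ annE hμ := by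
      intro μ hμ x hx
      let g : lc P 1 →* ℂˣ :=
        { toFun := fun u => ev μ ⁅(u : P), e⁆
          map_one' := by rw [OneMemClass.coe_one, commutatorElement_one_left, ev_one]
          map_mul' := fun u v => ev_comm_mul_left (i := 1) (j := 0) le_rfl hμ u.2 v.2 (mem_lc_zero e) }
      have hg : g ∈ Lam P 1 := fun u hu => ev_next hμ (comm_mem_lc (i := 2) (j := 0) le_rfl hu (mem_lc_zero e))
      have hg1 : g = 1 := by_contra fun hg1 => he1 (c.h.nondeg1 hg hg1 fun d => by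
        have hed : ⁅e, d⁆ ∈ lc P 1 := comm_mem_lc (i := 0) (j := 0) le_rfl (mem_lc_zero e) (mem_lc_zero d)
        rw [ev_mem g hed]
        show ev μ ⁅⁅e, d⁆, e⁆ = 1
        rw [ev_comm_swap (i := 0) (j := 1) le_rfl μ (mem_lc_zero e) hed, ← hexp μ hμ e d he2,
          ev_next hμ (comm_mem_lc (i := 2) (j := 0) le_rfl he22 (mem_lc_zero d)), inv_one])
      exact DFunLike.congr_fun hg1 ⟨x, hx⟩
    have h1 := c.t.card_of_common c.h c.hL he1 hall
    nlinarith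
  -- odd primes
  obtain ⟨a, ha⟩ : ∃ a : P, ∀ e ∈ annF hl, ⁅e, a⁆ ∈ lc P 2 → e ∈ lc P 1 := by
    by_contra hcon
    push Not at hcon
    choose ε hε1 hε2 hε3 using hcon
    let α := {e : P // e ∈ annF hl ∧ e ∉ lc P 1}
    letI := Fintype.ofFinite α
    have hsum : Nat.card α + Nat.card (lc P 1) ≤ Nat.card (annF hl) := by
      rw [← Nat.card_sum]
      refine Nat.card_le_card_of_injective (Sum.elim (fun e : α => (⟨e.1, e.2.1⟩ : annF hl))
        (fun u : lc P 1 => ⟨u, fun x hx => ev_next hl (comm_mem_lc (i := 2) (j := 1) le_rfl hx u.2)⟩)) ?_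
      rintro (e | u) (e' | u') heq
      · exact congrArg Sum.inl (Subtype.ext (congrArg Subtype.val heq :))
      · exact absurd (show e.1 ∈ lc P 1 from (congrArg Subtype.val heq : e.1 = u'.1) ▸ u'.2) e.2.2
      · exact absurd (show e'.1 ∈ lc P 1 from (congrArg Subtype.val heq : u.1 = e'.1) ▸ u.2) e'.2.2
      · exact congrArg Sum.inr (Subtype.ext (congrArg Subtype.val heq :))
    have hsig : Nat.card P * Nat.card (lc P 1) ≤ Nat.card (Σ e : α, comSub e.1 2) := by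
      rw [← Nat.card_prod]
      refine Nat.card_le_card_of_injective (fun au : P × lc P 1 =>
        (⟨⟨ε au.1 * au.2, mul_mem (hε1 au.1) (fun x hx => ev_next hl (comm_mem_lc (i := 2) (j := 1) le_rfl hx au.2.2)),
          fun hh => hε3 au.1 ((Subgroup.mul_mem_cancel_right _ au.2.2).1 hh)⟩,
          ⟨au.1, c.comSub_mul_mem au.2.2 (hε2 au.1)⟩⟩ : Σ e : α, comSub e.1 2)) ?_
      rintro ⟨a, u⟩ ⟨a', u'⟩ heq
      have h2 := congrArg (fun p : Σ e : α, comSub e.1 2 => (p.2 : P)) heq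
      change a = a' at h2
      subst h2
      have h3 := congrArg (fun p : Σ e : α, comSub e.1 2 => p.1.1) heq
      exact congrArg (Prod.mk a) (Subtype.ext (mul_left_cancel h3))
    rw [Nat.card_sigma, Finset.sum_congr rfl (g := fun _ => Nat.card (Lam P 1) * Nat.card (lc P 1))
      (fun e _ => c.t.card_comSub_one c.h c.hL e.2.2), Finset.sum_const, Finset.card_univ,
      ← Nat.card_eq_fintype_card, smul_eq_mul, c.card_P] at hsig
    have h5 : Nat.card (Lam P 1) * Nat.card (lc P 1) ≤ Nat.card α := by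
      refine Nat.le_of_mul_le_mul_right (c := Nat.card (Lam P 1) * Nat.card (lc P 1)) ?_ (Nat.mul_pos (by omega) hL1)
      exact le_trans (le_of_eq (by ring)) hsig
    omega
  -- the image of the annihilator under commutation with `a` is isotropic
  have hae : ∀ e : P, ⁅a, e⁆ ∈ lc P 1 := fun e =>
    comm_mem_lc (i := 0) (j := 0) le_rfl (mem_lc_zero a) (mem_lc_zero e)
  have hiso' : ∀ e ∈ annF hl, ∀ e' ∈ annF hl, ev l ⁅⁅a, e⁆, ⁅a, e'⁆⁆ = 1 := by
    intro e he e' he'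
    have hsym : ∀ μ ∈ Lam P 2, ev μ ⁅e, ⁅a, e'⁆⁆ = ev μ ⁅e', ⁅a, e⁆⁆ := by
      intro μ hμ
      have h1 := ev_jacobi (i := 0) (j := 0) (h := 0) rfl hμ (mem_lc_zero a) (mem_lc_zero e') (mem_lc_zero e)
      rw [ev_next hμ (comm_mem_lc (i := 2) (j := 0) le_rfl (hiso e' he' e he) (mem_lc_zero a)), mul_one,
        ← commutatorElement_inv a e, ev_comm_inv_left (i := 1) (j := 0) le_rfl hμ (hae e) (mem_lc_zero e')] at h1
      rw [ev_comm_swap (i := 1) (j := 0) le_rfl μ (hae e') (mem_lc_zero e),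
        ev_comm_swap (i := 1) (j := 0) le_rfl μ (hae e) (mem_lc_zero e'), mul_inv_eq_one.1 h1]
    have hm : ∀ v w : P, ⁅v, ⁅a, w⁆⁆ ∈ lc P 2 := fun v w => comm_mem_lc (i := 0) (j := 1) le_rfl (mem_lc_zero v) (hae w)
    have hc : ⁅e, ⁅a, e'⁆⁆ * ⁅e', ⁅a, e⁆⁆⁻¹ ∈ lc P 3 :=
      mem_next (mul_mem (hm e e') (inv_mem (hm e' e))) fun μ hμ => by
        rw [ev_mul μ (hm e e') (inv_mem (hm e' e)), ev_inv μ (hm e' e), hsym μ hμ, mul_inv_cancel]
    have h1 : ev l ⁅⁅e, ⁅a, e'⁆⁆, a⁆ = ev l ⁅⁅e', ⁅a, e⁆⁆, a⁆ := by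
      conv_lhs => rw [show ⁅e, ⁅a, e'⁆⁆ = ⁅e, ⁅a, e'⁆⁆ * ⁅e', ⁅a, e⁆⁆⁻¹ * ⁅e', ⁅a, e⁆⁆ by group]
      rw [ev_comm_mul_left (i := 2) (j := 0) le_rfl hl (lc_anti (by omega) hc) (hm e' e) (mem_lc_zero a),
        ev_next hl (comm_mem_lc (i := 3) (j := 0) le_rfl hc (mem_lc_zero a)), one_mul]
    rw [T.jac he (hae e'), T.jac he' (hae e), inv_inj,
      ev_comm_swap (i := 1) (j := 1) le_rfl l (hae e) (hae e')] at h1
    set v := ev l ⁅⁅a, e⁆, ⁅a, e'⁆⁆ with hv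
    refine eq_one_of_pow_pow ((Nat.coprime_primes Nat.prime_two c.h.hq).2 (Ne.symm hq2)) ?_ (c.h.ev_pow_q (by omega) hl _)
    rw [pow_two]
    exact mul_eq_one_iff_eq_inv.2 h1
  have hΩ2 : ∀ v ∈ lc P 2, ∀ y ∈ lc P 1, ev l ⁅v, y⁆ = 1 := fun v hv y hy =>
    ev_next hl (comm_mem_lc (i := 2) (j := 1) le_rfl hv hy)
  have hp : IsPairing (fun (e : annF hl) (y : lc P 1) => ev l ⁅⁅a, (e : P)⁆, (y : P)⁆) :=
    ⟨fun e e' y => by
      have hc : ⁅(e : P), ⁅a, (e' : P)⁆⁆ ∈ lc P 2 := comm_mem_lc (i := 0) (j := 1) le_rfl (mem_lc_zero _) (hae _)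
      show ev l ⁅⁅a, (e : P) * e'⁆, (y : P)⁆ = _
      rw [show ⁅a, (e : P) * e'⁆ = ⁅a, (e : P)⁆ * (⁅(e : P), ⁅a, (e' : P)⁆⁆ * ⁅a, (e' : P)⁆) by
          simp only [commutatorElement_def]; group,
        ev_comm_mul_left (i := 1) (j := 1) le_rfl hl (hae _) (mul_mem (lc_anti (by omega) hc) (hae _)) y.2,
        ev_comm_mul_left (i := 1) (j := 1) le_rfl hl (lc_anti (by omega) hc) (hae _) y.2, hΩ2 _ hc _ y.2, one_mul],
      fun e y y' => ev_comm_mul_right (i := 1) (j := 1) le_rfl hl (hae _) y.2 y'.2⟩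
  have hkerL : ∀ e : annF hl, e ∈ hp.annL → (e : P) ∈ lc P 1 := fun e he => by
    refine ha e e.2 ?_
    rw [← commutatorElement_inv]
    exact inv_mem (hR _ (hae _) fun y hy => he ⟨y, hy⟩)
  have e1 : Nat.card hp.annL ≤ Nat.card (lc P 1) :=
    Nat.card_le_card_of_injective (α := hp.annL) (β := lc P 1) (fun e => ⟨(e : annF hl), hkerL _ e.2⟩)
      fun a b e' => Subtype.ext (Subtype.ext (congrArg Subtype.val e' :))
  have e2 : Nat.card (annF hl) * Nat.card (lc P 2) ≤ Nat.card hp.annR * Nat.card (lc P 1) := by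
    rw [← Nat.card_prod, ← Nat.card_prod]
    have hy : ∀ ev' : annF hl × lc P 2, ⁅a, (ev'.1 : P)⁆ * ev'.2 ∈ lc P 1 := fun ev' =>
      mul_mem (hae _) (lc_anti (by omega) ev'.2.2)
    have hyR : ∀ ev' : annF hl × lc P 2, (⟨_, hy ev'⟩ : lc P 1) ∈ hp.annR := fun ev' e' => by
      show ev l ⁅⁅a, (e' : P)⁆, ⁅a, (ev'.1 : P)⁆ * ev'.2⁆ = 1
      rw [ev_comm_mul_right (i := 1) (j := 1) le_rfl hl (hae _) (hae _) (lc_anti (by omega) ev'.2.2),
        hiso' e' e'.2 _ ev'.1.2, ev_next hl (comm_mem_lc (i := 1) (j := 2) le_rfl (hae _) ev'.2.2), one_mul]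
    let Bh : annF hl → lc P 1 → ℂˣ := fun e u => ev l ⁅⁅a, (e : P)⁆, (u : P)⁆
    let ε : lc P 1 → annF hl := fun y =>
      open Classical in if h : ∃ e : annF hl, ∀ u, Bh e u = ev l ⁅(y : P), (u : P)⁆ then h.choose else 1
    have hε : ∀ ev' : annF hl × lc P 2, (ε ⟨_, hy ev'⟩)⁻¹ * ev'.1 ∈ hp.annL := fun ev' u => by
      have hex : ∃ e : annF hl, ∀ u, Bh e u = ev l ⁅⁅a, (ev'.1 : P)⁆ * ev'.2, (u : P)⁆ := ⟨ev'.1, fun u => by
        rw [ev_comm_mul_left (i := 1) (j := 1) le_rfl hl (hae _) (lc_anti (by omega) ev'.2.2) u.2,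
          hΩ2 _ ev'.2.2 _ u.2, mul_one]⟩
      have h1 : Bh (ε ⟨_, hy ev'⟩) u = Bh ev'.1 u := by
        simp only [ε]
        rw [dif_pos hex, hex.choose_spec u,
          ev_comm_mul_left (i := 1) (j := 1) le_rfl hl (hae _) (lc_anti (by omega) ev'.2.2) u.2,
          hΩ2 _ ev'.2.2 _ u.2, mul_one]
      show Bh ((ε _)⁻¹ * ev'.1) u = 1
      refine (hp.left _ _ u).trans ((congrArg (· * _) (hp.inv_left _ u)).trans ?_)
      exact inv_mul_eq_one.2 h1
    refine Nat.card_le_card_of_injective (fun ev' =>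
      ((⟨_, hyR ev'⟩ : hp.annR), (⟨_, hkerL _ (hε ev')⟩ : lc P 1))) fun p p' heq => ?_
    have h2 : (⟨_, hy p⟩ : lc P 1) = ⟨_, hy p'⟩ := congrArg Subtype.val (Prod.ext_iff.1 heq).1
    have h3 : (((ε ⟨_, hy p⟩)⁻¹ * p.1 : annF hl) : P) = (((ε ⟨_, hy p'⟩)⁻¹ * p'.1 : annF hl) : P) :=
      congrArg (fun u : lc P 1 => (u : P)) (Prod.ext_iff.1 heq).2
    rw [h2] at h3
    have h4 : p.1 = p'.1 := mul_left_cancel (Subtype.ext h3)
    refine Prod.ext h4 (Subtype.ext ?_)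
    have h5 := congrArg Subtype.val h2
    change ⁅a, (p.1 : P)⁆ * p.2 = ⁅a, (p'.1 : P)⁆ * p'.2 at h5
    rw [h4] at h5
    exact mul_left_cancel h5
  have h6 : Nat.card (annF hl) * Nat.card (annF hl) * Nat.card (lc P 2) ≤
      Nat.card (lc P 1) * Nat.card (lc P 1) * Nat.card (lc P 1) :=
    calc _ = Nat.card (annF hl) * Nat.card (lc P 2) * Nat.card (annF hl) := by ring
      _ ≤ Nat.card hp.annR * Nat.card (lc P 1) * Nat.card (annF hl) := Nat.mul_le_mul_right _ e2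
      _ = Nat.card hp.annR * Nat.card (annF hl) * Nat.card (lc P 1) := by ring
      _ = Nat.card (lc P 1) * Nat.card hp.annL * Nat.card (lc P 1) := by rw [hp.card_ann]
      _ ≤ _ := Nat.mul_le_mul_right _ (Nat.mul_le_mul_left _ e1)
  have h7 := Nat.mul_le_mul_right (Nat.card (Lam P 2) * Nat.card (Lam P 2)) h6
  rw [show Nat.card (annF hl) * Nat.card (annF hl) * Nat.card (lc P 2) *
      (Nat.card (Lam P 2) * Nat.card (Lam P 2)) =
    (Nat.card (annF hl) * Nat.card (Lam P 2)) * (Nat.card (annF hl) * Nat.card (Lam P 2)) * Nat.card (lc P 2) by ring,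
    hcard, ← card_lam (P := P) 1] at h7
  have h8 : Nat.card (Lam P 1) ^ 3 ≤ Nat.card (Lam P 2) ^ 2 := by
    refine Nat.le_of_mul_le_mul_right (c := Nat.card (Lam P 1) ^ 3 * Nat.card (lc P 2) ^ 3) ?_
      (Nat.mul_pos (pow_pos (by omega) 3) (pow_pos (Nat.card_pos (α := lc P 2)) 3))
    exact le_trans (le_of_eq (by ring)) (h7.trans (le_of_eq (by ring)))
  exact absurd (c.t.bound c.h c.hL) (not_lt.2 h8)

end Ctx

end Cfsg.Lib.NDAD
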