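import Cfsg.Agent.Chars.NDAD.PLevel3
import Cfsg.Agent.S0841

/-!
# The structure of a group with the given automorphisms
-/

set_option autoImplicit false
set_option linter.unusedSectionVars false
set_option linter.style.haveILetI false

namespace Cfsg.Lib.NDAD

open Cfsg.Lib.Chars
open scoped commutatorElement

universe u v

variable {P : Type u} [Group P] [Finite P] {F : Type v} [CommGroup F] [Finite F]

/-- The first case: class two and the centre of the commutator subgroup is fixed. -/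
structure FixedCase (act : F →* MulAut P) : Prop where
  two : lc P 2 = ⊥
  fixed : ∀ x ∈ lc P 1, ∀ s, act s x = x
  degs : ∀ φ : P → ℂ, Cfsg.IsIrrCharacter P φ → deg φ ≠ 1 →
    deg φ ^ 2 = (lc P 1).index ∧ fixSub act φ = ⊤

/-- The second case: two proper subgroups of automorphisms. -/
structure FreeCase (act : F →* MulAut P) (q : ℕ) (F₀ F₁ : Subgroup F) : Prop where
  ne_bot : F₀ ≠ ⊥
  ne_top : F₀ ≠ ⊤
  inf : F₁ ⊓ F₀ = ⊥
  three : lc P 3 = ⊥
  degs : ∀ φ : P → ℂ, Cfsg.IsIrrCharacter P φ → deg φ ≠ 1 →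
    (fixSub act φ = F₀ ∧ deg φ ^ 2 = (lc P 1).index) ∨
      (lc P 2 ≠ ⊥ ∧ fixSub act φ = F₁ ∧ deg φ ^ 2 = (lc P 2).index)
  exists₀ : ∃ φ : P → ℂ, Cfsg.IsIrrCharacter P φ ∧ deg φ ≠ 1 ∧ fixSub act φ = F₀ ∧ deg φ ^ 2 = (lc P 1).index
  exists₁ : lc P 2 ≠ ⊥ →
    ∃ φ : P → ℂ, Cfsg.IsIrrCharacter P φ ∧ deg φ ≠ 1 ∧ fixSub act φ = F₁ ∧ deg φ ^ 2 = (lc P 2).index
  trivial₁ : lc P 2 = ⊥ → F₁ = ⊥
  fixed : ∀ x : P, (∀ s, act s x = x) → x = 1
  cent₁ : ∀ s ∈ F₁, s ≠ 1 → ∀ x : P, act s x = x → x ∈ lc P 2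
  cent : ∀ s t, s ∉ F₀ → t ∉ F₁ → ∀ x : P, act s x = x → act t x = x → x = 1
  pair : ∃ x y : P, x ^ q = 1 ∧ y ^ q = 1 ∧ Commute x y ∧ y ≠ 1 ∧ x ∉ Subgroup.zpowers y

/-- A character trivial on the next term lies over a character of the factor. -/
theorem exists_lam_scalar {k : ℕ} (hab : lc P (k + k + 1) = ⊥) {φ : P → ℂ} (hφ : Cfsg.IsIrrCharacter P φ)
    (hker : ∀ x ∈ lc P (k + 1), φ x = φ 1) :
    ∃ l ∈ Lam P k, ∀ x ∈ lc P k, φ x = φ 1 * (ev l x : ℂ) := by
  classical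
  haveI := Fintype.ofFinite P
  haveI := Fintype.ofFinite (lc P k)
  obtain ⟨θ, hθ, hc⟩ := exists_constituent (lc P k) (isCharacter_of_irr hφ) (IsIrrCharacter.apply_one_ne_zero hφ)
  have h1 : θ 1 = 1 := irr_deg_one_of_comm (fun a b : lc P k => Subtype.ext (by
    show (a : P) * b = b * a
    rw [← commutatorElement_eq_one_iff_mul_comm, ← Subgroup.mem_bot, ← hab]
    exact comm_mem_lc (i := k) (j := k) le_rfl a.2 b.2)) hθ
  obtain ⟨l, rfl⟩ := exists_hom_of_deg_one (isCharacter_of_irr hθ) h1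
  have hl : l ∈ Lam P k := fun x hx => Units.ext (by
    have h2 := constituent_ker (IsCharacter.restrict (isCharacter_of_irr hφ) (lc P k)) hθ hc
      (g := x) (hker x hx)
    rwa [map_one] at h2)
  refine ⟨l, hl, fun x hx => ?_⟩
  rw [ev_mem l hx]
  exact scalar_of_linear hφ (lc P k) (lam_conj hl) hc ⟨x, hx⟩

theorem deg_one_of_trivial {φ : P → ℂ} (hφ : Cfsg.IsIrrCharacter P φ) (hker : ∀ x ∈ lc P 1, φ x = φ 1) :
    deg φ = 1 := by
  haveI : (kerSubgroup φ (isCharacter_of_irr hφ)).Normal := kerSubgroup_normal _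
  have h1 := deg_sq_mul_card_le hφ ⊤ fun g _ =>
    conj_mul_self hφ (K := kerSubgroup φ (isCharacter_of_irr hφ)) (fun k hk => hk)
      (mem_centralMod.2 fun y => hker _ (comm_mem_lc (i := 0) (j := 0) le_rfl (mem_lc_zero g) (mem_lc_zero y)))
  rw [Subgroup.card_top] at h1
  have h2 : deg φ ^ 2 ≤ 1 := Nat.le_of_mul_le_mul_right (h1.trans (one_mul _).ge) Nat.card_pos
  have h3 := deg_pos hφ
  nlinarith

theorem exists_pair_of_exponent {q : ℕ} (hq : q.Prime) (A : Subgroup P) (hab : ∀ a ∈ A, ∀ b ∈ A, a * b = b * a)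
    (hexp : ∀ a ∈ A, a ^ q = 1) (hA : A ≠ ⊥) (hcard : Nat.card A ≠ q) :
    ∃ x y : P, x ^ q = 1 ∧ y ^ q = 1 ∧ Commute x y ∧ y ≠ 1 ∧ x ∉ Subgroup.zpowers y := by
  obtain ⟨y, hy, hy1⟩ := (Subgroup.bot_or_exists_ne_one A).resolve_left hA
  have hoy : orderOf y = q := by
    rcases (Nat.dvd_prime hq).1 (orderOf_dvd_of_pow_eq_one (hexp y hy)) with h | h
    · exact absurd (orderOf_eq_one_iff.1 h) hy1
    · exact h
  obtain ⟨x, hx, hxy⟩ : ∃ x ∈ A, x ∉ Subgroup.zpowers y := by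
    by_contra hc
    push Not at hc
    have h1 : A = Subgroup.zpowers y := le_antisymm hc (Subgroup.zpowers_le.2 hy)
    exact hcard (by rw [h1, Nat.card_zpowers, hoy])
  exact ⟨x, y, hexp x hx, hexp y hy, hab x hx y hy, hy1, hxy⟩

variable {act : F →* MulAut P} {q : ℕ}

namespace PData

variable (h : PData act q)
include h

theorem degs_fixed (h2 : lc P 2 = ⊥) (hfix : ∀ l ∈ Lam P 1, ∀ s, pull act 1 s l = l) {φ : P → ℂ}
    (hφ : Cfsg.IsIrrCharacter P φ) (hd : deg φ ≠ 1) : deg φ ^ 2 = (lc P 1).index ∧ fixSub act φ = ⊤ := by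
  obtain ⟨l, hl, hφl⟩ := exists_lam_scalar (k := 1) (le_bot_iff.1 ((lc_anti (by omega)).trans h2.le)) hφ
    fun x hx => by rw [show x = 1 from Subgroup.mem_bot.1 (h2 ▸ hx)]
  have hne : l ≠ 1 := fun e => hd (deg_one_of_trivial hφ fun x hx => by
    rw [hφl x hx, e, ev_one_left, Units.val_one, mul_one])
  have hv : ∀ x, x ∉ lc P 1 → φ x = 0 := fun x hx =>
    h.vanish hφ hφl hne (i := 0) (by omega) (fun s _ hs => h.fpf_zero hs) (mem_lc_zero x) hx
  obtain ⟨h3, h4⟩ := h.ramified hφ hφl hl hv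
  exact ⟨h3, h4.trans (eq_top_iff.2 fun s _ => hfix l hl s)⟩

theorem pair_two {F₀ : Subgroup F} (hf : Free act F₀) (hL : lc P 1 ≠ ⊥) (h2 : lc P 2 = ⊥) :
    ∃ x y : P, x ^ q = 1 ∧ y ^ q = 1 ∧ Commute x y ∧ y ≠ 1 ∧ x ∉ Subgroup.zpowers y := by
  have hcen : ∀ a ∈ lc P 1, ∀ b : P, a * b = b * a := fun a ha b => by
    rw [← commutatorElement_eq_one_iff_mul_comm, ← Subgroup.mem_bot, ← h2]
    exact comm_mem_lc (i := 1) (j := 0) le_rfl ha (mem_lc_zero b)
  have hexp : ∀ a ∈ lc P 1, a ^ q = 1 := fun a ha => by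
    rw [← Subgroup.mem_bot, ← h2]; exact h.pow_mem_next le_rfl ha
  by_cases hcard : Nat.card (lc P 1) = q
  swap
  · exact exists_pair_of_exponent h.hq (lc P 1) (fun a ha b _ => hcen a ha b) hexp hL hcard
  have hz : Nat.card (Lam P 1) = q := by
    have h1 := card_lam (P := P) 1
    rwa [h2, Subgroup.card_bot, mul_one, hcard] at h1
  have hq2 : q ≠ 2 := by
    intro e
    obtain ⟨l, hl, hne⟩ := h.exists_lam_ne_one hL
    obtain ⟨s, hs⟩ : ∃ s, pull act 1 s l ≠ l := by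
      by_contra hc
      push Not at hc
      exact hf.ne_top (eq_top_iff.2 fun s _ => hf.stab l hl hne ▸ hc s)
    have hne' : pull act 1 s l ≠ 1 := fun e' => hne (by
      rw [← pull_one act 1 l, ← inv_mul_cancel s, pull_mul, e']
      rfl)
    obtain ⟨a, b, -, hab⟩ := Nat.card_eq_two_iff.1 (hz.trans e)
    have hmem : ∀ x : Lam P 1, x = a ∨ x = b := fun x => by
      have := Set.eq_univ_iff_forall.1 hab x
      rwa [Set.mem_insert_iff, Set.mem_singleton_iff] at this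
    rcases hmem ⟨l, hl⟩ with h1 | h1 <;> rcases hmem ⟨_, pull_mem act s hl⟩ with h2' | h2' <;>
      rcases hmem 1 with h3 | h3
    all_goals first
      | exact hs (congrArg Subtype.val (h2'.trans h1.symm))
      | exact hne (congrArg Subtype.val (h1.trans h3.symm))
      | exact hne' (congrArg Subtype.val (h2'.trans h3.symm))
  have hPexp : ∀ x : P, x ^ q = 1 := by
    intro x
    have hxq := h.pow_mem_one hL
    rw [← Subgroup.mem_bot, ← h2]
    refine mem_next (hxq x) fun l hl => ?_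
    by_cases hne : l = 1
    · rw [hne, ev_one_left]
    have hcom : commutator P ≤ Subgroup.center P := fun a ha =>
      Subgroup.mem_center_iff.2 fun b => (hcen a ha b).symm
    let g : P →* ℂˣ :=
      { toFun := fun u => ev l (u ^ q)
        map_one' := by rw [one_pow, ev_one]
        map_mul' := fun u v => by
          have hc : v⁻¹ * u⁻¹ * v * u ∈ lc P 1 := by
            rw [show v⁻¹ * u⁻¹ * v * u = ⁅v⁻¹, u⁻¹⁆ by simp [commutatorElement_def]]
            exact comm_mem_lc (i := 0) (j := 0) le_rfl (mem_lc_zero _) (mem_lc_zero _)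
          rw [Cfsg.Agent.S0841.result hcom u v q, ev_mul l (mul_mem (hxq u) (hxq v)) (pow_mem hc _),
            ev_mul l (hxq u) (hxq v), ev_pow l hc]
          obtain ⟨m, hm⟩ : q ∣ q * (q - 1) / 2 := by
            refine ⟨(q - 1) / 2, Nat.mul_div_assoc q ?_⟩
            rcases h.hq.eq_two_or_odd with e | e
            · exact absurd e hq2
            · omega
          rw [hm, pow_mul, h.ev_pow_q le_rfl hl, one_pow, mul_one] }
    obtain ⟨s, hs, hs1⟩ := (Subgroup.bot_or_exists_ne_one _).resolve_left hf.ne_bot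
    have hg := h.hom_eq_one_of_fixed hs1 g fun u => by
      show ev l ((act s u) ^ q) = ev l (u ^ q)
      have hfix : pull act 1 s l = l := by
        show s ∈ lamStab act 1 l
        rw [hf.stab l hl hne]; exact hs
      rw [← map_pow, ← ev_pull act 1 s l (hxq u), hfix]
    exact DFunLike.congr_fun hg x
  obtain ⟨y, hy, hy1⟩ := (Subgroup.bot_or_exists_ne_one _).resolve_left hL
  obtain ⟨x, hx⟩ : ∃ x : P, x ∉ lc P 1 := by
    by_contra hc
    push Not at hc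
    exact hL (le_bot_iff.1 ((lc_anti (Nat.zero_le 1)).trans
      (h.lc_eq_bot_of_stable (k := 0) fun a _ => hc a).le))
  exact ⟨x, y, hPexp x, hPexp y, (hcen y hy x).symm, hy1, fun hm => hx ((Subgroup.zpowers_le.2 hy) hm)⟩

theorem pair_three {F₀ F₁ : Subgroup F} (c : Ctx act q F₀ F₁) :
    ∃ x y : P, x ^ q = 1 ∧ y ^ q = 1 ∧ Commute x y ∧ y ≠ 1 ∧ x ∉ Subgroup.zpowers y := by
  have h3 := c.lc_three
  have hab : ∀ a ∈ lc P 1, ∀ b ∈ lc P 1, a * b = b * a := fun a ha b hb => by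
    rw [← commutatorElement_eq_one_iff_mul_comm, ← Subgroup.mem_bot, ← h3]
    exact comm_mem_lc (i := 1) (j := 1) le_rfl ha hb
  have hexp : ∀ a ∈ lc P 1, a ^ q = 1 := fun a ha => by
    have hn : ∀ b ∈ lc P 1, b ^ q ∈ lc P 2 := fun b hb => h.pow_mem_next le_rfl hb
    rw [← Subgroup.mem_bot, ← h3]
    refine mem_next (hn a ha) fun μ hμ => ?_
    by_cases hne : μ = 1
    · rw [hne, ev_one_left]
    let g : lc P 1 →* ℂˣ :=
      { toFun := fun u => ev μ ((u : P) ^ q)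
        map_one' := by rw [OneMemClass.coe_one, one_pow, ev_one]
        map_mul' := fun u v => by
          rw [Subgroup.coe_mul, (show Commute (u : P) v from hab u u.2 v v.2).mul_pow,
            ev_mul μ (hn u u.2) (hn v v.2)] }
    have hg : g ∈ Lam P 1 := fun u hu => by
      show ev μ ((u : P) ^ q) = 1
      rw [ev_pow μ hu]
      exact h.ev_pow_q (by omega) hμ _
    obtain ⟨s, hs, hs1⟩ := (Subgroup.bot_or_exists_ne_one _).resolve_left c.t.ne_bot
    have hs0 : s ∉ F₀ := fun h0 => hs1 (Subgroup.mem_bot.1 (c.t.inf ▸ Subgroup.mem_inf.2 ⟨hs, h0⟩))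
    have hg1 : g = 1 := c.hf.fpf1 s hs0 g hg (MonoidHom.ext fun u => by
      show ev μ (act s (u : P) ^ q) = ev μ ((u : P) ^ q)
      have hfix : pull act 2 s μ = μ := by
        show s ∈ lamStab act 2 μ
        rw [c.t.stab μ hμ hne]; exact hs
      rw [← map_pow, ← ev_pull act 2 s μ (hn u u.2), hfix])
    exact DFunLike.congr_fun hg1 ⟨a, ha⟩
  refine exists_pair_of_exponent h.hq (lc P 1) hab hexp (c.t.lc_one_ne_bot h c.hL) ?_
  have h1 := card_lam (P := P) 1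
  have h2 := card_lam (P := P) 2
  rw [h3, Subgroup.card_bot, mul_one] at h2
  have hz := c.t.two_le_z h c.hL
  have hw := c.two_le_w
  intro e
  rw [e, ← h2] at h1
  exact Nat.not_prime_mul (by omega) (by omega) (h1 ▸ h.hq)

theorem freeCase {F₀ : Subgroup F} (hf : Free act F₀) (hL : lc P 1 ≠ ⊥) :
    ∃ F₁ : Subgroup F, FreeCase act q F₀ F₁ := by
  have hlevel1 : lc P 3 = ⊥ → ∀ φ : P → ℂ, Cfsg.IsIrrCharacter P φ → deg φ ≠ 1 →
      (∀ x ∈ lc P 2, φ x = φ 1) → fixSub act φ = F₀ ∧ deg φ ^ 2 = (lc P 1).index := by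
    intro h3 φ hφ hd hker
    obtain ⟨l, hl, hφl⟩ := exists_lam_scalar (k := 1) h3 hφ hker
    have hne : l ≠ 1 := fun e => hd (deg_one_of_trivial hφ fun x hx => by
      rw [hφl x hx, e, ev_one_left, Units.val_one, mul_one])
    have hv : ∀ x, x ∉ lc P 1 → φ x = 0 := fun x hx =>
      h.vanish hφ hφl hne (i := 0) (by omega) (fun s _ hs => h.fpf_zero hs) (mem_lc_zero x) hx
    obtain ⟨h4, h5⟩ := h.ramified hφ hφl hl hv
    exact ⟨h5.trans (hf.stab l hl hne), h4⟩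
  obtain ⟨l₀, hl₀, hne₀⟩ := h.exists_lam_ne_one hL
  obtain ⟨ψ, hψ, -, hψd, hψi, hψf, -⟩ := h.over_one hl₀ hne₀
  have hex₀ : ∃ φ : P → ℂ, Cfsg.IsIrrCharacter P φ ∧ deg φ ≠ 1 ∧ fixSub act φ = F₀ ∧ deg φ ^ 2 = (lc P 1).index :=
    ⟨ψ, hψ, hψd, hψf.trans (hf.stab l₀ hl₀ hne₀), hψi⟩
  have h1of : ∀ s : F, s ≠ 1 → ∀ x : P, act s x = x → x ∈ lc P 1 := fun s hs x hx =>
    h.fpf s hs x (by rw [hx, inv_mul_cancel]; exact one_mem _)
  by_cases h2 : lc P 2 = ⊥
  · have h3 : lc P 3 = ⊥ := le_bot_iff.1 ((lc_anti (by omega)).trans h2.le)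
    exact ⟨⊥,
      { ne_bot := hf.ne_bot, ne_top := hf.ne_top, inf := bot_inf_eq _, three := h3
        degs := fun φ hφ hd => Or.inl (hlevel1 h3 φ hφ hd fun x hx => by
          rw [show x = 1 from Subgroup.mem_bot.1 (h2 ▸ hx)])
        exists₀ := hex₀
        exists₁ := fun hh => absurd h2 hh
        trivial₁ := fun _ => rfl
        fixed := fun x hx => Subgroup.mem_bot.1 (h3 ▸ hf.fixed x hx)
        cent₁ := fun s hs hs1 => absurd (Subgroup.mem_bot.1 hs) hs1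
        cent := fun s t hs _ x hx _ => by
          have hs1 : s ≠ 1 := fun e => hs (e ▸ one_mem _)
          have := mem_next_of_fixed (hf.fpf1 s hs) (h1of s hs1 x hx) (by rw [hx, inv_mul_cancel]; exact one_mem _)
          exact Subgroup.mem_bot.1 (h2 ▸ this)
        pair := h.pair_two hf hL h2 }⟩
  obtain ⟨F₁, t⟩ := h.two hf h2
  have c : Ctx act q F₀ F₁ := ⟨h, hf, t, h2⟩
  have h3 := c.lc_three
  have hout : ∀ s ∈ F₁, s ≠ 1 → s ∉ F₀ := fun s hs hs1 hs0 =>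
    hs1 (Subgroup.mem_bot.1 (t.inf ▸ Subgroup.mem_inf.2 ⟨hs, hs0⟩))
  refine ⟨F₁,
    { ne_bot := hf.ne_bot, ne_top := hf.ne_top, inf := t.inf, three := h3
      degs := fun φ hφ hd => ?_
      exists₀ := hex₀
      exists₁ := fun _ => ?_
      trivial₁ := fun e => absurd e h2
      fixed := fun x hx => Subgroup.mem_bot.1 (h3 ▸ hf.fixed x hx)
      cent₁ := fun s hs hs1 x hx =>
        mem_next_of_fixed (hf.fpf1 s (hout s hs hs1)) (h1of s hs1 x hx) (by rw [hx, inv_mul_cancel]; exact one_mem _)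
      cent := fun s u hs hu x hx hx' => by
        have hs1 : s ≠ 1 := fun e => hs (e ▸ one_mem _)
        have h5 := mem_next_of_fixed (hf.fpf1 s hs) (h1of s hs1 x hx) (by rw [hx, inv_mul_cancel]; exact one_mem _)
        have h6 := mem_next_of_fixed (c.fpf2' hu) h5 (by rw [hx', inv_mul_cancel]; exact one_mem _)
        exact Subgroup.mem_bot.1 (h3 ▸ h6)
      pair := h.pair_three c }⟩
  · obtain ⟨μ, hμ, hφμ⟩ := exists_lam_scalar (k := 2) (le_bot_iff.1 ((lc_anti (by omega)).trans h3.le)) hφ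
      fun x hx => by rw [show x = 1 from Subgroup.mem_bot.1 (h3 ▸ hx)]
    by_cases hne : μ = 1
    · refine Or.inl (hlevel1 h3 φ hφ hd fun x hx => ?_)
      rw [hφμ x hx, hne, ev_one_left, Units.val_one, mul_one]
    · obtain ⟨h4, h5, -⟩ := t.above μ hμ hne φ hφ hφμ
      exact Or.inr ⟨h2, h5, h4⟩
  · obtain ⟨μ, hμ, hne⟩ := h.exists_lam_ne_one h2
    obtain ⟨φ, hφ, hφμ⟩ := h.exists_over_lam hμ
    obtain ⟨h4, h5, h6⟩ := t.above μ hμ hne φ hφ hφμ
    exact ⟨φ, hφ, h6, h5, h4⟩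

/-- The main result on `P`. -/
theorem main (hL : lc P 1 ≠ ⊥) : FixedCase act ∨ ∃ F₀ F₁ : Subgroup F, FreeCase act q F₀ F₁ := by
  rcases h.fixed_or_free with hfix | ⟨hfree, hfx⟩
  · obtain ⟨h2, hf⟩ := h.caseI hfix
    exact Or.inl ⟨h2, hf, fun φ hφ hd => h.degs_fixed h2 hfix hφ hd⟩
  · obtain ⟨F₀, hf⟩ := h.caseII hL hfree hfx
    obtain ⟨F₁, hc⟩ := h.freeCase hf hL
    exact Or.inr ⟨F₀, F₁, hc⟩

end PData

end Cfsg.Lib.NDAD
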