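import Cfsg.Agent.Chars.NDAD.AltForms
import Mathlib.Algebra.CharP.CharAndCard
import Mathlib.Algebra.Module.ZMod
import Mathlib.NumberTheory.LegendreSymbol.AddCharacter
import Mathlib.LinearAlgebra.Basis.Basic
import Mathlib.Analysis.Complex.Basic
import Mathlib.RingTheory.IntegralDomain
import Mathlib.RingTheory.RootsOfUnity.Complex
import Mathlib.LinearAlgebra.Dimension.Free
import Mathlib.Algebra.Field.ZMod
import Mathlib.FieldTheory.Finiteness
import Mathlib.LinearAlgebra.Matrix.ToLinearEquiv
import Mathlib.GroupTheory.QuotientGroup.Basic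

/-!
# Pairings of finite groups with values in the complex units
-/

set_option autoImplicit false
set_option linter.unusedSectionVars false
set_option linter.style.haveILetI false

namespace Cfsg.Lib.NDAD

universe u v w

variable {X : Type u} [Group X] {Y : Type v} [Group Y]

/-- A function which is multiplicative in both variables. -/
structure IsPairing (B : X → Y → ℂˣ) : Prop where
  left : ∀ x x' y, B (x * x') y = B x y * B x' y
  right : ∀ x y y', B x (y * y') = B x y * B x y'

namespace IsPairing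

variable {B : X → Y → ℂˣ} (h : IsPairing B)
include h

theorem one_left (y : Y) : B 1 y = 1 := by
  have := h.left 1 1 y
  rwa [one_mul, left_eq_mul] at this

theorem one_right (x : X) : B x 1 = 1 := by
  have := h.right x 1 1
  rwa [one_mul, left_eq_mul] at this

theorem inv_left (x : X) (y : Y) : B x⁻¹ y = (B x y)⁻¹ := by
  rw [eq_inv_iff_mul_eq_one, ← h.left, inv_mul_cancel, h.one_left]

theorem inv_right (x : X) (y : Y) : B x y⁻¹ = (B x y)⁻¹ := by
  rw [eq_inv_iff_mul_eq_one, ← h.right, inv_mul_cancel, h.one_right]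

theorem pow_left (x : X) (y : Y) (k : ℕ) : B (x ^ k) y = B x y ^ k := by
  induction k with
  | zero => rw [pow_zero, pow_zero, h.one_left]
  | succ k ih => rw [pow_succ, pow_succ, h.left, ih]

theorem pow_right (x : X) (y : Y) (k : ℕ) : B x (y ^ k) = B x y ^ k := by
  induction k with
  | zero => rw [pow_zero, pow_zero, h.one_right]
  | succ k ih => rw [pow_succ, pow_succ, h.right, ih]

/-- The right annihilator. -/
def annR : Subgroup Y where
  carrier := {y | ∀ x, B x y = 1}
  one_mem' := fun x => h.one_right x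
  mul_mem' := fun {a b} ha hb x => by rw [h.right, ha, hb, one_mul]
  inv_mem' := fun {a} ha x => by rw [h.inv_right, ha, inv_one]

/-- The left annihilator. -/
def annL : Subgroup X where
  carrier := {x | ∀ y, B x y = 1}
  one_mem' := fun y => h.one_left y
  mul_mem' := fun {a b} ha hb y => by rw [h.left, ha, hb, one_mul]
  inv_mem' := fun {a} ha y => by rw [h.inv_left, ha, inv_one]

theorem mem_annR {y : Y} : y ∈ h.annR ↔ ∀ x, B x y = 1 := Iff.rfl
theorem mem_annL {x : X} : x ∈ h.annL ↔ ∀ y, B x y = 1 := Iff.rfl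

/-- Orthogonality: the two annihilators have complementary orders. -/
theorem card_ann [Finite X] [Finite Y] :
    Nat.card h.annR * Nat.card X = Nat.card Y * Nat.card h.annL := by
  classical
  haveI := Fintype.ofFinite X
  haveI := Fintype.ofFinite Y
  let fx : X → (Y →* ℂ) := fun x =>
    (Units.coeHom ℂ).comp { toFun := B x, map_one' := h.one_right x, map_mul' := h.right x }
  let fy : Y → (X →* ℂ) := fun y =>
    (Units.coeHom ℂ).comp { toFun := fun x => B x y, map_one' := h.one_left y,
                            map_mul' := fun a b => h.left a b y }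
  have hx : ∀ x, fx x = 1 ↔ x ∈ h.annL := fun x => by
    rw [mem_annL, MonoidHom.ext_iff]
    exact forall_congr' fun y => Units.val_eq_one
  have hy : ∀ y, fy y = 1 ↔ y ∈ h.annR := fun y => by
    rw [mem_annR, MonoidHom.ext_iff]
    exact forall_congr' fun x => Units.val_eq_one
  have h1 : ∀ x, ∑ y, ((B x y : ℂˣ) : ℂ) = if x ∈ h.annL then (Fintype.card Y : ℂ) else 0 := fun x => by
    show ∑ y, fx x y = _
    rw [sum_hom_units, Nat.cast_ite, Nat.cast_zero]
    exact if_congr (hx x) rfl rfl
  have h2 : ∀ y, ∑ x, ((B x y : ℂˣ) : ℂ) = if y ∈ h.annR then (Fintype.card X : ℂ) else 0 := fun y => by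
    show ∑ x, fy y x = _
    rw [sum_hom_units, Nat.cast_ite, Nat.cast_zero]
    exact if_congr (hy y) rfl rfl
  have key : ∑ x : X, ∑ y : Y, ((B x y : ℂˣ) : ℂ) = ∑ y : Y, ∑ x : X, ((B x y : ℂˣ) : ℂ) :=
    Finset.sum_comm
  simp only [h1, h2, Finset.sum_ite, Finset.sum_const_zero, add_zero, Finset.sum_const,
    nsmul_eq_mul] at key
  rw [Nat.card_eq_fintype_card, Nat.card_eq_fintype_card, Nat.card_eq_fintype_card,
    Nat.card_eq_fintype_card, Fintype.card_subtype, Fintype.card_subtype]
  have key' : ((Finset.univ.filter (fun x => x ∈ h.annL)).card * Fintype.card Y : ℕ) =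
      (Finset.univ.filter (fun y => y ∈ h.annR)).card * Fintype.card X := by
    exact_mod_cast key
  rw [← key', mul_comm]

end IsPairing

/-- A commuting family of alternating pairings, all nonzero members nondegenerate modulo `K`:
the square of the size of the family is at most the index of `K`. -/
theorem card_family_sq_le {Λ : Type w} [CommGroup Λ] [Finite Λ] {P : Type u} [Group P] [Finite P]
    (q : ℕ) [hq : Fact q.Prime] (hΛ : ∀ l : Λ, l ^ q = 1) (K : Subgroup P) [K.Normal]
    (hexp : ∀ p : P, p ^ q ∈ K) (hKtop : K ≠ ⊤) (B : Λ → P → P → ℂˣ)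
    (hB : ∀ l, IsPairing (B l)) (hlam : ∀ l l' a b, B (l * l') a b = B l a b * B l' a b)
    (halt : ∀ l a, B l a a = 1) (hK : ∀ l, ∀ k ∈ K, ∀ b, B l k b = 1)
    (hnd : ∀ l, l ≠ 1 → ∀ a, (∀ b, B l a b = 1) → a ∈ K) :
    Nat.card Λ ^ 2 ≤ K.index := by
  classical
  by_cases hΛ1 : ∀ l : Λ, l = 1
  · haveI : Subsingleton Λ := ⟨fun a b => (hΛ1 a).trans (hΛ1 b).symm⟩
    rw [Nat.card_of_subsingleton (1 : Λ), one_pow]
    exact Nat.pos_of_ne_zero K.index_ne_zero_of_finite
  push Not at hΛ1
  obtain ⟨l₀, hl₀⟩ := hΛ1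
  have hanti : ∀ l a b, B l b a = (B l a b)⁻¹ := fun l a b => by
    have := halt l (a * b)
    rw [(hB l).left, (hB l).right, (hB l).right, halt, halt, one_mul, mul_one] at this
    rw [eq_inv_iff_mul_eq_one, mul_comm]
    exact this
  have hK' : ∀ l, ∀ k ∈ K, ∀ b, B l b k = 1 := fun l k hk b => by rw [hanti, hK l k hk, inv_one]
  have hcomm : ∀ x y : P ⧸ K, x * y = y * x := fun x y => by
    induction x using QuotientGroup.induction_on with
    | _ a =>
    induction y using QuotientGroup.induction_on with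
    | _ b =>
      rw [← QuotientGroup.mk_mul, ← QuotientGroup.mk_mul, QuotientGroup.eq]
      refine hnd l₀ hl₀ _ fun c => ?_
      simp only [(hB l₀).left, (hB l₀).inv_left]
      rw [mul_comm (B l₀ b c), inv_mul_cancel]
  letI : CommGroup (P ⧸ K) := { mul_comm := hcomm }
  have hVq : ∀ x : Additive (P ⧸ K), q • x = 0 := fun x => by
    apply Additive.toMul.injective
    rw [toMul_nsmul, toMul_zero]
    induction x.toMul using QuotientGroup.induction_on with
    | _ b =>
      rw [← QuotientGroup.mk_pow, QuotientGroup.eq_one_iff]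
      exact hexp b
  have hLq : ∀ x : Additive Λ, q • x = 0 := fun x => by
    apply Additive.toMul.injective
    rw [toMul_nsmul, toMul_zero]
    exact hΛ x.toMul
  obtain ⟨instV⟩ : Nonempty (Module (ZMod q) (Additive (P ⧸ K))) := ⟨AddCommGroup.zmodModule hVq⟩
  obtain ⟨instL⟩ : Nonempty (Module (ZMod q) (Additive Λ)) := ⟨AddCommGroup.zmodModule hLq⟩
  obtain ⟨ζ, hζ⟩ : ∃ ζ : ℂˣ, IsPrimitiveRoot ζ q :=
    ⟨((Complex.isPrimitiveRoot_exp q hq.out.ne_zero).isUnit hq.out.ne_zero).unit,
      IsPrimitiveRoot.coe_units_iff.1 (by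
        rw [IsUnit.unit_spec]; exact Complex.isPrimitiveRoot_exp q hq.out.ne_zero)⟩
  let χ : AddChar (ZMod q) ℂˣ := AddChar.zmodChar q hζ.pow_eq_one
  have hχ : Function.Injective χ := fun a b hab => by
    rw [AddChar.zmodChar_apply, AddChar.zmodChar_apply] at hab
    exact ZMod.val_injective q (hζ.pow_inj (ZMod.val_lt a) (ZMod.val_lt b) hab)
  have hlog : ∀ l a b, ∃ z : ZMod q, χ z = B l a b := by
    intro l a b
    have h1 : B l a b ^ q = 1 := by
      rw [← (hB l).pow_left, hK l _ (hexp a)]
    obtain ⟨i, hi, he⟩ := (IsPrimitiveRoot.coe_units_iff.2 hζ).eq_pow_of_pow_eq_one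
      (ξ := ((B l a b : ℂˣ) : ℂ)) (by rw [← Units.val_pow_eq_pow_val, h1, Units.val_one])
    exact ⟨i, by
      rw [AddChar.zmodChar_apply, ZMod.val_natCast_of_lt hi]
      exact Units.ext (by rw [Units.val_pow_eq_pow_val, he])⟩
  choose log hlg using hlog
  let β : Additive Λ → Additive (P ⧸ K) → Additive (P ⧸ K) → ZMod q := fun l v w =>
    log l.toMul v.toMul.out w.toMul.out
  have hout : ∀ (v : P ⧸ K) (a : P), (a : P ⧸ K) = v → ∀ l b,
      B l v.out b = B l a b ∧ B l b v.out = B l b a := by
    intro v a hav l b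
    obtain ⟨k, hk, hak⟩ : ∃ k ∈ K, v.out = a * k := ⟨a⁻¹ * v.out, by
      rw [← QuotientGroup.eq, hav]; exact (QuotientGroup.out_eq' v).symm, by group⟩
    rw [hak, (hB l).left, (hB l).right, hK l k hk, hK' l k hk, mul_one, mul_one]
    exact ⟨rfl, rfl⟩
  have hβ : ∀ l v w, ∀ a b : P, (a : P ⧸ K) = Additive.toMul v → (b : P ⧸ K) = Additive.toMul w →
      χ (β l v w) = B l.toMul a b := by
    intro l v w a b ha hb
    show χ (log _ _ _) = _
    rw [hlg, (hout _ a ha _ _).1, (hout _ b hb _ _).2]
  have hadd1 : ∀ l l' v w, β (l + l') v w = β l v w + β l' v w := fun l l' v w => hχ (by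
    rw [AddChar.map_add_eq_mul, hlg, hlg, hlg, toMul_add, hlam])
  have hadd2 : ∀ l v v' w, β l (v + v') w = β l v w + β l v' w := fun l v v' w => hχ (by
    rw [AddChar.map_add_eq_mul, hlg, hlg, hlg, (hout _ (v.toMul.out * v'.toMul.out)
      (by rw [QuotientGroup.mk_mul, QuotientGroup.out_eq', QuotientGroup.out_eq', toMul_add]) _ _).1,
      (hB _).left])
  have hadd3 : ∀ l v w w', β l v (w + w') = β l v w + β l v w' := fun l v w w' => hχ (by
    rw [AddChar.map_add_eq_mul, hlg, hlg, hlg, (hout _ (w.toMul.out * w'.toMul.out)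
      (by rw [QuotientGroup.mk_mul, QuotientGroup.out_eq', QuotientGroup.out_eq', toMul_add]) _ _).2,
      (hB _).right])
  haveI : Finite (Additive (P ⧸ K)) := Finite.of_equiv (P ⧸ K) Additive.ofMul
  haveI : Finite (Additive Λ) := Finite.of_equiv Λ Additive.ofMul
  haveI : Module.Finite (ZMod q) (Additive (P ⧸ K)) := Module.Finite.of_finite
  haveI : Module.Finite (ZMod q) (Additive Λ) := Module.Finite.of_finite
  let bV : Module.Basis (Fin (Module.finrank (ZMod q) (Additive (P ⧸ K)))) (ZMod q) (Additive (P ⧸ K)) :=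
    Module.finBasis (ZMod q) (Additive (P ⧸ K))
  let bL : Module.Basis (Fin (Module.finrank (ZMod q) (Additive Λ))) (ZMod q) (Additive Λ) :=
    Module.finBasis (ZMod q) (Additive Λ)
  set N := Module.finrank (ZMod q) (Additive (P ⧸ K)) with hN
  set L := Module.finrank (ZMod q) (Additive Λ) with hL
  let φ1 : ∀ _ _ : Additive (P ⧸ K), Additive Λ →ₗ[ZMod q] ZMod q := fun v w =>
    AddMonoidHom.toZModLinearMap q (AddMonoidHom.mk' (fun l => β l v w) (fun a b => hadd1 a b v w))
  let φ2 : ∀ (_ : Additive Λ) (_ : Additive (P ⧸ K)), Additive (P ⧸ K) →ₗ[ZMod q] ZMod q := fun l w =>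
    AddMonoidHom.toZModLinearMap q (AddMonoidHom.mk' (fun v => β l v w) (fun a b => hadd2 l a b w))
  let φ3 : ∀ (_ : Additive Λ) (_ : Additive (P ⧸ K)), Additive (P ⧸ K) →ₗ[ZMod q] ZMod q := fun l v =>
    AddMonoidHom.toZModLinearMap q (AddMonoidHom.mk' (fun w => β l v w) (fun a b => hadd3 l v a b))
  have hcardV : K.index = q ^ N := by
    rw [hN, Subgroup.index, ← Nat.card_congr (Additive.ofMul (α := P ⧸ K)).symm,
      Module.natCard_eq_pow_finrank (K := ZMod q) (V := Additive (P ⧸ K)), Nat.card_eq_fintype_card, ZMod.card]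
  have hcardL : Nat.card Λ = q ^ L := by
    rw [hL, ← Nat.card_congr (Additive.ofMul (α := Λ)).symm,
      Module.natCard_eq_pow_finrank (K := ZMod q) (V := Additive Λ), Nat.card_eq_fintype_card, ZMod.card]
  have hN0 : 0 < N := Nat.pos_of_ne_zero fun h0 => hKtop (Subgroup.index_eq_one.1 (by rw [hcardV, h0, pow_zero]))
  haveI : Nonempty (Fin N) := ⟨⟨0, hN0⟩⟩
  have key : 2 * Fintype.card (Fin L) ≤ Fintype.card (Fin N) := by
    refine two_mul_card_le (q := q) (fun i => Matrix.of fun x y => β (bL i) (bV x) (bV y)) (fun i => ⟨fun x y => ?_, fun x => ?_⟩) fun c hc => ?_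
    · refine hχ ?_
      simp only [Matrix.of_apply, AddChar.map_neg_eq_inv]
      rw [hlg, hlg, hanti]
    · refine hχ ?_
      simp only [Matrix.of_apply, AddChar.map_zero_eq_one]
      rw [hlg, halt]
    · set l := ∑ i, c i • bL i with hl
      have hl1 : l ≠ 0 := fun h => hc (funext fun i =>
        Fintype.linearIndependent_iff.1 bL.linearIndependent c h i)
      intro hdet
      obtain ⟨z, hz, hMz⟩ := Matrix.exists_mulVec_eq_zero_iff.2 hdet
      set w := ∑ y, z y • bV y with hw
      have hw1 : w ≠ 0 := fun h => hz (funext fun y =>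
        Fintype.linearIndependent_iff.1 bV.linearIndependent z h y)
      have hzero : ∀ x, φ2 l w (bV x) = 0 := by
        intro x
        have hx := congrFun hMz x
        rw [Pi.zero_apply, Matrix.mulVec, dotProduct] at hx
        show β l (bV x) w = 0
        rw [show β l (bV x) w = φ3 l (bV x) w from rfl, hw, map_sum]
        refine Eq.trans (Finset.sum_congr rfl fun y _ => ?_) hx
        rw [map_smul, smul_eq_mul, mul_comm]
        congr 1
        show β l (bV x) (bV y) = _
        rw [show β l (bV x) (bV y) = φ1 (bV x) (bV y) l from rfl, hl, map_sum, Matrix.sum_apply]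
        exact Finset.sum_congr rfl fun i _ => by rw [map_smul]; rfl
      have hz2 : φ2 l w = 0 := bV.ext fun x => hzero x
      have hl' : l.toMul ≠ 1 := fun h => hl1 (Additive.toMul.injective h)
      have hmem : w.toMul.out ∈ K := hnd _ hl' _ fun b => by
        rw [hanti, inv_eq_one]
        have h0 : β l (Additive.ofMul (b : P ⧸ K)) w = 0 := LinearMap.congr_fun hz2 _
        rw [← hβ l (Additive.ofMul (b : P ⧸ K)) w b _ rfl (QuotientGroup.out_eq' _), h0,
          AddChar.map_zero_eq_one]
      refine hw1 (Additive.toMul.injective ?_)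
      rw [toMul_zero, ← QuotientGroup.out_eq' w.toMul, QuotientGroup.eq_one_iff]
      exact hmem
  rw [Fintype.card_fin, Fintype.card_fin] at key
  rw [hcardV, hcardL, ← pow_mul]
  exact Nat.pow_le_pow_right hq.out.pos (by omega)

end Cfsg.Lib.NDAD
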