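import Cfsg.Agent.Chars.NDAD.AbFrob
import Cfsg.Agent.Chars.NDAD.Actions
import Cfsg.Agent.Chars.NDAD.B1Kernel
import Cfsg.Agent.Chars.NDAD.Reduce

/-!
# An abelian-by-cyclic group acting on the kernel: stabilisers of linear characters
-/

set_option autoImplicit false
set_option linter.unusedSectionVars false
set_option linter.style.haveILetI false

namespace Cfsg.Lib.NDAD

open Cfsg.Lib.Chars
open scoped commutatorElement

universe u v

/-- Restricting an action to an invariant subgroup. -/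
def resAct {H : Type v} [Group H] {V : Type u} [CommGroup V] (act : H →* MulAut V) (S : Subgroup V)
    (hS : ∀ h, ∀ x ∈ S, act h x ∈ S) : H →* MulAut S where
  toFun h :=
    { toFun := fun x => ⟨act h x, hS h x x.2⟩
      invFun := fun x => ⟨act h⁻¹ x, hS h⁻¹ x x.2⟩
      left_inv := fun x => Subtype.ext (by
        show act h⁻¹ (act h x) = x
        rw [← MulAut.mul_apply, ← map_mul, inv_mul_cancel, map_one, MulAut.one_apply])
      right_inv := fun x => Subtype.ext (by
        show act h (act h⁻¹ x) = x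
        rw [← MulAut.mul_apply, ← map_mul, mul_inv_cancel, map_one, MulAut.one_apply])
      map_mul' := fun x y => Subtype.ext (map_mul (act h) (x : V) (y : V)) }
  map_one' := MulEquiv.ext fun x => Subtype.ext (by show act 1 x = x; rw [map_one, MulAut.one_apply])
  map_mul' g h := MulEquiv.ext fun x => Subtype.ext (by
    show act (g * h) x = act g (act h x)
    rw [map_mul, MulAut.mul_apply])

theorem resAct_apply {H : Type v} [Group H] {V : Type u} [CommGroup V] (act : H →* MulAut V) (S : Subgroup V)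
    (hS : ∀ h, ∀ x ∈ S, act h x ∈ S) (h : H) (x : S) : ((resAct act S hS h x : S) : V) = act h x := rfl

/-- A fixed point free action is of order prime to the group acted on. -/
theorem not_dvd_card_of_fpf {Q : Type v} [Group Q] [Finite Q] {V : Type u} [CommGroup V] [Finite V]
    (act : Q →* MulAut V) (hfpf : ∀ a, a ≠ 1 → ∀ v, act a v = v → v = 1) {p : ℕ} (hp : p.Prime)
    (hpV : p ∣ Nat.card V) : ¬ p ∣ Nat.card Q := by
  classical
  intro hpQ
  haveI := Fact.mk hp
  haveI := Fintype.ofFinite V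
  obtain ⟨e, he⟩ := exists_prime_orderOf_dvd_card' (G := Q) p hpQ
  let σ : Equiv.Perm V := (act e).toEquiv
  have hσi : ∀ i : ℕ, ∀ x, (σ ^ i) x = act (e ^ i) x := by
    intro i
    induction i with
    | zero => intro x; rw [pow_zero, pow_zero, map_one]; rfl
    | succ i ih =>
      intro x
      rw [pow_succ, pow_succ, Equiv.Perm.mul_apply, ih, map_mul, MulAut.mul_apply]
      rfl
  have hσ : σ ^ p ^ 1 = 1 := Equiv.ext fun x => by
    rw [pow_one, hσi, ← he, pow_orderOf_eq_one, map_one]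
    rfl
  obtain ⟨b, hb, hb1⟩ := Equiv.Perm.exists_fixed_point_of_prime' (by rwa [← Nat.card_eq_fintype_card]) hσ
    (a := (1 : V)) (map_one (act e))
  have he1 : e ≠ 1 := fun h => by rw [h, orderOf_one] at he; exact hp.one_lt.ne he
  exact hb1 (hfpf e he1 b hb)

/-- A split extension of the kernel of `r` by `H = AF`, with `A = D × Z` and a fixed point free element. -/
structure SData {G H : Type u} [Group G] [Finite G] [Group H] [Finite H] (r : G →* H) (sec : H →* G) (f : ℕ)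
    (A D Z : Subgroup H) (a : H) : Prop where
  nd : NDAD G
  hrs : ∀ h, r (sec h) = h
  one_lt : 1 < f
  normA : A.Normal
  index : A.index = f
  cyc : IsCyclic (H ⧸ A)
  abA : ∀ x ∈ A, ∀ y ∈ A, x * y = y * x
  horb : ∀ l : A →* ℂˣ, inertia A (fun x => (l x : ℂ)) = A ∨ inertia A (fun x => (l x : ℂ)) = ⊤
  exf : ∃ χ : G → ℂ, Cfsg.IsIrrCharacter G χ ∧ deg χ = f
  normD : D.Normal
  DA : D ≤ A
  ZA : Z ≤ A
  inf : D ⊓ Z = ⊥
  sup : D ⊔ Z = A
  comD : D = commutator H
  Zc : ∀ z ∈ Z, ∀ h : H, h * z = z * h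
  cent : ∀ g : H, g ∉ A → ∀ x ∈ A, g * x = x * g → x ∈ Z
  copD : (Nat.card D).Coprime f
  Dne : D ≠ ⊥
  aA : a ∈ A
  afix : ∀ u : r.ker, sec a * u = u * sec a → u = 1
  nil : Group.IsNilpotent r.ker

variable {G H : Type u} [Group G] [Finite G] [Group H] [Finite H]

/-- The action on the linear characters of the kernel. -/
def la (r : G →* H) (sec : H →* G) : H →* MulAut (r.ker →* ℂˣ) := (conjLin r.ker).comp sec

/-- The stabiliser of a linear character of the kernel. -/
abbrev St (r : G →* H) (sec : H →* G) (ν : r.ker →* ℂˣ) : Subgroup H := stabAct (la r sec) ν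

namespace SData

variable {r : G →* H} {sec : H →* G} {f : ℕ} {A D Z : Subgroup H} {a : H} (s : SData r sec f A D Z a)
include s

theorem surj : Function.Surjective r := fun h => ⟨sec h, s.hrs h⟩

theorem mul_inv_mem (g : G) : g * (sec (r g))⁻¹ ∈ r.ker := by
  rw [MonoidHom.mem_ker, map_mul, map_inv, s.hrs, mul_inv_cancel]

theorem DZ_commute {d z : H} (hd : d ∈ A) (hz : z ∈ A) : Commute d z := s.abA d hd z hz

theorem inertia_eq (ν : r.ker →* ℂˣ) : inertia r.ker (fun x => (ν x : ℂ)) = (St r sec ν).comap r := by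
  have hu : ∀ u ∈ r.ker, conjLin r.ker u ν = ν := fun u hu => MonoidHom.ext fun x => by
    rw [conjLin_apply, show (⟨u⁻¹ * x * u, _⟩ : r.ker) = (⟨u, hu⟩ : r.ker)⁻¹ * x * ⟨u, hu⟩ from Subtype.ext rfl,
      map_mul, map_mul, map_inv, mul_comm, mul_inv_cancel_left]
  have hsplit : ∀ g : G, conjLin r.ker g ν = la r sec (r g) ν := fun g => by
    have h1 : conjLin r.ker g = conjLin r.ker (g * (sec (r g))⁻¹) * la r sec (r g) := by
      show _ = conjLin r.ker _ * conjLin r.ker (sec (r g))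
      rw [← map_mul, inv_mul_cancel_right]
    have hν : conjLin r.ker (g * (sec (r g))⁻¹) (la r sec (r g) ν) = la r sec (r g) ν := by
      refine MonoidHom.ext fun x => ?_
      rw [conjLin_apply, show (⟨(g * (sec (r g))⁻¹)⁻¹ * x * (g * (sec (r g))⁻¹), _⟩ : r.ker) =
        (⟨_, s.mul_inv_mem g⟩ : r.ker)⁻¹ * x * ⟨_, s.mul_inv_mem g⟩ from Subtype.ext rfl,
        map_mul, map_mul, map_inv, mul_comm, mul_inv_cancel_left]
    rw [h1, MulAut.mul_apply, hν]
  ext g
  rw [Subgroup.mem_comap, mem_stabAct, ← hsplit]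
  exact ⟨conjLin_of_inertia, inertia_of_conjLin⟩

theorem fixed_a {ν : r.ker →* ℂˣ} (h : la r sec a ν = ν) : ν = 1 := by
  have hν : ∀ u : r.ker, ν ⟨(sec a)⁻¹ * u * sec a, by
      simpa using (inferInstance : r.ker.Normal).conj_mem u u.2 (sec a)⁻¹⟩ = ν u := fun u => by
    have h1 := DFunLike.congr_fun h u
    exact (conjLin_apply r.ker (sec a) ν u).symm.trans h1
  let F : r.ker → r.ker := fun u => u⁻¹ * ⟨(sec a)⁻¹ * u * sec a, by
    simpa using (inferInstance : r.ker.Normal).conj_mem u u.2 (sec a)⁻¹⟩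
  have hF : Function.Injective F := fun u v huv => by
    have h1 : (u : G)⁻¹ * ((sec a)⁻¹ * u * sec a) = (v : G)⁻¹ * ((sec a)⁻¹ * v * sec a) :=
      congrArg Subtype.val huv
    refine mul_inv_eq_one.1 (s.afix (u * v⁻¹) ?_)
    have h2 : (u : G) * (v : G)⁻¹ * (sec a)⁻¹ = (sec a)⁻¹ * (u : G) * (v : G)⁻¹ := by
      calc (u : G) * (v : G)⁻¹ * (sec a)⁻¹
            = (u : G) * ((v : G)⁻¹ * ((sec a)⁻¹ * v * sec a)) * (sec a)⁻¹ * (v : G)⁻¹ := by group
        _ = (u : G) * ((u : G)⁻¹ * ((sec a)⁻¹ * u * sec a)) * (sec a)⁻¹ * (v : G)⁻¹ := by rw [h1]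
        _ = _ := by group
    calc sec a * ((u * v⁻¹ : r.ker) : G) = sec a * ((u : G) * (v : G)⁻¹ * (sec a)⁻¹) * sec a := by
          push_cast; group
      _ = sec a * ((sec a)⁻¹ * (u : G) * (v : G)⁻¹) * sec a := by rw [h2]
      _ = ((u * v⁻¹ : r.ker) : G) * sec a := by push_cast; group
  refine MonoidHom.ext fun w => ?_
  obtain ⟨u, rfl⟩ := (Finite.injective_iff_surjective.1 hF) w
  show ν (u⁻¹ * _) = 1
  rw [map_mul, map_inv, hν, inv_mul_cancel]

theorem St_ne_top {ν : r.ker →* ℂˣ} (hν : ν ≠ 1) : St r sec ν ≠ ⊤ :=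
  fun h => hν (s.fixed_a (h.ge (Subgroup.mem_top a)))

theorem one_lt_index {ν : r.ker →* ℂˣ} (hν : ν ≠ 1) : 1 < (St r sec ν).index :=
  Subgroup.one_lt_index_of_ne_top (s.St_ne_top hν)

/-- A nontrivial linear character extends to its inertia group. -/
theorem exists_ext (ν : r.ker →* ℂˣ) : ∃ ψ : ((St r sec ν).comap r : Subgroup G) →* ℂˣ,
    ∀ (n : r.ker) (h : (n : G) ∈ (St r sec ν).comap r), ψ ⟨n, h⟩ = ν n := by
  refine ⟨{ toFun := fun t => ν ⟨_, s.mul_inv_mem t⟩, map_one' := ?_, map_mul' := fun t t' => ?_ },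
    fun n h => congrArg ν (Subtype.ext ?_)⟩
  · exact (congrArg ν (Subtype.ext (by simp))).trans (map_one ν)
  · have hm : sec (r t) * ((t' : G) * (sec (r t'))⁻¹) * (sec (r t))⁻¹ ∈ r.ker :=
      (inferInstance : r.ker.Normal).conj_mem _ (s.mul_inv_mem t') _
    have h1 := DFunLike.congr_fun (show la r sec (r t) ν = ν from t.2) (⟨_, hm⟩ : r.ker)
    change conjLin r.ker (sec (r t)) ν _ = _ at h1
    rw [conjLin_apply] at h1
    have h2 : ν ⟨_, s.mul_inv_mem t'⟩ = ν ⟨_, hm⟩ :=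
      (congrArg ν (Subtype.ext (by group))).trans h1
    calc ν ⟨_, s.mul_inv_mem (t * t' : G)⟩
          = ν (⟨_, s.mul_inv_mem t⟩ * ⟨_, hm⟩) := congrArg ν (Subtype.ext (by
            show (t : G) * t' * (sec (r (t * t' : G)))⁻¹ = _
            rw [Subgroup.coe_mul, map_mul, map_mul]; group))
      _ = _ := by rw [map_mul, h2]
  · show (n : G) * (sec (r n))⁻¹ = n
    rw [MonoidHom.mem_ker.1 n.2, map_one, inv_one, mul_one]

theorem exists_deg {ν : r.ker →* ℂˣ} (hν : ν ≠ 1) :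
    (∃ χ : G → ℂ, Cfsg.IsIrrCharacter G χ ∧ deg χ = (St r sec ν).index) ∧
      ∀ x ∈ St r sec ν, ∀ y ∈ St r sec ν, x * y = y * x := by
  obtain ⟨ψ, hψ⟩ := s.exists_ext ν
  have hidx : ((St r sec ν).comap r).index = (St r sec ν).index := Subgroup.index_comap_of_surjective _ s.surj
  obtain ⟨⟨χ, hχ, hd⟩, hab⟩ := abelian_inertia_of_ext s.nd r.ker (isIrrCharacter_linear ν)
    (s.inertia_eq ν).symm (isIrrCharacter_linear ψ) (fun n h => congrArg Units.val (hψ n h))
    (by rw [hidx, show deg (fun n : r.ker => (ν n : ℂ)) = 1 by simp [deg], mul_one]; exact s.one_lt_index hν)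
  rw [hidx, show deg (fun n : r.ker => (ν n : ℂ)) = 1 by simp [deg], mul_one] at hd
  refine ⟨⟨χ, hχ, hd⟩, fun x hx y hy => ?_⟩
  have h := hab (sec x) (by rw [Subgroup.mem_comap, s.hrs]; exact hx) (sec y)
    (by rw [Subgroup.mem_comap, s.hrs]; exact hy)
  rw [MonoidHom.mem_ker, map_commutatorElement, s.hrs, s.hrs] at h
  exact commutatorElement_eq_one_iff_mul_comm.1 h

theorem not_le {ν : r.ker →* ℂˣ} (hν : ν ≠ 1) : ¬ St r sec ν ≤ A := by
  intro hle
  obtain ⟨⟨χ, hχ, hd⟩, -⟩ := s.exists_deg hν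
  obtain ⟨φ, hφ, hφd⟩ := s.exf
  have hdvd : f ∣ (St r sec ν).index := s.index ▸ Subgroup.index_dvd_of_le hle
  have h := s.nd.eq_of_dvd hφ hχ (by have := s.one_lt; omega) (by rw [hφd, hd]; exact hdvd)
  rw [hd, hφd] at h
  have heq : St r sec ν = A := Subgroup.eq_of_le_of_card_ge hle (le_of_eq (by
    have h1 := A.card_mul_index
    have h2 := (St r sec ν).card_mul_index
    rw [h] at h2; rw [s.index] at h1
    exact Nat.eq_of_mul_eq_mul_right (by have := s.one_lt; omega) (h1.trans h2.symm)))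
  exact hν (s.fixed_a (heq ▸ s.aA : a ∈ St r sec ν))

theorem inf_le_Z {ν : r.ker →* ℂˣ} (hν : ν ≠ 1) : St r sec ν ⊓ A ≤ Z := by
  obtain ⟨g, hg, hgA⟩ := SetLike.not_le_iff_exists.1 (s.not_le hν)
  intro x hx
  exact s.cent g hgA x hx.2 ((s.exists_deg hν).2 g hg x hx.1)

theorem semireg {d : H} (hd : d ∈ D) {ν : r.ker →* ℂˣ} (hν : ν ≠ 1) (h : la r sec d ν = ν) : d = 1 := by
  have h1 : d ∈ D ⊓ Z := ⟨hd, s.inf_le_Z hν ⟨h, s.DA hd⟩⟩
  rwa [s.inf, Subgroup.mem_bot] at h1

theorem copW {p : ℕ} (hp : p.Prime) (hpW : p ∣ Nat.card (r.ker →* ℂˣ)) : ¬ p ∣ Nat.card D :=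
  not_dvd_card_of_fpf ((la r sec).comp D.subtype) (fun d hd v hv => by
    by_contra h
    exact hd (Subtype.ext (s.semireg d.2 h hv))) hp hpW

/-- An abelian complement part fixes a character together with the central part of the stabiliser. -/
theorem exists_fixed (E : Subgroup H) (hEZ : E ⊓ A ≤ Z) {x : r.ker →* ℂˣ} (hx1 : x ≠ 1)
    (hEx : E ⊓ A ≤ St r sec x) :
    ∃ μ : r.ker →* ℂˣ, μ ≠ 1 ∧ E ≤ St r sec μ ∧ St r sec x ⊓ Z ≤ St r sec μ := by
  classical
  haveI := s.normA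
  haveI := s.normD
  let V : Subgroup (r.ker →* ℂˣ) :=
    { carrier := {w | St r sec x ⊓ Z ≤ St r sec w}
      one_mem' := fun z _ => map_one _
      mul_mem' := fun {v w} hv hw z hz => by
        show la r sec z (v * w) = v * w
        rw [map_mul, show la r sec z v = v from hv hz, show la r sec z w = w from hw hz]
      inv_mem' := fun {v} hv z hz => by
        show la r sec z v⁻¹ = v⁻¹
        exact (map_inv (la r sec z) v).trans (congrArg (·⁻¹) (hv hz)) }
  have hV : ∀ h, ∀ w ∈ V, la r sec h w ∈ V := fun h w hw z hz => by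
    show la r sec z (la r sec h w) = la r sec h w
    rw [← MulAut.mul_apply, ← map_mul, ← s.Zc z hz.2 h, map_mul, MulAut.mul_apply,
      show la r sec z w = w from hw hz]
  let act := resAct (la r sec) V hV
  letI : CommGroup D := { mul_comm := fun u v => Subtype.ext (s.abA u (s.DA u.2) v (s.DA v.2)) }
  have hker : ∀ e : E, e ∈ A.subgroupOf E → (e : H) ∈ Z := fun e he => hEZ ⟨e.2, he⟩
  let aF : E ⧸ A.subgroupOf E →* MulAut V := QuotientGroup.lift _ (act.comp E.subtype) fun e he =>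
    MulEquiv.ext fun w => Subtype.ext (w.2 ⟨hEx ⟨e.2, he⟩, hker e he⟩)
  let φ : E ⧸ A.subgroupOf E →* MulAut D := QuotientGroup.lift _
    ((MulAut.conjNormal : H →* MulAut D).comp E.subtype) fun e he => MulEquiv.ext fun d => Subtype.ext (by
      rw [MonoidHom.comp_apply, MulAut.conjNormal_apply, Subgroup.coe_subtype, ← s.Zc _ (hker e he) d,
        mul_inv_cancel_right, MulAut.one_apply])
  let aD : D →* MulAut V := act.comp D.subtype
  haveI := Fintype.ofFinite (E ⧸ A.subgroupOf E)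
  -- a power of `x` of prime order
  obtain ⟨p, hp, hpx⟩ := Nat.exists_prime_and_dvd (fun h => hx1 (orderOf_eq_one_iff.1 h) : orderOf x ≠ 1)
  set y := x ^ (orderOf x / p) with hy
  have hyp : orderOf y = p := orderOf_pow_orderOf_div (orderOf_pos x).ne' hpx
  have hyV : y ∈ V := V.pow_mem (show x ∈ V from fun z hz => hz.1) _
  have hpW : p ∣ Nat.card (r.ker →* ℂˣ) := hyp ▸ orderOf_dvd_natCard y
  have hc : ∀ t d w, aF t (aD d w) = aD (φ t d) (aF t w) := by
    intro t d w
    induction t using QuotientGroup.induction_on with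
    | _ e =>
      refine Subtype.ext ?_
      show la r sec e (la r sec d w) = la r sec ((MulAut.conjNormal (e : H) d : D) : H) (la r sec e w)
      rw [← MulAut.mul_apply, ← MulAut.mul_apply, ← map_mul, ← map_mul, MulAut.conjNormal_apply,
        inv_mul_cancel_right]
  have hf : ∀ t, t ≠ 1 → ∀ d, φ t d = d → d = 1 := by
    intro t ht d hd
    induction t using QuotientGroup.induction_on with
    | _ e =>
      have heA : (e : H) ∉ A := fun h => ht ((QuotientGroup.eq_one_iff e).2 h)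
      have h1 : (e : H) * d * (e : H)⁻¹ = d :=
        (MulAut.conjNormal_apply _ _).symm.trans (congrArg Subtype.val hd)
      have h2 : (d : H) ∈ D ⊓ Z := ⟨d.2, s.cent e heA d (s.DA d.2) (mul_inv_eq_iff_eq_mul.1 h1)⟩
      rw [s.inf, Subgroup.mem_bot] at h2
      exact Subtype.ext h2
  have hD : ∀ w : V, (∀ d, aD d w = w) → w = 1 := by
    intro w hw
    obtain ⟨⟨d, hd⟩, hd1'⟩ := (Subgroup.ne_bot_iff_exists_ne_one).1 s.Dne
    have hd1 : d ≠ 1 := fun e => hd1' (Subtype.ext e)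
    by_contra hw1
    exact hd1 (s.semireg hd (fun e => hw1 (Subtype.ext e)) (congrArg Subtype.val (hw ⟨d, hd⟩)))
  have hx : (⟨y, hyV⟩ : V) ^ Nat.card D ≠ 1 := by
    intro h
    have h1 : p ∣ Nat.card D := hyp ▸ orderOf_dvd_of_pow_eq_one (congrArg Subtype.val h)
    exact s.copW hp hpW h1
  obtain ⟨d, hd⟩ := exists_norm_ne_one aD aF φ hc hf hD hx
  refine ⟨_, fun e => hd (Subtype.ext e), fun e he => ?_, (∏ t, aF t (aD d ⟨y, hyV⟩)).2⟩
  set v := aD d ⟨y, hyV⟩
  have h1 : act e (∏ t, aF t v) = ∏ t, aF t v := by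
    rw [show act e = aF (QuotientGroup.mk ⟨e, he⟩) from rfl, map_prod]
    simp only [apply_apply_mul (aF _) (aF _), ← map_mul]
    exact Equiv.prod_comp (Equiv.mulLeft (QuotientGroup.mk (⟨e, he⟩ : E))) fun t => aF t v
  exact congrArg Subtype.val h1

theorem stab_index_eq {ν μ : r.ker →* ℂˣ} (hν : ν ≠ 1) (hμ : μ ≠ 1)
    (h : (St r sec μ).index ∣ (St r sec ν).index) : (St r sec μ).index = (St r sec ν).index := by
  obtain ⟨⟨χ, hχ, hχd⟩, -⟩ := s.exists_deg hν
  obtain ⟨⟨ψ, hψ, hψd⟩, -⟩ := s.exists_deg hμ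
  have h1 := s.one_lt_index hμ
  have h2 := s.nd.eq_of_dvd hψ hχ (by omega) (by rwa [hψd, hχd])
  rw [hψd, hχd] at h2
  exact h2.symm

/-- All stabilisers have the same part in `A`. -/
theorem stab_inf {ν μ : r.ker →* ℂˣ} (hν : ν ≠ 1) (hμ : μ ≠ 1) : St r sec ν ⊓ A = St r sec μ ⊓ A := by
  have hZ : ∀ {ν : r.ker →* ℂˣ}, ν ≠ 1 → St r sec ν ⊓ A = St r sec ν ⊓ Z := fun hν =>
    le_antisymm (le_inf inf_le_left (s.inf_le_Z hν)) (inf_le_inf_left _ s.ZA)
  have key : ∀ {ν μ : r.ker →* ℂˣ}, ν ≠ 1 → μ ≠ 1 → St r sec ν ⊓ Z ≤ St r sec μ ⊓ Z →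
      St r sec μ ⊓ Z ≤ St r sec ν ⊓ Z := by
    intro ν μ hν hμ hle
    obtain ⟨μ', hμ', hE, hZμ⟩ := s.exists_fixed (St r sec ν) (s.inf_le_Z hν) hμ
      ((hZ hν).le.trans (hle.trans inf_le_left))
    have heq := s.stab_index_eq hν hμ' (Subgroup.index_dvd_of_le hE)
    have heq' : St r sec ν = St r sec μ' := Subgroup.eq_of_le_of_card_ge hE (le_of_eq (by
      have h1 := (St r sec ν).card_mul_index
      have h2 := (St r sec μ').card_mul_index
      rw [heq] at h2
      exact Nat.eq_of_mul_eq_mul_right (lt_trans one_pos (s.one_lt_index hν)) (h2.trans h1.symm)))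
    exact le_inf (heq' ▸ hZμ) inf_le_right
  letI : CommGroup Z := { mul_comm := fun u v => Subtype.ext (s.abA u (s.ZA u.2) v (s.ZA v.2)) }
  let act : Z →* MulAut (r.ker →* ℂˣ) := (la r sec).comp Z.subtype
  have hmap : ∀ v, (stabAct act v).map Z.subtype = St r sec v ⊓ Z := fun v => by
    ext z
    constructor
    · rintro ⟨z, hz, rfl⟩
      exact ⟨hz, z.2⟩
    · rintro ⟨hz, hzZ⟩
      exact ⟨⟨z, hzZ⟩, hz, rfl⟩
  have hanti : ∀ v w : r.ker →* ℂˣ, v ≠ 1 → w ≠ 1 → stabAct act v ≤ stabAct act w → stabAct act v = stabAct act w := by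
    intro v w hv hw hle
    refine le_antisymm hle fun z hz => ?_
    exact (key hv hw (hmap v ▸ hmap w ▸ Subgroup.map_mono hle) ⟨hz, z.2⟩).1
  have hss : ∀ (z : Z) (v w : r.ker →* ℂˣ), act z v = v → act z w = w * v → v = 1 := by
    intro z v w h1 h2
    by_contra hv
    by_cases hw : w = 1
    · rw [hw, map_one] at h2
      exact hv (h2.trans (one_mul v)).symm
    have hle : stabAct act w ≤ stabAct act v := fun z' hz' => by
      rw [mem_stabAct] at hz' ⊢
      have h3 : act z' (act z w) = act z w := by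
        rw [← MulAut.mul_apply, ← map_mul, mul_comm, map_mul, MulAut.mul_apply, hz']
      rw [h2, map_mul, hz'] at h3
      exact mul_left_cancel h3
    have hzw : z ∈ stabAct act w := (hanti w v hw hv hle).ge h1
    rw [mem_stabAct, h2] at hzw
    exact hv (mul_left_cancel (hzw.trans (mul_one w).symm))
  rw [hZ hν, hZ hμ, ← hmap, ← hmap]
  have h := common_stabilizer (V := r.ker →* ℂˣ) act hss hanti hν hμ
  exact congrArg _ h

end SData

end Cfsg.Lib.NDAD
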