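import Cfsg.Agent.Chars.NDAD.SDeg
import Cfsg.Agent.Coprime.Generation
import Mathlib.Algebra.Order.BigOperators.Group.Finset

/-!
# Counting the stabilisers: the group of linear characters is small
-/

set_option autoImplicit false
set_option linter.unusedSectionVars false
set_option linter.style.haveILetI false

namespace Cfsg.Lib.NDAD

open Cfsg.Lib.Chars
open scoped commutatorElement

universe u

/-- A sum of powers is large. -/
theorem sq_mul_pow_le {a e : ℕ} (ha : 2 ≤ a) (he : 2 ≤ e) :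
    e ^ 2 * a ^ e ≤ 4 * (∑ i ∈ Finset.range e, a ^ i) ^ 2 := by
  induction e, he using Nat.le_induction with
  | base =>
    simp only [Finset.sum_range_succ, Finset.sum_range_zero, pow_zero, pow_one, zero_add]
    nlinarith
  | succ e he ih =>
    rw [geom_sum_succ]
    set S := ∑ i ∈ Finset.range e, a ^ i with hS
    by_cases h : a = 2 ∧ e = 2
    · obtain ⟨rfl, rfl⟩ := h
      simp [hS, Finset.sum_range_succ]
    have hae : (e + 1) ^ 2 ≤ a * e ^ 2 := by
      by_cases he3 : 3 ≤ e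
      · nlinarith [Nat.mul_le_mul_right (e ^ 2) ha, Nat.mul_le_mul_right e he3]
      · obtain rfl : e = 2 := by omega
        omega
    calc (e + 1) ^ 2 * a ^ (e + 1) ≤ a * e ^ 2 * a ^ (e + 1) := Nat.mul_le_mul_right _ hae
      _ = a ^ 2 * (e ^ 2 * a ^ e) := by ring
      _ ≤ a ^ 2 * (4 * S ^ 2) := Nat.mul_le_mul_left _ ih
      _ ≤ 4 * (a * S + 1) ^ 2 := by nlinarith

variable {G H : Type u} [Group G] [Finite G] [Group H] [Finite H]

theorem index_subgroupOf_eq_imgCard (A : Subgroup H) [A.Normal] (S : Subgroup H) :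
    (A.subgroupOf S).index = imgCard A S := by
  rw [imgCard, show S.map (QuotientGroup.mk' A) = ((QuotientGroup.mk' A).comp S.subtype).range by
    rw [MonoidHom.range_comp, Subgroup.range_subtype], ← Subgroup.index_ker, ← MonoidHom.comap_ker,
    QuotientGroup.ker_mk']
  rfl

/-- In a cyclic group, the `e`-torsion elements lie in every subgroup of order `e`. -/
theorem mem_of_pow_eq_one_of_cyclic {C : Type u} [Group C] [Finite C] [IsCyclic C] {e : ℕ} (he : 0 < e)
    (S : Subgroup C) (hS : Nat.card S = e) {x : C} (hx : x ^ e = 1) : x ∈ S := by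
  classical
  haveI := Fintype.ofFinite C
  have hsub : Finset.univ.filter (fun y => y ∈ S) ⊆ Finset.univ.filter (fun y => y ^ e = 1) := fun y hy => by
    simp only [Finset.mem_filter, Finset.mem_univ, true_and] at hy ⊢
    rw [← hS]
    exact congrArg Subtype.val (pow_card_eq_one' (x := (⟨y, hy⟩ : S)))
  have heq := Finset.eq_of_subset_of_card_le hsub (by
    rw [← Fintype.card_subtype, ← Fintype.card_subtype, ← Nat.card_eq_fintype_card, ← Nat.card_eq_fintype_card]
    refine le_of_le_of_eq ?_ hS.symm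
    rw [Nat.card_eq_fintype_card, Fintype.card_subtype]
    exact IsCyclic.card_pow_eq_one_le he)
  have h1 : x ∈ Finset.univ.filter (fun y => y ∈ S) := heq ▸ Finset.mem_filter.2 ⟨Finset.mem_univ x, hx⟩
  exact (Finset.mem_filter.1 h1).2

namespace SData

variable {r : G →* H} {sec : H →* G} {f : ℕ} {A D Z : Subgroup H} {a : H} (s : SData r sec f A D Z a)
include s

theorem imgCard_const {ν μ : r.ker →* ℂˣ} (hν : ν ≠ 1) (hμ : μ ≠ 1) : haveI := s.normA
    imgCard A (St r sec ν) = imgCard A (St r sec μ) := by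
  haveI := s.normA
  have h1 := (St r sec ν).card_mul_index
  have h2 := (St r sec μ).card_mul_index
  rw [card_eq_inf_mul_imgCard A] at h1 h2
  rw [s.stab_inf hμ hν, ← s.index_const hν hμ, ← h1] at h2
  exact (Nat.eq_of_mul_eq_mul_left Nat.card_pos
    (Nat.eq_of_mul_eq_mul_right (Nat.pos_of_ne_zero (St r sec ν).index_ne_zero_of_finite) h2)).symm

/-- The set of characters fixed by a stabiliser determines the number of characters. -/
theorem card_eq_pow {ν : r.ker →* ℂˣ} (hν : ν ≠ 1) : haveI := s.normA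
    Nat.card (r.ker →* ℂˣ) = Nat.card {x : r.ker →* ℂˣ // St r sec ν ≤ St r sec x} ^ imgCard A (St r sec ν) := by
  classical
  haveI := s.normA
  haveI := s.normD
  set S := St r sec ν with hS
  letI : CommGroup D := { mul_comm := fun u v => Subtype.ext (s.abA u (s.DA u.2) v (s.DA v.2)) }
  have hker : ∀ e : S, e ∈ A.subgroupOf S → (e : H) ∈ Z ∧ ∀ x, la r sec e x = x := fun e he => by
    refine ⟨s.inf_le_Z hν ⟨e.2, he⟩, fun x => ?_⟩
    by_cases hx : x = 1
    · rw [hx]; exact map_one (la r sec (e : H))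
    · exact ((s.stab_inf hν hx).le ⟨e.2, he⟩).1
  let aF : S ⧸ A.subgroupOf S →* MulAut (r.ker →* ℂˣ) :=
    QuotientGroup.lift _ ((la r sec).comp S.subtype) fun e he => MulEquiv.ext fun x => (hker e he).2 x
  let φ : S ⧸ A.subgroupOf S →* MulAut D := QuotientGroup.lift _
    ((MulAut.conjNormal : H →* MulAut D).comp S.subtype) fun e he => MulEquiv.ext fun d => Subtype.ext (by
      rw [MonoidHom.comp_apply, MulAut.conjNormal_apply, Subgroup.coe_subtype, ← s.Zc _ (hker e he).1 d,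
        mul_inv_cancel_right, MulAut.one_apply])
  have hc : ∀ t d w, aF t (((la r sec).comp D.subtype) d w) = ((la r sec).comp D.subtype) (φ t d) (aF t w) := by
    intro t d w
    induction t using QuotientGroup.induction_on with
    | _ e =>
      show la r sec e (la r sec d w) = la r sec ((MulAut.conjNormal (e : H) d : D) : H) (la r sec e w)
      rw [← MulAut.mul_apply, ← MulAut.mul_apply, ← map_mul, ← map_mul, MulAut.conjNormal_apply,
        inv_mul_cancel_right]
  have hf : ∀ t, t ≠ 1 → ∀ d, φ t d = d → d = 1 := by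
    intro t ht d hd
    induction t using QuotientGroup.induction_on with
    | _ e =>
      have heA : (e : H) ∉ A := fun h => ht ((QuotientGroup.eq_one_iff e).2 h)
      have h1 : (e : H) * d * (e : H)⁻¹ = d :=
        (MulAut.conjNormal_apply _ _).symm.trans (congrArg Subtype.val hd)
      have h2 : (d : H) ∈ D ⊓ Z := ⟨d.2, s.cent e heA d (s.DA d.2) (mul_inv_eq_iff_eq_mul.1 h1)⟩
      rw [s.inf, Subgroup.mem_bot] at h2
      exact Subtype.ext h2
  obtain ⟨δ, hδ⟩ := (Subgroup.ne_bot_iff_exists_ne_one).1 s.Dne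
  have h := card_eq_fixed_pow ((la r sec).comp D.subtype) aF φ hc hf (fun (d : D) hd (x : r.ker →* ℂˣ) hx => by
    by_contra hx1
    exact hd (Subtype.ext (s.semireg d.2 hx1 hx))) hδ
  rw [h, ← index_subgroupOf_eq_imgCard A S]
  refine congrArg₂ (· ^ ·) (Nat.card_congr (Equiv.subtypeEquivRight fun x => ⟨fun hx e he => ?_, fun hx t => ?_⟩)) rfl
  · exact hx (QuotientGroup.mk (⟨e, he⟩ : S))
  · induction t using QuotientGroup.induction_on with
    | _ e => exact hx e.2

/-- The stabilisers after conjugation. -/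
theorem St_eq_sup {ν₀ : r.ker →* ℂˣ} (hν₀ : ν₀ ≠ 1) {g1 : H} (hg1 : g1 ∈ St r sec ν₀)
    (hgen : haveI := s.normA; (St r sec ν₀).map (QuotientGroup.mk' A) = Subgroup.zpowers (QuotientGroup.mk' A g1))
    {x : r.ker →* ℂˣ} (hx : x ≠ 1) :
    ∃ d ∈ D, ∃ z ∈ Z, z ^ (haveI := s.normA; imgCard A (St r sec ν₀)) ∈ St r sec ν₀ ⊓ A ∧
      St r sec (la r sec d x) = (St r sec ν₀ ⊓ A) ⊔ Subgroup.zpowers (g1 * z) := by
  classical
  haveI := s.normA
  haveI := s.cyc
  set π := QuotientGroup.mk' A with hπ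
  set e := imgCard A (St r sec ν₀) with he
  set Z0 := St r sec ν₀ ⊓ A with hZ0
  have hmk : ∀ y, π y = 1 ↔ y ∈ A := fun y => QuotientGroup.eq_one_iff y
  have hgA : g1 ∉ A := fun hgA => s.not_le hν₀ fun y hy => by
    have h1 : π y ∈ Subgroup.zpowers (π g1) := hgen ▸ Subgroup.mem_map_of_mem π hy
    rw [(hmk g1).2 hgA, Subgroup.zpowers_one_eq_bot, Subgroup.mem_bot] at h1
    exact (hmk y).1 h1
  have hpow : ∀ {y : r.ker →* ℂˣ}, y ≠ 1 → ∀ g ∈ St r sec y, π g ^ e = 1 := by
    intro y hy g hg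
    rw [he, s.imgCard_const hν₀ hy]
    exact congrArg Subtype.val (pow_card_eq_one' (x := (⟨π g, Subgroup.mem_map_of_mem π hg⟩ : (St r sec y).map π)))
  obtain ⟨g, hg, hggen⟩ := s.exists_gen x
  have hgA' : g ∉ A := fun hgA => s.not_le hx fun y hy => by
    have h1 : π y ∈ Subgroup.zpowers (π g) := hggen ▸ Subgroup.mem_map_of_mem π hy
    rw [(hmk g).2 hgA, Subgroup.zpowers_one_eq_bot, Subgroup.mem_bot] at h1
    exact (hmk y).1 h1
  obtain ⟨d, hd, hdg⟩ := s.conj_into hgA hgA'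
  set x' := la r sec d x with hx'
  have hx'1 : x' ≠ 1 := s.la_ne_one hx
  have hπd : π d = 1 := (hmk d).2 (s.DA hd)
  have hπg : π (d * g * d⁻¹) = π g := by rw [map_mul, map_mul, map_inv, hπd, inv_one, one_mul, mul_one]
  -- the image of every stabiliser is the same
  have himg : π g1 ∈ Subgroup.zpowers (π g) := by
    rw [← hggen]
    refine mem_of_pow_eq_one_of_cyclic Nat.card_pos _ rfl ?_
    show π g1 ^ imgCard A (St r sec x) = 1
    rw [← s.imgCard_const hν₀ hx]
    exact hpow hν₀ g1 hg1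
  obtain ⟨k, hk⟩ := himg
  change π g ^ k = π g1 at hk
  set h := (d * g * d⁻¹) ^ k with hh
  have hhx : h ∈ St r sec x' := Subgroup.zpow_mem _ (s.la_conj_mem hg) k
  have hhc : g1 * h = h * g1 := (Commute.zpow_right (hdg : Commute g1 (d * g * d⁻¹)) k).eq
  have hπh : π h = π g1 := by rw [hh, map_zpow, hπg, hk]
  have hzA : g1⁻¹ * h ∈ A := (hmk _).1 (by rw [map_mul, map_inv, hπh, inv_mul_cancel])
  have hzc : g1 * (g1⁻¹ * h) = g1⁻¹ * h * g1 := by
    rw [mul_inv_cancel_left, mul_assoc, ← hhc, inv_mul_cancel_left]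
  have hzZ : g1⁻¹ * h ∈ Z := s.cent g1 hgA _ hzA hzc
  refine ⟨d, hd, g1⁻¹ * h, hzZ, ?_, ?_⟩
  · have h1 : g1 ^ e ∈ Z0 := ⟨Subgroup.pow_mem _ hg1 e, (hmk _).1 (by rw [map_pow]; exact hpow hν₀ g1 hg1)⟩
    have h2 : h ^ e ∈ Z0 := (s.stab_inf hx'1 hν₀).le
      ⟨Subgroup.pow_mem _ hhx e, (hmk _).1 (by rw [map_pow, hπh]; exact hpow hν₀ g1 hg1)⟩
    rw [show (g1⁻¹ * h) ^ e = (g1 ^ e)⁻¹ * h ^ e by
      rw [((show Commute g1 h from hhc).inv_left).mul_pow, inv_pow]]
    exact Z0.mul_mem (Z0.inv_mem h1) h2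
  · rw [mul_inv_cancel_left]
    have hZ0x : Z0 ≤ St r sec x' := (s.stab_inf hν₀ hx'1).le.trans inf_le_left
    refine le_antisymm (fun y hy => ?_) (sup_le hZ0x (Subgroup.zpowers_le.2 hhx))
    have hy' : π y ∈ Subgroup.zpowers (π h) := by
      rw [hπh, ← hgen]
      refine mem_of_pow_eq_one_of_cyclic Nat.card_pos _ rfl ?_
      exact hpow hx'1 y hy
    obtain ⟨i, hi⟩ := hy'
    change π h ^ i = π y at hi
    have h1 : y * (h ^ i)⁻¹ ∈ Z0 := (s.stab_inf hx'1 hν₀).le
      ⟨Subgroup.mul_mem _ hy (Subgroup.inv_mem _ (Subgroup.zpow_mem _ hhx i)),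
        (hmk _).1 (by rw [map_mul, map_inv, map_zpow, hi, mul_inv_cancel])⟩
    rw [← inv_mul_cancel_right y (h ^ i)]
    exact Subgroup.mul_mem_sup h1 (Subgroup.zpow_mem _ (Subgroup.mem_zpowers h) i)

/-- The group of linear characters is less than the square of the order of `D`, roughly. -/
theorem count_absurd (hW : ∃ ν : r.ker →* ℂˣ, ν ≠ 1) {n : ℕ} (hn : Nat.card D < n)
    (hsq : n ^ 2 ≤ Nat.card (r.ker →* ℂˣ)) : False := by
  classical
  haveI := s.normA
  haveI := s.normD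
  obtain ⟨ν₀, hν₀⟩ := hW
  obtain ⟨g1, hg1, hgen⟩ := s.exists_gen ν₀
  set π := QuotientGroup.mk' A with hπ
  set e := imgCard A (St r sec ν₀) with he
  set Z0 := St r sec ν₀ ⊓ A with hZ0
  have hZ0Z : Z0 ≤ Z := s.inf_le_Z hν₀
  haveI := Fintype.ofFinite (r.ker →* ℂˣ)
  have hepos : 0 < e := Nat.card_pos
  have he2 : 2 ≤ e := by
    by_contra hlt
    have h1 : e = 1 := by omega
    refine s.not_le hν₀ fun y hy => ?_
    have h2 := Subgroup.card_eq_one.1 (show Nat.card ((St r sec ν₀).map π) = 1 from h1)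
    have h3 : π y = 1 := Subgroup.mem_bot.1 (h2 ▸ Subgroup.mem_map_of_mem π hy)
    exact (QuotientGroup.eq_one_iff y).1 h3
  set a := Nat.card {x : (r.ker →* ℂˣ) // St r sec ν₀ ≤ St r sec x} with ha
  have hWa : Nat.card (r.ker →* ℂˣ) = a ^ e := s.card_eq_pow hν₀
  have ha2 : 2 ≤ a := by
    by_contra hlt
    have h1 : a ^ e ≤ 1 := (Nat.pow_le_pow_left (by omega : a ≤ 1) e).trans (by rw [one_pow])
    have h2 : 1 < Nat.card (r.ker →* ℂˣ) := Finite.one_lt_card_iff_nontrivial.2 ⟨⟨ν₀, 1, hν₀⟩⟩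
    omega
  have ha' : ∀ x : (r.ker →* ℂˣ), x ≠ 1 → Nat.card {y : (r.ker →* ℂˣ) // St r sec x ≤ St r sec y} = a := fun x hx => by
    have h := s.card_eq_pow hx
    rw [← s.imgCard_const hν₀ hx, ← he, hWa] at h
    exact (Nat.pow_left_injective (by omega) h).symm
  -- characters with a given stabiliser
  have hfib : ∀ T : Subgroup H, Nat.card {x : (r.ker →* ℂˣ) // x ≠ 1 ∧ St r sec x = T} ≤ a - 1 := by
    intro T
    by_cases hT : Nonempty {x : (r.ker →* ℂˣ) // x ≠ 1 ∧ St r sec x = T}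
    · obtain ⟨x, hx, hxT⟩ := hT
      let F : Option {x : (r.ker →* ℂˣ) // x ≠ 1 ∧ St r sec x = T} → {y : (r.ker →* ℂˣ) // St r sec x ≤ St r sec y} := fun o =>
        o.elim ⟨1, fun z _ => map_one (la r sec z)⟩ fun y => ⟨y.1, (hxT.trans y.2.2.symm).le⟩
      have hF : Function.Injective F := by
        rintro (_ | u) (_ | v) huv
        · rfl
        · exact absurd (congrArg Subtype.val huv).symm v.2.1
        · exact absurd (congrArg Subtype.val huv) u.2.1
        · exact congrArg some (Subtype.ext (congrArg (fun w => w.1) huv))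
      have h := Nat.card_le_card_of_injective F hF
      rw [Finite.card_option, ha' x hx] at h
      omega
    · haveI := not_nonempty_iff.1 hT
      simp
  -- the parameters
  letI : CommGroup Z := { mul_comm := fun u v => Subtype.ext (s.abA u (s.ZA u.2) v (s.ZA v.2)) }
  set K := {c : Z ⧸ Z0.subgroupOf Z // c ^ e = 1} with hK
  let T : D × K → Subgroup H := fun p =>
    (Z0 ⊔ Subgroup.zpowers (g1 * ((p.2.1.out : Z) : H))).map (MulAut.conj (p.1 : H)).toMonoidHom
  have hcover : ∀ x : (r.ker →* ℂˣ), x ≠ 1 → ∃ p : D × K, St r sec x = T p := by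
    intro x hx
    obtain ⟨d, hd, z, hz, hze, hsup⟩ := s.St_eq_sup hν₀ hg1 hgen hx
    refine ⟨(⟨d⁻¹, D.inv_mem hd⟩, ⟨QuotientGroup.mk (⟨z, hz⟩ : Z), by
      rw [← QuotientGroup.mk_pow, QuotientGroup.eq_one_iff]; exact hze⟩), ?_⟩
    have hout := QuotientGroup.eq.1 (QuotientGroup.out_eq' (QuotientGroup.mk (⟨z, hz⟩ : Z) : Z ⧸ Z0.subgroupOf Z))
    set w := ((QuotientGroup.mk (⟨z, hz⟩ : Z) : Z ⧸ Z0.subgroupOf Z).out : Z)
    have hwz : (w : H)⁻¹ * z ∈ Z0 := hout
    have heq : (Z0 ⊔ Subgroup.zpowers (g1 * (w : H))) = Z0 ⊔ Subgroup.zpowers (g1 * z) := by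
      refine le_antisymm (sup_le le_sup_left (Subgroup.zpowers_le.2 ?_)) (sup_le le_sup_left (Subgroup.zpowers_le.2 ?_))
      · rw [show g1 * (w : H) = g1 * z * ((w : H)⁻¹ * z)⁻¹ by group]
        exact Subgroup.mul_mem _ (Subgroup.mem_sup_right (Subgroup.mem_zpowers _)) (Subgroup.mem_sup_left (Z0.inv_mem hwz))
      · rw [show g1 * z = g1 * (w : H) * ((w : H)⁻¹ * z) by group]
        exact Subgroup.mul_mem _ (Subgroup.mem_sup_right (Subgroup.mem_zpowers _)) (Subgroup.mem_sup_left hwz)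
    show St r sec x = (Z0 ⊔ Subgroup.zpowers (g1 * (w : H))).map (MulAut.conj (d⁻¹ : H)).toMonoidHom
    rw [heq, ← hsup, ← s.St_conj, ← MulAut.mul_apply, ← map_mul, inv_mul_cancel, map_one, MulAut.one_apply]
  have hcount : Nat.card {x : (r.ker →* ℂˣ) // x ≠ 1} ≤ Nat.card D * Nat.card K * (a - 1) := by
    haveI := Fintype.ofFinite (D × K)
    let F : (Σ p : D × K, {x : (r.ker →* ℂˣ) // x ≠ 1 ∧ St r sec x = T p}) → {x : (r.ker →* ℂˣ) // x ≠ 1} := fun q => ⟨q.2.1, q.2.2.1⟩
    have hF : Function.Surjective F := fun x => by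
      obtain ⟨p, hp⟩ := hcover x.1 x.2
      exact ⟨⟨p, x.1, x.2, hp⟩, rfl⟩
    refine (Nat.card_le_card_of_surjective F hF).trans ?_
    rw [Nat.card_sigma, ← Nat.card_prod, Nat.card_eq_fintype_card (α := D × K)]
    refine (Finset.sum_le_sum fun p _ => hfib (T p)).trans ?_
    rw [Finset.sum_const, Finset.card_univ, smul_eq_mul]
  -- `Z` modulo the common part is cyclic
  have hsr : ∀ c : Z ⧸ Z0.subgroupOf Z, c ≠ 1 → ∀ v : (r.ker →* ℂˣ),
      (QuotientGroup.lift (Z0.subgroupOf Z) ((la r sec).comp Z.subtype) fun z hz => MulEquiv.ext fun v => by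
        by_cases hv : v = 1
        · show la r sec (z : H) v = v
          rw [hv]; exact map_one (la r sec (z : H))
        · exact ((s.stab_inf hν₀ hv).le hz).1) c v = v → v = 1 := by
    intro c hc v hv
    induction c using QuotientGroup.induction_on with
    | _ z =>
      by_contra hv1
      exact hc ((QuotientGroup.eq_one_iff z).2 ((s.stab_inf hv1 hν₀).le ⟨hv, s.ZA z.2⟩))
  obtain ⟨p, hp, hpν⟩ := Nat.exists_prime_and_dvd (fun h => hν₀ (orderOf_eq_one_iff.1 h) : orderOf ν₀ ≠ 1)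
  set v := ν₀ ^ (orderOf ν₀ / p) with hv
  have hvp : orderOf v = p := orderOf_pow_orderOf_div (orderOf_pos ν₀).ne' hpν
  have hpW : p ∣ Nat.card (r.ker →* ℂˣ) := hvp ▸ orderOf_dvd_natCard v
  haveI hcyc : IsCyclic (Z ⧸ Z0.subgroupOf Z) := isCyclic_of_fpf _ hsr ⟨v, fun p' hp' hdvd h => by
    have h1 : p ∣ p' := hvp ▸ orderOf_dvd_of_pow_eq_one h
    rw [← (Nat.prime_dvd_prime_iff_eq hp hp').1 h1] at hdvd
    exact not_dvd_card_of_fpf _ hsr hp hpW hdvd⟩
  let Kg : Subgroup (Z ⧸ Z0.subgroupOf Z) :=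
    { carrier := {c | c ^ e = 1}
      one_mem' := one_pow e
      mul_mem' := fun {x y} hx hy => by
        show (x * y) ^ e = 1
        rw [mul_pow, show x ^ e = 1 from hx, show y ^ e = 1 from hy, one_mul]
      inv_mem' := fun {x} hx => by
        show x⁻¹ ^ e = 1
        rw [inv_pow, show x ^ e = 1 from hx, inv_one] }
  have hKg : Nat.card K = Nat.card Kg := rfl
  set k := Nat.card K with hk
  have hke : k ∣ e := by
    rw [hKg, ← IsCyclic.exponent_eq_card]
    exact Monoid.exponent_dvd_of_forall_pow_eq_one fun c => Subtype.ext c.2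
  have hkZ : k ∣ Nat.card (Z ⧸ Z0.subgroupOf Z) := hKg ▸ Subgroup.card_subgroup_dvd_card Kg
  have h2k : 2 * k ≤ e := by
    obtain ⟨t, ht⟩ := hke
    rcases Nat.lt_or_ge t 2 with ht2 | ht2
    · exfalso
      interval_cases t
      · simp at ht; omega
      obtain ⟨t, hZt⟩ := hkZ
      rw [mul_one] at ht
      rw [← ht] at hZt
      have hA : Nat.card A = Nat.card D * Nat.card Z := by
        rw [← s.sup, Cfsg.Lib.Coprime.card_sup_of_inf_eq_bot (fun z hz => ?_) s.inf]
        rw [Subgroup.normalizer_eq_top_iff.2 s.normD]; exact Subgroup.mem_top z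
      have hZc : Nat.card Z = Nat.card (Z ⧸ Z0.subgroupOf Z) * Nat.card Z0 := by
        rw [Subgroup.card_eq_card_quotient_mul_card_subgroup (Z0.subgroupOf Z),
          Nat.card_congr (Subgroup.subgroupOfEquivOfLe hZ0Z).toEquiv]
      have h1 := (St r sec ν₀).card_mul_index
      rw [card_eq_inf_mul_imgCard A, ← A.card_mul_index, hA, hZc, hZt, s.index, ← hZ0, ← he] at h1
      have h2 : (St r sec ν₀).index = Nat.card D * t * f := by
        refine Nat.eq_of_mul_eq_mul_left (Nat.mul_pos (Nat.card_pos (α := Z0)) hepos) ?_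
        rw [h1]; ring
      obtain ⟨⟨χ, hχ, hd⟩, -⟩ := s.exists_deg hν₀
      obtain ⟨φ, hφ, hφd⟩ := s.exf
      have h3 := s.nd.eq_of_dvd hφ hχ (by have := s.one_lt; omega) (by rw [hφd, hd, h2]; exact dvd_mul_left _ _)
      rw [hd, hφd, h2] at h3
      have h4 : Nat.card D * t = 1 := Nat.eq_of_mul_eq_mul_right (by have := s.one_lt; omega) (h3.trans (one_mul f).symm)
      exact s.Dne (Subgroup.card_eq_one.1 (Nat.eq_one_of_mul_eq_one_right h4))
    · rw [ht, mul_comm]; exact Nat.mul_le_mul_left k ht2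
  -- the final estimate
  set S := ∑ i ∈ Finset.range e, a ^ i with hS
  have hgeo : S * (a - 1) + 1 = a ^ e := by
    have h := geom_sum_mul_add (a - 1) e
    rwa [Nat.sub_add_cancel (by omega : 1 ≤ a)] at h
  have hne : Nat.card {x : (r.ker →* ℂˣ) // x ≠ 1} = a ^ e - 1 := by
    rw [Nat.card_eq_fintype_card, Fintype.card_subtype_compl, Fintype.card_subtype_eq, ← Nat.card_eq_fintype_card,
      hWa]
  have hS1 : S ≤ Nat.card D * k := by
    rw [hne, ← hgeo, Nat.add_sub_cancel] at hcount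
    exact Nat.le_of_mul_le_mul_right hcount (by omega)
  have h1 := sq_mul_pow_le ha2 he2
  rw [← hS, ← hWa] at h1
  have h2 : Nat.card D ^ 2 < n ^ 2 := Nat.pow_lt_pow_left hn (by norm_num)
  have h3 : 4 * S ^ 2 ≤ e ^ 2 * Nat.card D ^ 2 := by
    calc 4 * S ^ 2 ≤ 4 * (Nat.card D * k) ^ 2 := Nat.mul_le_mul_left _ (Nat.pow_le_pow_left hS1 2)
      _ = (2 * k) ^ 2 * Nat.card D ^ 2 := by ring
      _ ≤ _ := Nat.mul_le_mul_right _ (Nat.pow_le_pow_left h2k 2)
  have h4 : e ^ 2 * Nat.card (r.ker →* ℂˣ) ≤ e ^ 2 * Nat.card D ^ 2 := h1.trans h3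
  have h5 : Nat.card (r.ker →* ℂˣ) ≤ Nat.card D ^ 2 := Nat.le_of_mul_le_mul_left h4 (pow_pos hepos 2)
  omega

end SData

end Cfsg.Lib.NDAD
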