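import Cfsg.Agent.Chars.NDAD.SBase
import Mathlib.GroupTheory.Abelianization.Finite
import Mathlib.Data.Nat.Factorization.Basic

/-!
# All stabilisers have the same index; the degrees when the kernel is abelian
-/

set_option autoImplicit false
set_option linter.unusedSectionVars false
set_option linter.style.haveILetI false

namespace Cfsg.Lib.NDAD

open Cfsg.Lib.Chars
open scoped commutatorElement

universe u

variable {G H : Type u} [Group G] [Finite G] [Group H] [Finite H]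

/-- The degree over a character extending to its inertia group with abelian quotient. -/
theorem deg_eq_of_ext (N : Subgroup G) [N.Normal] [Fintype N] {θ : N → ℂ} (hθ : Cfsg.IsIrrCharacter N θ)
    {T : Subgroup G} (hT : T = inertia N θ) (hab : ∀ x ∈ T, ∀ y ∈ T, ⁅x, y⁆ ∈ N) {ψ : T → ℂ}
    (hψ : Cfsg.IsIrrCharacter T ψ) (hres : ∀ (n : N) (h : (n : G) ∈ T), ψ ⟨n, h⟩ = θ n) {χ : G → ℂ}
    (hχ : Cfsg.IsIrrCharacter G χ) (hc : Cfsg.classInner (fun n : N => χ n) θ ≠ 0) :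
    deg χ = T.index * deg θ := by
  classical
  haveI := Fintype.ofFinite G
  haveI := Fintype.ofFinite T
  have hNT : N ≤ T := hT ▸ le_inertia (isClassFunction_isChar (isCharacter_of_irr hθ))
  let e := Subgroup.subgroupOfEquivOfLe hNT
  haveI : Fintype (N.subgroupOf T) := Fintype.ofFinite _
  obtain ⟨φ, hφ, h1, h2⟩ := exists_constituent_over T hNT (isCharacter_of_irr hχ) hc
  obtain ⟨hind, -, -⟩ := clifford_correspondence hθ T hT hNT hχ hφ h1 h2
  obtain ⟨k, -, hk⟩ := restrict_of_le_inertia N hθ T hNT hT.le hφ h2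
  have hψN : Cfsg.IsIrrCharacter (N.subgroupOf T) (fun x : N.subgroupOf T => ψ x) := by
    rw [show (fun x : N.subgroupOf T => ψ x) = fun x => θ (e x) from funext fun x => hres (e x) (x : T).2]
    exact IsIrrCharacter.comp_mulEquiv hθ e
  obtain ⟨b, hb, hφb, hbN⟩ := exists_factor_extension (N.subgroupOf T) hψ hψN hφ (e := k) (fun x =>
    (congrFun hk (e x)).trans (congrArg ((k : ℂ) * ·) (hres (e x) (x : T).2).symm))
  obtain ⟨b', hb', hbb⟩ := exists_factor (QuotientGroup.mk' (N.subgroupOf T))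
    (QuotientGroup.mk'_surjective _) (isCharacter_of_irr hb)
    (fun x hx => hbN ⟨x, by rwa [QuotientGroup.ker_mk'] at hx⟩)
  have hirr : Cfsg.IsIrrCharacter (T ⧸ N.subgroupOf T) b' :=
    IsIrrCharacter.descend hb' (QuotientGroup.mk' _) (QuotientGroup.mk'_surjective _) (hbb ▸ hb)
  have hb1 : b 1 = 1 := by
    have h1 := irr_deg_one_of_comm (G := T ⧸ N.subgroupOf T) (fun x y => by
      induction x using QuotientGroup.induction_on with
      | _ x =>
      induction y using QuotientGroup.induction_on with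
      | _ y =>
        rw [← commutatorElement_eq_one_iff_mul_comm, ← QuotientGroup.mk'_apply, ← QuotientGroup.mk'_apply,
          ← map_commutatorElement, QuotientGroup.mk'_apply, QuotientGroup.eq_one_iff]
        exact hab x x.2 y y.2) hirr
    rw [hbb]
    simp only [map_one]
    exact h1
  apply Nat.cast_injective (R := ℂ)
  rw [← IsCharacter.apply_one_eq_deg (isCharacter_of_irr hχ), ← hind, indFun_one, hφb, Pi.mul_apply,
    hb1, one_mul, Nat.cast_mul, ← IsCharacter.apply_one_eq_deg (isCharacter_of_irr hθ)]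
  congr 1
  exact hres 1 (one_mem _)

/-- The order of the image modulo `A`. -/
noncomputable def imgCard (A : Subgroup H) [A.Normal] (S : Subgroup H) : ℕ :=
  Nat.card (S.map (QuotientGroup.mk' A))

theorem card_eq_inf_mul_imgCard (A : Subgroup H) [A.Normal] (S : Subgroup H) :
    Nat.card S = Nat.card (S ⊓ A : Subgroup H) * imgCard A S := by
  have h := (A.subgroupOf S).card_mul_index
  rw [← Subgroup.inf_subgroupOf_left A S, Nat.card_congr (Subgroup.subgroupOfEquivOfLe (inf_le_left : S ⊓ A ≤ S)).toEquiv,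
    Subgroup.inf_subgroupOf_left] at h
  rw [← h, imgCard]
  congr 1
  have hr : (S.map (QuotientGroup.mk' A)) = ((QuotientGroup.mk' A).comp S.subtype).range := by
    rw [MonoidHom.range_comp, Subgroup.range_subtype]
  rw [hr, ← Subgroup.index_ker, ← MonoidHom.comap_ker, QuotientGroup.ker_mk']
  rfl

namespace SData

variable {r : G →* H} {sec : H →* G} {f : ℕ} {A D Z : Subgroup H} {a : H} (s : SData r sec f A D Z a)
include s

/-- Every element outside `A` is conjugate by `D` into the centraliser of a given one. -/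
theorem conj_into {g0 : H} (hg0 : g0 ∉ A) {g : H} (hg : g ∉ A) :
    ∃ d ∈ D, g0 * (d * g * d⁻¹) = d * g * d⁻¹ * g0 := by
  haveI := s.normD
  have hbij : ∀ x : H, x ∉ A → ∀ δ ∈ D, ∃ d ∈ D, ⁅d, x⁆ = δ := by
    intro x hx δ hδ
    let Φ : D → D := fun d => ⟨⁅(d : H), x⁆, by
      rw [show ⁅(d : H), x⁆ = d * (x * (d : H)⁻¹ * x⁻¹) by rw [commutatorElement_def]; group]
      exact D.mul_mem d.2 (s.normD.conj_mem _ (D.inv_mem d.2) x)⟩
    have hΦ : Function.Injective Φ := fun u v huv => by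
      have h1 : (u : H) * x * (u : H)⁻¹ * x⁻¹ = (v : H) * x * (v : H)⁻¹ * x⁻¹ := congrArg Subtype.val huv
      have hw : x * ((v : H)⁻¹ * u) = (v : H)⁻¹ * u * x := by
        calc x * ((v : H)⁻¹ * u) = (v : H)⁻¹ * ((v : H) * x * (v : H)⁻¹ * x⁻¹) * x * u := by group
          _ = (v : H)⁻¹ * ((u : H) * x * (u : H)⁻¹ * x⁻¹) * x * u := by rw [h1]
          _ = _ := by group
      have h2 : (v : H)⁻¹ * u ∈ D ⊓ Z := ⟨D.mul_mem (D.inv_mem v.2) u.2,
        s.cent x hx _ (A.mul_mem (A.inv_mem (s.DA v.2)) (s.DA u.2)) hw⟩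
      rw [s.inf, Subgroup.mem_bot] at h2
      exact Subtype.ext (inv_mul_eq_one.1 h2).symm
    obtain ⟨d, hd⟩ := (Finite.injective_iff_surjective.1 hΦ) ⟨δ, hδ⟩
    exact ⟨d, d.2, congrArg Subtype.val hd⟩
  have hδ : ⁅g0, g⁆ ∈ D := s.comD ▸ Subgroup.commutator_mem_commutator (Subgroup.mem_top _) (Subgroup.mem_top _)
  obtain ⟨e, he, heq⟩ := hbij g hg (⁅g0, g⁆)⁻¹ (D.inv_mem hδ)
  obtain ⟨d, hd, hde⟩ := hbij g0 hg0 e⁻¹ (D.inv_mem he)
  refine ⟨d, hd, ?_⟩
  have hd' : g0 * d * g0⁻¹ = d * e := by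
    have h2 : (d * g0 * d⁻¹ * g0⁻¹)⁻¹ = e := by rw [← commutatorElement_def, hde, inv_inv]
    have hc2 : Commute (g0 * d * g0⁻¹) d⁻¹ := s.abA _ (s.DA (s.normD.conj_mem d hd g0)) _ (A.inv_mem (s.DA hd))
    calc g0 * d * g0⁻¹ = d * (d⁻¹ * (g0 * d * g0⁻¹)) := by group
      _ = d * (g0 * d * g0⁻¹ * d⁻¹) := by rw [hc2.eq]
      _ = d * e := by rw [← h2]; group
  have hcomm : Commute e (⁅g0, g⁆) := s.abA e (s.DA he) _ (s.DA hδ)
  have hge : g * e⁻¹ = e⁻¹ * ((⁅g0, g⁆)⁻¹ * g) := by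
    rw [← heq, commutatorElement_def]; group
  calc g0 * (d * g * d⁻¹)
        = g0 * d * g0⁻¹ * (⁅g0, g⁆ * g) * (g0 * d * g0⁻¹)⁻¹ * g0 := by
          rw [commutatorElement_def]; group
    _ = d * e * (⁅g0, g⁆ * g) * (d * e)⁻¹ * g0 := by rw [hd']
    _ = d * (e * ⁅g0, g⁆ * (g * e⁻¹)) * d⁻¹ * g0 := by group
    _ = d * (⁅g0, g⁆ * (e * e⁻¹) * (⁅g0, g⁆)⁻¹ * g) * d⁻¹ * g0 := by
          rw [hge, hcomm.eq]; group
    _ = d * g * d⁻¹ * g0 := by group

/-- The centraliser of an element outside `A` is abelian. -/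
theorem centr_comm {g0 : H} (hg0 : g0 ∉ A) {x y : H} (hx : g0 * x = x * g0) (hy : g0 * y = y * g0) :
    x * y = y * x := by
  haveI := s.normA
  haveI := s.cyc
  let L : Subgroup H := Subgroup.centralizer ({g0} : Set H)
  have hmem : ∀ {z : H}, g0 * z = z * g0 → z ∈ L := fun {z} hz =>
    Subgroup.mem_centralizer_iff.2 fun w hw => by rw [Set.mem_singleton_iff.1 hw, hz]
  have hker : ((QuotientGroup.mk' A).comp L.subtype).ker ≤ Subgroup.center L := fun z hz =>
    Subgroup.mem_center_iff.2 fun w => Subtype.ext (s.Zc z (s.cent g0 hg0 z ((QuotientGroup.eq_one_iff _).1 hz)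
      (Subgroup.mem_centralizer_iff.1 z.2 g0 (Set.mem_singleton g0))) w)
  exact congrArg Subtype.val ((MonoidHom.isMulCommutative_of_isCyclic_of_ker_le_center ((QuotientGroup.mk' A).comp L.subtype) hker).is_comm.comm
    (⟨x, hmem hx⟩ : L) ⟨y, hmem hy⟩)

theorem la_conj_mem {d h : H} {ν : r.ker →* ℂˣ} (hh : h ∈ St r sec ν) :
    d * h * d⁻¹ ∈ St r sec (la r sec d ν) := by
  rw [mem_stabAct, ← MulAut.mul_apply, ← map_mul, inv_mul_cancel_right, map_mul, MulAut.mul_apply,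
    show la r sec h ν = ν from hh]

theorem la_ne_one {d : H} {ν : r.ker →* ℂˣ} (hν : ν ≠ 1) : la r sec d ν ≠ 1 := fun h =>
  hν ((la r sec d).injective (h.trans (map_one (la r sec d)).symm))

theorem St_conj (d : H) (ν : r.ker →* ℂˣ) :
    St r sec (la r sec d ν) = (St r sec ν).map (MulAut.conj d).toMonoidHom := by
  ext h
  constructor
  · intro hh
    refine ⟨d⁻¹ * h * d, ?_, by simp [mul_assoc]⟩
    have h1 := s.la_conj_mem (d := d⁻¹) hh
    rwa [inv_inv, ← MulAut.mul_apply, ← map_mul, inv_mul_cancel, map_one, MulAut.one_apply] at h1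
  · rintro ⟨h, hh, rfl⟩
    exact s.la_conj_mem hh

/-- A generator of the image of a stabiliser. -/
theorem exists_gen (ν : r.ker →* ℂˣ) : haveI := s.normA
    ∃ g ∈ St r sec ν, (St r sec ν).map (QuotientGroup.mk' A) = Subgroup.zpowers (QuotientGroup.mk' A g) := by
  haveI := s.normA
  haveI := s.cyc
  obtain ⟨c, hc⟩ := IsCyclic.exists_generator (α := (St r sec ν).map (QuotientGroup.mk' A))
  obtain ⟨g, hg, hgc⟩ := c.2
  refine ⟨g, hg, le_antisymm (fun y hy => ?_) (Subgroup.zpowers_le.2 (Subgroup.mem_map_of_mem _ hg))⟩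
  obtain ⟨k, hk⟩ := hc ⟨y, hy⟩
  refine ⟨k, ?_⟩
  have h := congrArg Subtype.val hk
  simpa [hgc] using h

theorem index_dvd_of_img {ν μ : r.ker →* ℂˣ} (hν : ν ≠ 1) (hμ : μ ≠ 1)
    (h : haveI := s.normA; imgCard A (St r sec ν) ∣ imgCard A (St r sec μ)) :
    (St r sec μ).index ∣ (St r sec ν).index := by
  haveI := s.normA
  obtain ⟨t, ht⟩ := h
  have h1 := (St r sec ν).card_mul_index
  have h2 := (St r sec μ).card_mul_index
  rw [card_eq_inf_mul_imgCard A] at h1 h2
  rw [s.stab_inf hμ hν, ht] at h2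
  refine ⟨t, Nat.eq_of_mul_eq_mul_left (Nat.mul_pos (Nat.card_pos (α := (St r sec ν ⊓ A : Subgroup H)))
    (show 0 < imgCard A (St r sec ν) from Nat.card_pos)) ?_⟩
  rw [h1, ← h2]; ring

/-- All stabilisers have the same index. -/
theorem index_const {ν μ : r.ker →* ℂˣ} (hν : ν ≠ 1) (hμ : μ ≠ 1) :
    (St r sec ν).index = (St r sec μ).index := by
  classical
  haveI := s.normA
  set π := QuotientGroup.mk' A with hπ
  obtain ⟨g0, hg0, hg0A⟩ := SetLike.not_le_iff_exists.1 (s.not_le hν)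
  have hin : ∀ {ν : r.ker →* ℂˣ}, ν ≠ 1 → ∃ ν' : r.ker →* ℂˣ, ν' ≠ 1 ∧ (St r sec ν').index = (St r sec ν).index ∧
      ∃ g ∈ St r sec ν', g0 * g = g * g0 ∧ orderOf (π g) = imgCard A (St r sec ν') := by
    intro ν hν
    obtain ⟨g, hg, hgen⟩ := s.exists_gen ν
    have hgA : g ∉ A := fun hgA => s.not_le hν fun x hx => by
      have h1 : π x ∈ Subgroup.zpowers (π g) := hgen ▸ Subgroup.mem_map_of_mem π hx
      rw [show π g = 1 from (QuotientGroup.eq_one_iff g).2 hgA, Subgroup.zpowers_one_eq_bot, Subgroup.mem_bot] at h1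
      exact (QuotientGroup.eq_one_iff x).1 h1
    obtain ⟨d, hd, hdg⟩ := s.conj_into hg0A hgA
    have hπd : π d = 1 := (QuotientGroup.eq_one_iff d).2 (s.DA hd)
    refine ⟨la r sec d ν, s.la_ne_one hν, ?_, d * g * d⁻¹, s.la_conj_mem hg, hdg, ?_⟩
    · rw [s.St_conj]
      exact Subgroup.index_map_equiv _ (MulAut.conj d)
    · have hm : (St r sec (la r sec d ν)).map π = (St r sec ν).map π := by
        rw [s.St_conj, Subgroup.map_map]
        refine le_antisymm ?_ ?_ <;> rintro _ ⟨x, hx, rfl⟩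
        · exact ⟨x, hx, by simp [hπd]⟩
        · exact ⟨x, hx, by simp [hπd]⟩
      rw [imgCard, ← hπ, hm, hgen, Nat.card_zpowers, map_mul, map_mul, map_inv, hπd, inv_one, one_mul, mul_one]
  obtain ⟨ν', hν', hνi, g1, hg1, hg1c, ho1⟩ := hin hν
  obtain ⟨μ', hμ', hμi, g2, hg2, hg2c, ho2⟩ := hin hμ
  rw [← hνi, ← hμi]
  set e1 := imgCard A (St r sec ν')
  set e2 := imgCard A (St r sec μ')
  have he1 : e1 ≠ 0 := Nat.card_pos.ne'
  have he2 : e2 ≠ 0 := Nat.card_pos.ne'
  set a1 := Nat.factorizationLCMLeft e1 e2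
  set a2 := Nat.factorizationLCMRight e1 e2
  set h1 := g1 ^ (e1 / a1) with hh1
  set h2 := g2 ^ (e2 / a2) with hh2
  have ho1' : orderOf (π h1) = a1 := by
    rw [hh1, map_pow, ← ho1, orderOf_pow_orderOf_div (orderOf_pos _).ne']
    rw [ho1]; exact Nat.factorizationLCMLeft_dvd_left e1 e2
  have ho2' : orderOf (π h2) = a2 := by
    rw [hh2, map_pow, ← ho2, orderOf_pow_orderOf_div (orderOf_pos _).ne']
    rw [ho2]; exact Nat.factorizationLCMRight_dvd_right e1 e2
  have hcom : Commute h1 h2 := (Commute.pow_pow (s.centr_comm hg0A hg1c hg2c) _ _ : _)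
  have hoh : orderOf (π (h1 * h2)) = a1 * a2 := by
    rw [map_mul, (hcom.map π).orderOf_mul_eq_mul_orderOf_of_coprime, ho1', ho2']
    rw [ho1', ho2']
    exact Nat.coprime_factorizationLCMLeft_factorizationLCMRight e1 e2
  set Z0 := St r sec ν' ⊓ A with hZ0
  haveI : Z0.Normal := ⟨fun z hz g => by rw [s.Zc z (s.inf_le_Z hν' hz) g, mul_inv_cancel_right]; exact hz⟩
  set E := Z0 ⊔ Subgroup.zpowers (h1 * h2) with hE
  have hEA : E ⊓ A ≤ Z0 := by
    rintro x ⟨hx, hxA⟩
    obtain ⟨z, hz, w, ⟨k, rfl⟩, rfl⟩ := Subgroup.mem_sup_of_normal_left.1 hx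
    have hk : π (h1 * h2) ^ k = 1 := by
      rw [← map_zpow]
      exact (QuotientGroup.eq_one_iff _).2 ((A.mul_mem_cancel_left hz.2).1 hxA)
    rw [← orderOf_dvd_iff_zpow_eq_one, hoh, Nat.cast_mul] at hk
    have k1 : h1 ^ k ∈ St r sec ν' ⊓ A := ⟨Subgroup.zpow_mem _ (Subgroup.pow_mem _ hg1 _) k,
      (QuotientGroup.eq_one_iff _).1 (by
        show π (h1 ^ k) = 1
        rw [map_zpow, ← orderOf_dvd_iff_zpow_eq_one, ho1']; exact dvd_trans (dvd_mul_right _ _) hk)⟩
    have k2 : h2 ^ k ∈ St r sec μ' ⊓ A := ⟨Subgroup.zpow_mem _ (Subgroup.pow_mem _ hg2 _) k,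
      (QuotientGroup.eq_one_iff _).1 (by
        show π (h2 ^ k) = 1
        rw [map_zpow, ← orderOf_dvd_iff_zpow_eq_one, ho2']; exact dvd_trans (dvd_mul_left _ _) hk)⟩
    rw [s.stab_inf hμ' hν'] at k2
    show z * (h1 * h2) ^ k ∈ Z0
    rw [hcom.mul_zpow]
    exact Z0.mul_mem hz (Z0.mul_mem k1 k2)
  obtain ⟨m, hm, hEm, -⟩ := s.exists_fixed E (hEA.trans (s.inf_le_Z hν')) hν' (hEA.trans inf_le_left)
  have hdvd : a1 * a2 ∣ imgCard A (St r sec m) := by
    rw [← hoh]
    exact Subgroup.orderOf_dvd_natCard _ (Subgroup.mem_map_of_mem π (hEm (Subgroup.mem_sup_right (Subgroup.mem_zpowers _))))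
  rw [Nat.factorizationLCMLeft_mul_factorizationLCMRight he1 he2] at hdvd
  rw [← s.stab_index_eq hν' hm (s.index_dvd_of_img hν' hm ((Nat.dvd_lcm_left _ _).trans hdvd)),
    ← s.stab_index_eq hμ' hm (s.index_dvd_of_img hμ' hm ((Nat.dvd_lcm_right _ _).trans hdvd))]

/-- The degrees when the kernel is abelian. -/
theorem degs_of_comm (hU : ∀ x y : r.ker, x * y = y * x) :
    ∃ d : ℕ, ∀ χ : G → ℂ, Cfsg.IsIrrCharacter G χ → deg χ = 1 ∨ deg χ = f ∨ deg χ = d := by
  classical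
  haveI := s.normA
  haveI := Fintype.ofFinite G
  haveI := Fintype.ofFinite r.ker
  haveI := Fintype.ofFinite A
  haveI := Fintype.ofFinite H
  obtain ⟨d, hd⟩ : ∃ d : ℕ, ∀ ν : r.ker →* ℂˣ, ν ≠ 1 → (St r sec ν).index = d := by
    by_cases h : ∃ ν₀ : r.ker →* ℂˣ, ν₀ ≠ 1
    · obtain ⟨ν₀, hν₀⟩ := h
      exact ⟨_, fun ν hν => s.index_const hν hν₀⟩
    · exact ⟨0, fun ν hν => absurd ⟨ν, hν⟩ h⟩
  refine ⟨d, fun χ hχ => ?_⟩
  obtain ⟨θ, hθ, hc⟩ := exists_constituent r.ker (isCharacter_of_irr hχ) (IsIrrCharacter.apply_one_ne_zero hχ)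
  obtain ⟨ν, hν⟩ := exists_hom_of_deg_one (isCharacter_of_irr hθ) (irr_deg_one_of_comm hU hθ)
  have hdeg1 : deg θ = 1 := by rw [hν]; simp [deg]
  by_cases hν1 : ν = 1
  · have hker : ∀ x ∈ r.ker, χ x = χ 1 := by
      intro x hx
      have hθ1 : θ = fun _ => 1 := by rw [hν, hν1]; funext; simp
      obtain ⟨e, -, he⟩ := restrict_eq_mult_of_invariant r.ker hχ hθ (fun g => by rw [hθ1]; rfl) hc
      have h1 := congrFun he ⟨x, hx⟩
      have h2 := congrFun he 1
      simp only [Pi.smul_apply, hθ1, OneMemClass.coe_one] at h1 h2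
      rw [h1, h2]
    obtain ⟨χ', hχ', hfac⟩ := exists_factor r s.surj (isCharacter_of_irr hχ) hker
    have hirr : Cfsg.IsIrrCharacter H χ' := IsIrrCharacter.descend hχ' r s.surj (hfac ▸ hχ)
    have hd' : deg χ = deg χ' := by rw [hfac]; exact deg_comp _ _
    obtain ⟨θ', hθ', hc'⟩ := exists_constituent A (isCharacter_of_irr hirr) (IsIrrCharacter.apply_one_ne_zero hirr)
    obtain ⟨l, hl⟩ := exists_hom_of_deg_one (isCharacter_of_irr hθ')
      (irr_deg_one_of_comm (fun x y : A => Subtype.ext (s.abA x x.2 y y.2)) hθ')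
    have hd2 := deg_eq_of_cyclic A s.cyc hirr hθ' hc'
    rw [show deg θ' = 1 by rw [hl]; simp [deg], mul_one, hl] at hd2
    rcases s.horb l with h | h
    · exact Or.inr (Or.inl (by rw [hd', hd2, h, s.index]))
    · exact Or.inl (by rw [hd', hd2, h, Subgroup.index_top])
  · obtain ⟨ψ, hψ⟩ := s.exists_ext ν
    have hab := (s.exists_deg hν1).2
    have hd1 := deg_eq_of_ext r.ker hθ (T := (St r sec ν).comap r)
      (by rw [hν]; exact (s.inertia_eq ν).symm)
      (fun x hx y hy => by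
        rw [MonoidHom.mem_ker, map_commutatorElement, commutatorElement_eq_one_iff_mul_comm]
        exact hab _ hx _ hy)
      (isIrrCharacter_linear ψ) (fun n h => by rw [hν]; exact congrArg Units.val (hψ n h)) hχ hc
    rw [hdeg1, mul_one, Subgroup.index_comap_of_surjective _ s.surj, hd ν hν1] at hd1
    exact Or.inr (Or.inr hd1)

end SData

end Cfsg.Lib.NDAD
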