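import Cfsg.Agent.Chars.NDAD.SCount
import Cfsg.Agent.Chars.NDAD.Levels

/-!
# The kernel is abelian: characters over the first commutator factor
-/

set_option autoImplicit false
set_option linter.unusedSectionVars false
set_option linter.style.haveILetI false

namespace Cfsg.Lib.NDAD

open Cfsg.Lib.Chars
open scoped commutatorElement ComplexConjugate

universe u

variable {G H : Type u} [Group G] [Finite G] [Group H] [Finite H]

/-- Two irreducible characters that are proportional with a positive factor are equal. -/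
theorem eq_of_proportional {P : Type u} [Group P] [Finite P] {η η' : P → ℂ}
    (hη : Cfsg.IsIrrCharacter P η) (hη' : Cfsg.IsIrrCharacter P η')
    (h : ∀ x, η' x * η 1 = η x * η' 1) : η' = η := by
  classical
  haveI := Fintype.ofFinite P
  by_contra hne
  have h0 := classInner_irr_ne (χ := ⟨η, hη⟩) (ψ := ⟨η', hη'⟩) fun e => hne (congrArg Subtype.val e).symm
  change Cfsg.classInner η η' = 0 at h0
  have hc : η' = (η' 1 / η 1) • η := funext fun x => by
    rw [Pi.smul_apply, smul_eq_mul, div_mul_eq_mul_div, eq_div_iff (IsIrrCharacter.apply_one_ne_zero hη), h x,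
      mul_comm]
  rw [hc, classInner_smul_right, classInner_self_irr hη, mul_one, map_div₀, div_eq_zero_iff, map_eq_zero,
    map_eq_zero] at h0
  exact h0.elim (IsIrrCharacter.apply_one_ne_zero hη') (IsIrrCharacter.apply_one_ne_zero hη)

/-- The action on the kernel. -/
def au (r : G →* H) (sec : H →* G) : H →* MulAut r.ker := (MulAut.conjNormal).comp sec

/-- `l` is fixed by `h`. -/
def FixL (r : G →* H) (sec : H →* G) (h : H) (l : lc r.ker 1 →* ℂˣ) : Prop :=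
  ∀ x ∈ lc r.ker 1, ev l (au r sec h x) = ev l x

/-- An irreducible character of the kernel over `l`. -/
def Over {P : Type u} [Group P] (η : P → ℂ) (l : lc P 1 →* ℂˣ) : Prop :=
  Cfsg.IsIrrCharacter P η ∧ ∀ x : lc P 1, η x = η 1 * (l x : ℂ)

theorem exists_overL {P : Type u} [Group P] [Finite P] {l : lc P 1 →* ℂˣ} (hl : l ∈ Lam P 1) :
    ∃ η : P → ℂ, Over η l := by
  obtain ⟨η, hη, hs⟩ := exists_scalar_over (lc P 1) (lam_conj hl)
  exact ⟨η, hη, hs⟩

theorem deg_ne_one_of_over {P : Type u} [Group P] [Finite P] {η : P → ℂ} {l : lc P 1 →* ℂˣ}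
    (hη : Over η l) (hl1 : l ≠ 1) : deg η ≠ 1 := by
  intro h1
  have hη1 : η 1 = 1 := by rw [IsCharacter.apply_one_eq_deg (isCharacter_of_irr hη.1), h1, Nat.cast_one]
  obtain ⟨g, hg⟩ := exists_hom_of_deg_one (isCharacter_of_irr hη.1) hη1
  refine hl1 (MonoidHom.ext fun x => Units.ext ?_)
  have h2 := hη.2 x
  have hx : (x : P) ∈ g.ker := Abelianization.commutator_subset_ker g (lc_one.le x.2)
  rw [hη1, one_mul, hg] at h2
  simp only at h2
  rw [← h2, MonoidHom.mem_ker.1 hx]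
  rfl

namespace SData

variable {r : G →* H} {sec : H →* G} {f : ℕ} {A D Z : Subgroup H} {a : H} (s : SData r sec f A D Z a)
include s

theorem au_coe (h : H) (x : r.ker) : ((au r sec h x : r.ker) : G) = sec h * x * (sec h)⁻¹ :=
  MulAut.conjNormal_apply _ _

theorem sec_mem_inertia {h : H} {η : r.ker → ℂ} :
    sec h ∈ inertia r.ker η ↔ ∀ x, η (au r sec h x) = η x := by
  rw [mem_inertia, conjN_eq_comp, funext_iff]
  rfl

theorem inertia_eq_comap {η : r.ker → ℂ} (hη : Cfsg.IsIrrCharacter r.ker η) :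
    inertia r.ker η = ((inertia r.ker η).comap sec).comap r := by
  have hU := le_inertia (isClassFunction_isChar (isCharacter_of_irr hη)) (N := r.ker)
  ext g
  rw [Subgroup.mem_comap, Subgroup.mem_comap, ← Subgroup.mul_mem_cancel_left _ (hU (s.mul_inv_mem g))
    (y := sec (r g)), inv_mul_cancel_right]

/-- A character over `l ≠ 1` is fixed by an element of `A` which moves all linear characters. -/
theorem exists_fix_notin {ν₀ : r.ker →* ℂˣ} (hν₀ : ν₀ ≠ 1) {l : lc r.ker 1 →* ℂˣ} (hl1 : l ≠ 1)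
    {η : r.ker → ℂ} (hη : Over η l) :
    ∃ t ∈ A, t ∉ St r sec ν₀ ∧ ∀ x, η (au r sec t x) = η x := by
  classical
  haveI := Fintype.ofFinite G
  by_contra hno
  push Not at hno
  set JX := (inertia r.ker η).comap sec with hJX
  have hle : JX ⊓ A ≤ St r sec ν₀ := fun t ht => by
    by_contra h
    obtain ⟨x, hx⟩ := hno t ht.2 h
    exact hx (s.sec_mem_inertia.1 ht.1 x)
  obtain ⟨μ, hμ, hEμ, -⟩ := s.exists_fixed JX
    ((le_inf hle inf_le_right).trans (s.inf_le_Z hν₀)) hν₀ hle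
  obtain ⟨χ, hχ, hdvd⟩ := exists_over_deg r.ker hη.1
  obtain ⟨⟨ψ, hψ, hψd⟩, -⟩ := s.exists_deg hμ
  have hidx : (inertia r.ker η).index = JX.index := by
    rw [s.inertia_eq_comap hη.1, Subgroup.index_comap_of_surjective _ s.surj]
  have hd : (St r sec μ).index ∣ JX.index := Subgroup.index_dvd_of_le hEμ
  have h1 := s.one_lt_index hμ
  have h2 := s.nd.eq_of_dvd hψ hχ (by omega) (by
    rw [hψd]; exact hd.trans (dvd_trans (hidx ▸ dvd_mul_right _ _) hdvd))
  rw [h2, hψd, hidx] at hdvd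
  have h3 := hdvd.trans hd
  have hJpos : 0 < JX.index := Nat.pos_of_ne_zero JX.index_ne_zero_of_finite
  exact deg_ne_one_of_over hη hl1 (Nat.dvd_one.1 ((Nat.mul_dvd_mul_iff_left hJpos).1 (by rwa [mul_one])))

/-- A character over `l ≠ 1` vanishes off the commutator subgroup. -/
theorem vanish {ν₀ : r.ker →* ℂˣ} (hν₀ : ν₀ ≠ 1) {l : lc r.ker 1 →* ℂˣ} (hl1 : l ≠ 1)
    {η : r.ker → ℂ} (hη : Over η l) {x : r.ker} (hx : η x ≠ 0) : x ∈ lc r.ker 1 := by
  classical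
  letI : CommGroup A := { mul_comm := fun u v => Subtype.ext (s.abA u u.2 v v.2) }
  let act : A →* MulAut r.ker := (au r sec).comp A.subtype
  let top : r.ker →* lc r.ker 0 := (MonoidHom.id r.ker).codRestrict _ mem_lc_zero
  refine mem_of_forall_linK (L := lc r.ker 0) (x := ⟨x, mem_lc_zero x⟩)
    (fun u hu v hv => comm_mem_lc (by omega) hu hv) fun α hα => ?_
  refine eq_one_of_twist act hη.1 (lc r.ker 0) (Lam r.ker 0) (fun β hβ g y => lam_conj hβ g y)
    {t : A | (t : H) ∉ St r sec ν₀} (fun t _ y _ => mem_lc_zero _)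
    (fun t _ β hβ => ⟨pull act 0 t β, pull_mem act t hβ, fun y => rfl⟩) ?_ hα hx
  intro β hβ φ hφ hrel
  have hover : Over φ l := by
    refine ⟨hφ, fun y => mul_right_cancel₀ (IsIrrCharacter.apply_one_ne_zero hη.1) ?_⟩
    have h := hrel ⟨y, mem_lc_zero _⟩
    rw [hβ ⟨y, mem_lc_zero _⟩ y.2] at h
    change φ (y : r.ker) * η 1 = _
    rw [h, hη.2 y, Units.val_one]
    ring
  obtain ⟨t, htA, htν, htφ⟩ := s.exists_fix_notin hν₀ hl1 hover
  refine ⟨⟨t, htA⟩, htν, htφ, fun γ hγ hγfix => ?_⟩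
  set ν : r.ker →* ℂˣ := γ.comp top with hν
  have hνfix : la r sec t⁻¹ ν = ν := MonoidHom.ext fun y => by
    show conjLin r.ker (sec t⁻¹) ν y = ν y
    rw [conjLin_apply]
    refine Eq.trans (congrArg γ (Subtype.ext (Subtype.ext ?_))) (hγfix ⟨y, mem_lc_zero y⟩)
    show (sec t⁻¹)⁻¹ * (y : G) * sec t⁻¹ = ((au r sec t y : r.ker) : G)
    rw [s.au_coe, map_inv, inv_inv]
  by_cases hν1 : ν = 1
  · exact MonoidHom.ext fun y => DFunLike.congr_fun hν1 (y : r.ker)
  · have h := (s.stab_inf hν1 hν₀).le ⟨Subgroup.inv_mem _ (show t⁻¹ ∈ St r sec ν from hνfix) |> (inv_inv t ▸ ·), htA⟩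
    exact absurd h.1 htν

theorem over_unique {ν₀ : r.ker →* ℂˣ} (hν₀ : ν₀ ≠ 1) {l : lc r.ker 1 →* ℂˣ} (hl1 : l ≠ 1)
    {η η' : r.ker → ℂ} (hη : Over η l) (hη' : Over η' l) : η' = η := by
  refine eq_of_proportional hη.1 hη'.1 fun x => ?_
  by_cases hx : x ∈ lc r.ker 1
  · rw [hη.2 ⟨x, hx⟩, hη'.2 ⟨x, hx⟩]; ring
  · have h1 : η x = 0 := by_contra fun h => hx (s.vanish hν₀ hl1 hη h)
    have h2 : η' x = 0 := by_contra fun h => hx (s.vanish hν₀ hl1 hη' h)
    rw [h1, h2, zero_mul, zero_mul]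

theorem nondeg {ν₀ : r.ker →* ℂˣ} (hν₀ : ν₀ ≠ 1) {l : lc r.ker 1 →* ℂˣ} (hl : l ∈ Lam r.ker 1) (hl1 : l ≠ 1)
    {x : r.ker} (hx : ∀ y, ev l ⁅x, y⁆ = 1) : x ∈ lc r.ker 1 := by
  classical
  obtain ⟨η, hη⟩ := exists_overL hl
  refine s.vanish hν₀ hl1 hη fun h0 => ?_
  haveI := kerSubgroup_normal (isCharacter_of_irr hη.1)
  have hx' : x ∈ centralMod (kerSubgroup η (isCharacter_of_irr hη.1)) := mem_centralMod.2 fun y => by
    rw [mem_kerSubgroup]
    have hm : ⁅x, y⁆ ∈ lc r.ker 1 := comm_mem_lc (i := 0) (j := 0) (by omega) (mem_lc_zero x) (mem_lc_zero y)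
    show η ⁅x, y⁆ = η 1
    rw [hη.2 ⟨_, hm⟩, ← ev_mem l hm, hx y, Units.val_one, mul_one]
  have h := conj_mul_self hη.1 (fun k hk => hk) hx'
  rw [h0, zero_mul] at h
  have hpos : (deg η : ℂ) ≠ 0 := Nat.cast_ne_zero.2 (deg_pos hη.1).ne'
  exact mul_ne_zero hpos hpos h.symm

theorem fix_over {ν₀ : r.ker →* ℂˣ} (hν₀ : ν₀ ≠ 1) {l : lc r.ker 1 →* ℂˣ} (hl1 : l ≠ 1)
    {η : r.ker → ℂ} (hη : Over η l) {h : H} (hh : FixL r sec h l) : ∀ x, η (au r sec h x) = η x := by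
  have hover : Over (fun x => η (au r sec h x)) l := by
    refine ⟨IsIrrCharacter.comp_mulEquiv hη.1 (au r sec h), fun x => ?_⟩
    have hm : au r sec h (x : r.ker) ∈ lc r.ker 1 := map_mem_lc _ x.2
    show η (au r sec h x) = η (au r sec h 1) * _
    rw [map_one, hη.2 ⟨_, hm⟩, ← ev_mem l hm, hh x x.2, ev_coe]
  exact fun x => congrFun (s.over_unique hν₀ hl1 hη hover) x

/-- `D` is cyclic. -/
theorem isCyclic_D {ν₀ : r.ker →* ℂˣ} (hν₀ : ν₀ ≠ 1) : IsCyclic D := by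
  letI : CommGroup D := { mul_comm := fun u v => Subtype.ext (s.abA u (s.DA u.2) v (s.DA v.2)) }
  obtain ⟨p, hp, hpν⟩ := Nat.exists_prime_and_dvd (fun h => hν₀ (orderOf_eq_one_iff.1 h) : orderOf ν₀ ≠ 1)
  set v := ν₀ ^ (orderOf ν₀ / p) with hv
  have hvp : orderOf v = p := orderOf_pow_orderOf_div (orderOf_pos ν₀).ne' hpν
  refine isCyclic_of_fpf (V := r.ker →* ℂˣ) ((la r sec).comp D.subtype) (fun d hd w hw => ?_) ⟨v, fun p' hp' hdvd h => ?_⟩
  · by_contra h
    exact hd (Subtype.ext (s.semireg d.2 h hw))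
  · have h1 : p ∣ p' := hvp ▸ orderOf_dvd_of_pow_eq_one h
    exact s.copW hp (hvp ▸ orderOf_dvd_natCard v) ((Nat.prime_dvd_prime_iff_eq hp hp').1 h1 ▸ hdvd)

/-- No nontrivial element of `D` fixes a nontrivial character of the first commutator factor. -/
theorem semireg_lam {ν₀ : r.ker →* ℂˣ} (hν₀ : ν₀ ≠ 1) {l : lc r.ker 1 →* ℂˣ} (hl : l ∈ Lam r.ker 1) (hl1 : l ≠ 1)
    {δ : H} (hδD : δ ∈ D) (hδ : FixL r sec δ l) : δ = 1 := by
  classical
  haveI := s.normA
  haveI := s.normD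
  haveI := Fintype.ofFinite G
  by_contra hδ1
  obtain ⟨η, hη⟩ := exists_overL hl
  set X := inertia r.ker η with hX
  set JX := X.comap sec with hJX
  have hXe : X = JX.comap r := s.inertia_eq_comap hη.1
  set R := JX ⊓ D with hR
  have hδR : δ ∈ R := ⟨s.sec_mem_inertia.2 (s.fix_over hν₀ hl1 hη hδ), hδD⟩
  haveI hcD : IsCyclic D := s.isCyclic_D hν₀
  haveI hRn : R.Normal := ⟨fun x hx g => by
    obtain ⟨m, hm⟩ := MonoidHom.map_cyclic (MulAut.conjNormal g : MulAut D).toMonoidHom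
    have h1 := congrArg Subtype.val (hm ⟨x, hx.2⟩)
    rw [MulEquiv.coe_toMonoidHom, MulAut.conjNormal_apply, Subgroup.coe_zpow] at h1
    rw [show g * x * g⁻¹ = x ^ m from h1]
    exact Subgroup.zpow_mem _ hx m⟩
  haveI hcR : IsCyclic R := isCyclic_of_injective (Subgroup.inclusion (inf_le_right : R ≤ D))
    (Subgroup.inclusion_injective _)
  set Y : Subgroup G := R.comap r with hY
  haveI hYn : Y.Normal := inferInstance
  haveI := Fintype.ofFinite Y
  have hUY : r.ker ≤ Y := fun u hu => by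
    rw [hY, Subgroup.mem_comap, MonoidHom.mem_ker.1 hu]; exact R.one_mem
  have hYX : Y ≤ X := fun y hy => hXe.ge (show r y ∈ JX from (Subgroup.mem_comap.1 hy).1)
  let ι := Subgroup.subgroupOfEquivOfLe hUY
  let rY : Y →* R := (r.comp Y.subtype).codRestrict R fun y => y.2
  have hrY : Function.Surjective rY := fun z => ⟨⟨sec z, by rw [hY, Subgroup.mem_comap, s.hrs]; exact z.2⟩,
    Subtype.ext (s.hrs z)⟩
  have hkerY : r.ker.subgroupOf Y = rY.ker := by
    ext y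
    exact ⟨fun h => Subtype.ext h, fun h => congrArg Subtype.val h⟩
  haveI hcycY : IsCyclic (Y ⧸ r.ker.subgroupOf Y) := by
    refine isCyclic_of_injective (QuotientGroup.lift _ rY hkerY.le) ?_
    rw [injective_iff_map_eq_one]
    intro z
    induction z using QuotientGroup.induction_on with
    | _ y => exact fun hz => (QuotientGroup.eq_one_iff y).2 (hkerY.ge hz)
  obtain ⟨ψ₀, hψ₀, hψ₀res⟩ := exists_extension_sylow (r.ker.subgroupOf Y) (θ := fun x => η (ι x))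
    (IsIrrCharacter.comp_mulEquiv hη.1 ι) (fun g => funext fun x => congrFun (mem_inertia.1 (hYX g.2)) (ι x))
    (fun p _ S => Or.inr inferInstance)
  let IsExt : (Y → ℂ) → Prop := fun ψ => Cfsg.IsIrrCharacter Y ψ ∧ ∀ n : r.ker, ψ ⟨n, hUY n.2⟩ = η n
  have hψ₀E : IsExt ψ₀ := ⟨hψ₀, fun n => hψ₀res (ι.symm n)⟩
  let tw : (R →* ℂˣ) → (Y → ℂ) → Y → ℂ := fun μ ψ => fun y => (μ (rY y) : ℂ) * ψ y
  have htwE : ∀ μ ψ, IsExt ψ → IsExt (tw μ ψ) := fun μ ψ hψ => ⟨IsIrrCharacter.mul_linear hψ.1 (μ.comp rY), fun n => by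
    show ((μ (rY _) : ℂˣ) : ℂ) * ψ _ = _
    rw [show rY ⟨n, hUY n.2⟩ = 1 from Subtype.ext n.2, map_one, Units.val_one, one_mul, hψ.2]⟩
  have hresY : ∀ ψ, IsExt ψ → Cfsg.IsIrrCharacter (r.ker.subgroupOf Y) (fun x : r.ker.subgroupOf Y => ψ x) := by
    intro ψ hψ
    rw [show (fun x : r.ker.subgroupOf Y => ψ x) = fun x => η (ι x) from funext fun x => hψ.2 (ι x)]
    exact IsIrrCharacter.comp_mulEquiv hη.1 ι
  have htw_inj : ∀ μ ψ, IsExt ψ → tw μ ψ = ψ → μ = 1 := by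
    intro μ ψ hψ h
    have h2 := (gallagher_trivial (r.ker.subgroupOf Y) hψ.1 (hresY ψ hψ)
      (isIrrCharacter_linear (μ.comp rY)) isIrrCharacter_one
      (fun n => by
        show ((μ (rY _) : ℂˣ) : ℂ) = ((μ (rY 1) : ℂˣ) : ℂ)
        rw [map_one, show rY n = 1 from hkerY.le n.2])
      (fun _ => rfl)).2 (h.trans (funext fun y => (one_mul (ψ y)).symm))
    refine MonoidHom.ext fun z => ?_
    obtain ⟨y, rfl⟩ := hrY z
    exact Units.ext (congrFun h2 y)
  have htw_all : ∀ ψ ψ', IsExt ψ → IsExt ψ' → ∃ μ, ψ' = tw μ ψ := by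
    intro ψ ψ' hψ hψ'
    obtain ⟨b, hb, hfac, hbN⟩ := exists_factor_extension (r.ker.subgroupOf Y) hψ.1 (hresY ψ hψ) hψ'.1 (e := 1)
      (fun x => by rw [Nat.cast_one, one_mul]; exact (hψ'.2 (ι x)).trans (hψ.2 (ι x)).symm)
    have hb1 : b 1 = 1 := by
      have h1 := congrFun hfac 1
      have h2 : ψ' 1 = ψ 1 := (hψ'.2 1).trans (hψ.2 1).symm
      rw [h2, Pi.mul_apply, eq_comm, mul_eq_right₀ (IsIrrCharacter.apply_one_ne_zero hψ.1)] at h1
      exact h1
    obtain ⟨g, hg⟩ := exists_hom_of_deg_one (isCharacter_of_irr hb) hb1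
    have hk : rY.ker ≤ g.ker := fun y hy => Units.ext (by
      have h1 := hbN ⟨y, hkerY.ge hy⟩
      rw [hb1, hg] at h1
      exact h1)
    refine ⟨MonoidHom.liftOfSurjective rY hrY ⟨g, hk⟩, funext fun y => ?_⟩
    show ψ' y = ((MonoidHom.liftOfSurjective rY hrY ⟨g, hk⟩ (rY y) : ℂˣ) : ℂ) * ψ y
    rw [MonoidHom.liftOfRightInverse_comp_apply, hfac, Pi.mul_apply, hg]
  have hconjE : ∀ g ∈ X, ∀ ψ, IsExt ψ → IsExt (conjN Y g ψ) := fun g hg ψ hψ => ⟨IsIrrCharacter.conjN hψ.1 g, fun n =>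
    (hψ.2 ⟨_, (inferInstance : r.ker.Normal).conj_mem n n.2 g⟩).trans (congrFun (mem_inertia.1 hg) n)⟩
  have hconj_tw : ∀ (g : G) μ ψ, conjN Y g (tw μ ψ) =
      tw (μ.comp (MulAut.conjNormal (r g) : MulAut R).toMonoidHom) (conjN Y g ψ) := by
    intro g μ ψ
    funext y
    show ((μ _ : ℂˣ) : ℂ) * _ = ((μ _ : ℂˣ) : ℂ) * _
    refine congrArg (fun z => ((μ z : ℂˣ) : ℂ) * _) (Subtype.ext ?_)
    show r (g * (y : G) * g⁻¹) = _
    rw [MulEquiv.coe_toMonoidHom, MulAut.conjNormal_apply, map_mul, map_mul, map_inv]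
    rfl
  have hfixY : ∀ g ∈ Y, ∀ ψ, IsExt ψ → conjN Y g ψ = ψ := fun g hg ψ hψ =>
    conjN_of_mem (isClassFunction_isChar (isCharacter_of_irr hψ.1)) ⟨g, hg⟩
  -- a character of `R` invariant under an element outside `A` is trivial
  have hinjD : ∀ h : H, h ∉ A → ∀ u ∈ D, ∀ v ∈ D, ⁅h, u⁆ = ⁅h, v⁆ → u = v := by
    intro h hh u hu v hv huv
    have h1 : h * u * h⁻¹ * u⁻¹ = h * v * h⁻¹ * v⁻¹ := huv
    have hc : h * (v⁻¹ * u) = v⁻¹ * u * h := by
      calc h * (v⁻¹ * u) = (h * v * h⁻¹)⁻¹ * (h * u * h⁻¹ * u⁻¹) * u * h := by group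
        _ = (h * v * h⁻¹)⁻¹ * (h * v * h⁻¹ * v⁻¹) * u * h := by rw [h1]
        _ = _ := by group
    have h2 : v⁻¹ * u ∈ D ⊓ Z := ⟨D.mul_mem (D.inv_mem hv) hu,
      s.cent h hh _ (A.mul_mem (A.inv_mem (s.DA hv)) (s.DA hu)) hc⟩
    rw [s.inf, Subgroup.mem_bot] at h2
    exact (inv_mul_eq_one.1 h2).symm
  have hsurjR : ∀ h : H, h ∉ A → ∀ z : R, ∃ y : R,
      (MulAut.conjNormal h : MulAut R) y * y⁻¹ = z := by
    intro h hh
    refine Finite.injective_iff_surjective.1 fun u v huv => Subtype.ext (hinjD h hh u u.2.2 v v.2.2 ?_)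
    have h1 := congrArg Subtype.val huv
    simp only [Subgroup.coe_mul, Subgroup.coe_inv, MulAut.conjNormal_apply] at h1
    rw [commutatorElement_def, commutatorElement_def]
    exact h1
  have hmu : ∀ h : H, h ∉ A → ∀ μ : R →* ℂˣ, μ.comp (MulAut.conjNormal h : MulAut R).toMonoidHom = μ → μ = 1 := by
    intro h hh μ hμ
    refine MonoidHom.ext fun z => ?_
    obtain ⟨y, rfl⟩ := hsurjR h hh z
    rw [map_mul, map_inv, show μ ((MulAut.conjNormal h : MulAut R) y) = μ y from DFunLike.congr_fun hμ y,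
      mul_inv_cancel]
    rfl
  -- every extension is fixed by an element outside `A`
  have hex : ∀ ψ, IsExt ψ → ∃ h ∈ X, r h ∉ A ∧ conjN Y h ψ = ψ := by
    intro ψ hψ
    have hsub : inertia Y ψ ≤ X := fun g hg => mem_inertia.2 (funext fun n => by
      show η ⟨g * n * g⁻¹, _⟩ = η n
      rw [← hψ.2, ← hψ.2]
      exact congrFun (mem_inertia.1 hg) ⟨n, hUY n.2⟩)
    by_contra hno
    push Not at hno
    have hle : inertia Y ψ ≤ A.comap r := fun g hg => by
      by_contra hgA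
      exact hno g (hsub hg) hgA (mem_inertia.1 hg)
    obtain ⟨χ, hχ, hdvd⟩ := exists_over_deg Y hψ.1
    obtain ⟨φ, hφ, hφd⟩ := s.exf
    have hf : f ∣ (inertia Y ψ).index := by
      rw [← s.index, ← Subgroup.index_comap_of_surjective A s.surj]
      exact Subgroup.index_dvd_of_le hle
    have h2 := s.nd.eq_of_dvd hφ hχ (by have := s.one_lt; omega) (by rw [hφd]; exact (hf.mul_right _).trans hdvd)
    rw [h2, hφd] at hdvd
    have h3 : (inertia Y ψ).index * deg ψ ∣ (inertia Y ψ).index * 1 := by rw [mul_one]; exact hdvd.trans hf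
    have h4 := Nat.dvd_one.1 ((Nat.mul_dvd_mul_iff_left
      (Nat.pos_of_ne_zero (inertia Y ψ).index_ne_zero_of_finite)).1 h3)
    refine deg_ne_one_of_over hη hl1 ?_
    rw [← h4]
    exact congrArg (fun z : ℂ => ⌊z.re⌋₊) (hψ.2 1).symm
  -- elements lying over `A` fix every extension
  have hfixA : ∀ g ∈ X, r g ∈ A → ∀ ψ, IsExt ψ → conjN Y g ψ = ψ := by
    intro g hg hgA ψ hψ
    obtain ⟨h, hhX, hhA, hhfix⟩ := hex ψ hψ
    obtain ⟨d, hd, z, hz, hdz⟩ := Subgroup.mem_sup_of_normal_left.1 (s.sup.ge hgA)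
    have hrhJ : r h ∈ JX := hXe.le hhX
    have hrgJ : r g ∈ JX := hXe.le hg
    have hc : ⁅r h, d⁆ ∈ R := by
      refine ⟨?_, ?_⟩
      · rw [show ⁅r h, d⁆ = ⁅r h, r g⁆ by
          rw [← hdz, commutatorElement_def, commutatorElement_def,
            show r h * (d * z) * (r h)⁻¹ = r h * d * (r h)⁻¹ * z by
              rw [mul_assoc (r h) d z |>.symm, mul_assoc (r h * d), s.Zc z hz (r h)⁻¹ |>.symm, ← mul_assoc],
            mul_inv_rev, ← mul_assoc, mul_inv_cancel_right]]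
        exact Subgroup.mul_mem _ (Subgroup.mul_mem _ (Subgroup.mul_mem _ hrhJ hrgJ) (Subgroup.inv_mem _ hrhJ))
          (Subgroup.inv_mem _ hrgJ)
      · rw [commutatorElement_def]
        exact D.mul_mem (s.normD.conj_mem d hd (r h)) (D.inv_mem hd)
    obtain ⟨y, hy⟩ := hsurjR (r h) hhA ⟨_, hc⟩
    have h1 := congrArg Subtype.val hy
    rw [Subgroup.coe_mul, Subgroup.coe_inv, MulAut.conjNormal_apply] at h1
    have hdy : d = y := hinjD (r h) hhA d hd y y.2.2 (by rw [commutatorElement_def (r h) (y : H)]; exact h1.symm)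
    have hdR : d ∈ R := hdy ▸ y.2
    have hzJ : z ∈ JX := by
      rw [show z = d⁻¹ * r g by rw [← hdz, inv_mul_cancel_left]]
      exact Subgroup.mul_mem _ (Subgroup.inv_mem _ hdR.1) hrgJ
    have hzX : sec z ∈ X := hzJ
    set c := g * (sec z)⁻¹ with hc'
    have hcY : c ∈ Y := by
      rw [hY, Subgroup.mem_comap, hc', map_mul, map_inv, s.hrs, ← hdz, mul_inv_cancel_right]
      exact hdR
    rw [show g = c * sec z by rw [hc', inv_mul_cancel_right], conjN_mul, hfixY c hcY ψ hψ]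
    obtain ⟨μ, hμ⟩ := htw_all ψ _ hψ (hconjE _ hzX ψ hψ)
    set e := sec z * h * (sec z)⁻¹ * h⁻¹
    have heY : e ∈ Y := by
      rw [hY, Subgroup.mem_comap, map_mul, map_mul, map_mul, map_inv, map_inv, s.hrs, ← s.Zc z hz (r h),
        mul_inv_cancel_right, mul_inv_cancel]
      exact R.one_mem
    have h2 : conjN Y h (conjN Y (sec z) ψ) = conjN Y (sec z) ψ := by
      rw [← conjN_mul, show sec z * h = e * (h * sec z) by simp only [e]; group, conjN_mul, hfixY e heY ψ hψ,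
        conjN_mul, hhfix]
    rw [hμ, hconj_tw, hhfix] at h2
    have h3 : μ = 1 := hmu (r h) hhA μ (eq_of_div_eq_one (htw_inj _ _ (htwE μ ψ hψ) (by
      funext y
      have h4 := congrFun h2 y
      show ((_ / μ (rY y) : ℂˣ) : ℂ) * ((μ (rY y) : ℂ) * ψ y) = (μ (rY y) : ℂ) * ψ y
      rw [← mul_assoc, ← Units.val_mul, div_mul_cancel]
      exact h4)))
    rw [hμ, h3]
    funext y
    exact one_mul _
  -- an element outside `A` fixes at most one extension
  have hone : ∀ g : G, r g ∉ A → ∀ ψ μ, IsExt ψ → conjN Y g ψ = ψ → conjN Y g (tw μ ψ) = tw μ ψ → μ = 1 := by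
    intro g hgA ψ μ hψ h1 h2
    rw [hconj_tw, h1] at h2
    refine hmu (r g) hgA μ (eq_of_div_eq_one (htw_inj _ _ (htwE μ ψ hψ) ?_))
    funext y
    show ((_ / μ (rY y) : ℂˣ) : ℂ) * ((μ (rY y) : ℂ) * ψ y) = (μ (rY y) : ℂ) * ψ y
    rw [← mul_assoc, ← Units.val_mul, div_mul_cancel]
    exact congrFun h2 y
  haveI := s.cyc
  let π : G →* H ⧸ A := (QuotientGroup.mk' A).comp r
  obtain ⟨cg, hcg⟩ := IsCyclic.exists_generator (α := X.map π)
  obtain ⟨g0, hg0X, hg0⟩ := cg.2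
  have hg0fix : ∀ ψ, IsExt ψ → conjN Y g0 ψ = ψ ∧ r g0 ∉ A := by
    intro ψ hψ
    obtain ⟨h, hhX, hhA, hhfix⟩ := hex ψ hψ
    obtain ⟨i, hi⟩ := hcg ⟨π h, Subgroup.mem_map_of_mem π hhX⟩
    have hi' : π g0 ^ i = π h := by
      have h1 := congrArg Subtype.val hi
      simp only [Subgroup.coe_zpow] at h1
      rwa [← hg0] at h1
    set w := h * (g0 ^ i)⁻¹
    have hwX : w ∈ X := Subgroup.mul_mem _ hhX (Subgroup.inv_mem _ (Subgroup.zpow_mem _ hg0X i))
    have hwA : r w ∈ A := (QuotientGroup.eq_one_iff (r w)).1 (by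
      show π (h * (g0 ^ i)⁻¹) = 1
      rw [map_mul, map_inv, map_zpow, hi', mul_inv_cancel])
    have hpw : conjN Y (g0 ^ i) ψ = ψ := by
      rw [show h = w * g0 ^ i by simp only [w]; group, conjN_mul, hfixA w hwX hwA ψ hψ] at hhfix
      exact hhfix
    have hri : r (g0 ^ i) ∉ A := fun hA => hhA (by
      rw [show h = w * g0 ^ i by simp only [w]; group, map_mul]
      exact A.mul_mem hwA hA)
    have hr0 : r g0 ∉ A := fun hA => hri (by rw [map_zpow]; exact A.zpow_mem hA i)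
    refine ⟨?_, hr0⟩
    obtain ⟨μ, hμ⟩ := htw_all ψ _ hψ (hconjE g0 hg0X ψ hψ)
    have h2 : conjN Y (g0 ^ i) (conjN Y g0 ψ) = conjN Y g0 ψ := by
      rw [← conjN_mul, show g0 * g0 ^ i = g0 ^ i * g0 from (Commute.zpow_right (Commute.refl g0) i).eq, conjN_mul, hpw]
    rw [hμ] at h2
    rw [hμ, hone _ hri ψ μ hψ hpw h2]
    funext y
    exact one_mul _
  haveI : Fintype R := Fintype.ofFinite R
  letI : CommGroup R := { mul_comm := fun u v => Subtype.ext (s.abA u (s.DA u.2.2) v (s.DA v.2.2)) }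
  obtain ⟨μ, hμ⟩ := CommGroup.exists_apply_ne_one_of_hasEnoughRootsOfUnity R ℂ
    (a := (⟨δ, hδR⟩ : R)) (fun h => hδ1 (congrArg Subtype.val h))
  refine hμ (DFunLike.congr_fun (hone g0 (hg0fix _ hψ₀E).2 ψ₀ μ hψ₀E (hg0fix _ hψ₀E).1
    (hg0fix _ (htwE μ ψ₀ hψ₀E)).1) ⟨δ, hδR⟩)

/-- The kernel is abelian. -/
theorem kernel_comm : ∀ x y : r.ker, x * y = y * x := by
  classical
  by_contra hcon
  haveI : Group.IsNilpotent r.ker := s.nil
  have h1ne : lc r.ker 1 ≠ ⊥ := fun h => hcon fun x y => commutatorElement_eq_one_iff_mul_comm.1 (by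
    rw [← Subgroup.mem_bot, ← h, lc_one]
    exact Subgroup.commutator_mem_commutator (Subgroup.mem_top x) (Subgroup.mem_top y))
  have hstab : ∀ k, lc r.ker k ≠ ⊥ → ¬ lc r.ker k ≤ lc r.ker (k + 1) := by
    intro k hk hle
    obtain ⟨n, hn⟩ := Subgroup.nilpotent_iff_lowerCentralSeries.1 s.nil
    have hall : ∀ i, lc r.ker k ≤ lc r.ker (k + i) := by
      intro i
      induction i with
      | zero => exact le_rfl
      | succ i ih =>
        refine hle.trans ?_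
        rw [← Nat.add_assoc, lc_succ, lc_succ]
        exact Subgroup.commutator_mono ih le_rfl
    exact hk (le_bot_iff.1 ((hall n).trans ((lc_anti (Nat.le_add_left n k)).trans hn.le)))
  have hab : ∀ k, ∀ u ∈ lc r.ker k, ∀ v ∈ lc r.ker k, ⁅u, v⁆ ∈ lc r.ker (k + 1) := fun k u hu v hv =>
    comm_mem_lc (by omega) hu hv
  obtain ⟨x₀, -, hx₀⟩ := SetLike.not_le_iff_exists.1 (hstab 0 fun h => h1ne (le_bot_iff.1 ((lc_anti zero_le_one).trans h.le)))
  obtain ⟨β, hβ, hβ1⟩ := exists_linK_ne_one (hab 0) (x := ⟨x₀, mem_lc_zero x₀⟩) hx₀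
  let top : r.ker →* lc r.ker 0 := (MonoidHom.id r.ker).codRestrict _ mem_lc_zero
  have hν₀ : β.comp top ≠ 1 := fun h => hβ1 (DFunLike.congr_fun h x₀)
  obtain ⟨x₁, hx₁, hx₁'⟩ := SetLike.not_le_iff_exists.1 (hstab 1 h1ne)
  obtain ⟨l₀, hl₀, hl₀1⟩ := exists_linK_ne_one (hab 1) (x := ⟨x₁, hx₁⟩) hx₁'
  have hl₀ne : l₀ ≠ 1 := fun h => hl₀1 (by rw [h]; rfl)
  obtain ⟨p, hp, hpl⟩ := Nat.exists_prime_and_dvd (fun h => hl₀ne (orderOf_eq_one_iff.1 h) : orderOf l₀ ≠ 1)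
  haveI := Fact.mk hp
  let Λ : Subgroup (lc r.ker 1 →* ℂˣ) :=
    { carrier := {l | l ∈ Lam r.ker 1 ∧ l ^ p = 1}
      one_mem' := ⟨Subgroup.one_mem _, one_pow p⟩
      mul_mem' := fun {u v} hu hv => ⟨Subgroup.mul_mem _ hu.1 hv.1, by rw [mul_pow, hu.2, hv.2]; exact one_mul (1 : lc r.ker 1 →* ℂˣ)⟩
      inv_mem' := fun {u} hu => ⟨Subgroup.inv_mem _ hu.1, by rw [inv_pow, hu.2]; exact inv_one (G := lc r.ker 1 →* ℂˣ)⟩ }
  set l₁ := l₀ ^ (orderOf l₀ / p) with hl₁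
  have hl₁p : orderOf l₁ = p := orderOf_pow_orderOf_div (orderOf_pos l₀).ne' hpl
  have hl₁Λ : l₁ ∈ Λ := ⟨Subgroup.pow_mem _ hl₀ _, by rw [← hl₁p, pow_orderOf_eq_one]⟩
  have hl₁ne : l₁ ≠ 1 := fun h => by
    rw [h, orderOf_one] at hl₁p
    exact hp.one_lt.ne hl₁p
  haveI : Finite Λ := inferInstance
  letI : CommGroup A := { mul_comm := fun u v => Subtype.ext (s.abA u u.2 v v.2) }
  let act : A →* MulAut r.ker := (au r sec).comp A.subtype
  -- the orbit of `l₁` is regular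
  have hlt : Nat.card D < Nat.card Λ := by
    let F : Option D → Λ := fun o => o.elim 1 fun d =>
      ⟨pull act 1 ⟨d, s.DA d.2⟩ l₁, pull_mem act _ hl₁Λ.1, MonoidHom.ext fun x => by
        rw [MonoidHom.pow_apply]; exact DFunLike.congr_fun hl₁Λ.2 _⟩
    have hne : ∀ d : D, pull act 1 ⟨d, s.DA d.2⟩ l₁ ≠ 1 := fun d h => hl₁ne (by
      rw [← pull_one act 1 l₁, ← inv_mul_cancel (⟨(d : H), s.DA d.2⟩ : A), pull_mul, h]
      rfl)
    have hF : Function.Injective F := by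
      rintro (_ | u) (_ | v) huv
      · rfl
      · exact absurd (congrArg Subtype.val huv).symm (hne v)
      · exact absurd (congrArg Subtype.val huv) (hne u)
      · have h1 : pull act 1 ⟨u, s.DA u.2⟩ l₁ = pull act 1 ⟨v, s.DA v.2⟩ l₁ := congrArg Subtype.val huv
        have h2 : pull act 1 ((⟨v, s.DA v.2⟩ : A)⁻¹ * ⟨u, s.DA u.2⟩) l₁ = l₁ := by
          rw [pull_mul, h1, ← pull_mul, inv_mul_cancel, pull_one]
        have h3 : (v : H)⁻¹ * u = 1 := s.semireg_lam hν₀ hl₁Λ.1 hl₁ne (D.mul_mem (D.inv_mem v.2) u.2) fun x hx => by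
          have h4 := ev_pull act 1 ((⟨v, s.DA v.2⟩ : A)⁻¹ * ⟨u, s.DA u.2⟩) l₁ hx
          rw [h2] at h4
          exact h4.symm
        exact congrArg some (Subtype.ext (inv_mul_eq_one.1 h3).symm)
    have h := Nat.card_le_card_of_injective F hF
    rw [Finite.card_option] at h
    omega
  -- the pairings bound the family
  have hsq : Nat.card Λ ^ 2 ≤ Nat.card (r.ker →* ℂˣ) := by
    have hexp : ∀ x : r.ker, x ^ p ∈ lc r.ker 1 := fun x => s.nondeg hν₀ hl₁Λ.1 hl₁ne fun y => by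
      have hpair := isPairing_ev (i := 0) (j := 0) (k := 1) (by omega) hl₁Λ.1
      have h := IsPairing.pow_left hpair (⟨x, mem_lc_zero x⟩ : lc r.ker 0) (⟨y, mem_lc_zero y⟩ : lc r.ker 0) p
      have hm : ⁅x, y⁆ ∈ lc r.ker 1 := comm_mem_lc (i := 0) (j := 0) (by omega) (mem_lc_zero x) (mem_lc_zero y)
      refine h.trans ?_
      show ev l₁ ⁅x, y⁆ ^ p = 1
      rw [ev_mem _ hm, ← MonoidHom.pow_apply, hl₁Λ.2]
      rfl
    have hK : lc r.ker 1 ≠ ⊤ := fun h => hx₀ (by rw [h]; exact Subgroup.mem_top _)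
    have h := card_family_sq_le p (Λ := Λ) (fun l => Subtype.ext l.2.2) (lc r.ker 1) hexp hK
      (fun l x y => ev (l : lc r.ker 1 →* ℂˣ) ⁅x, y⁆)
      (fun l => ⟨fun x x' y => ev_comm_mul_left (i := 0) (j := 0) (by omega) l.2.1 (mem_lc_zero x) (mem_lc_zero x') (mem_lc_zero y),
        fun x y y' => ev_comm_mul_right (i := 0) (j := 0) (by omega) l.2.1 (mem_lc_zero x) (mem_lc_zero y) (mem_lc_zero y')⟩)
      (fun l l' x y => ev_mul_left _ _ _)
      (fun l x => ev_comm_self _ x)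
      (fun l k hk y => ev_next l.2.1 (comm_mem_lc (i := 1) (j := 0) (by omega) hk (mem_lc_zero y)))
      (fun l hl x hx => s.nondeg hν₀ l.2.1 (fun e => hl (Subtype.ext e)) hx)
    refine h.trans ?_
    have hi : (lc r.ker 1).index = Nat.card (Lam r.ker 0) := by
      show _ = Nat.card (linK (lc r.ker 0) (lc r.ker 1))
      rw [card_linK_relIndex (lc_anti zero_le_one) (hab 0)]
      show _ = (lc r.ker 1).relIndex ⊤
      rw [Subgroup.relIndex_top_right]
    rw [hi]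
    refine Nat.card_le_card_of_injective (fun γ : Lam r.ker 0 => (γ : lc r.ker 0 →* ℂˣ).comp top) fun γ γ' h => ?_
    exact Subtype.ext (MonoidHom.ext fun y => DFunLike.congr_fun h (y : r.ker))
  exact s.count_absurd ⟨_, hν₀⟩ hlt hsq

/-- The degrees. -/
theorem degs : ∃ d : ℕ, ∀ χ : G → ℂ, Cfsg.IsIrrCharacter G χ → deg χ = 1 ∨ deg χ = f ∨ deg χ = d :=
  s.degs_of_comm s.kernel_comm

end SData

end Cfsg.Lib.NDAD
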